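import Cfsg.Agent.UGT.TriBase

/-!
# Products of 2-components with centre-free quotients

* `mem_core`: an element of a product of 2-components of `H` (with centre-free quotients) fixing all of them lies in
  `O(H)`;
* `not_mem`: an involution `d` is not in a product of 2-components of `C(d)` with centre-free quotients.
* `InnK`: the elements of `N(K)` acting as inner automorphisms on `K / O(K)`.
-/

set_option autoImplicit false
set_option linter.unusedSectionVars false

open Cfsg Subgroup
open Cfsg.Agent.SignalizersComponents Cfsg.Agent.Lib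
open Cfsg.Agent.SignalizersComponents.IntrinsicBasic
open Cfsg.Agent.Intrinsic.Basic Cfsg.Agent.Intrinsic.Cen
open Cfsg.Agent.McLLyComp.Act
open Cfsg.Agent.UGT.Triple Cfsg.Agent.UGT.TriBase
open scoped commutatorElement

namespace Cfsg.Agent.UGT.A7.BProd

variable {G : Type*} [Group G]

/-- the elements fixing `K / O(K)` -/
def FixK (K : Subgroup G) : Subgroup G where
  carrier := {g | Fixes g K}
  mul_mem' := fun h1 h2 => fixes_mul h1 h2
  one_mem' := fixes_one K
  inv_mem' := fun h => fixes_inv h

theorem mem_FixK {K : Subgroup G} {g : G} : g ∈ FixK K ↔ Fixes g K := Iff.rfl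

/-- the elements of `N(K)` acting as inner automorphisms on `K / O(K)` -/
def InnK (K : Subgroup G) : Subgroup G where
  carrier := {g | ∃ k ∈ K, Fixes (g * k⁻¹) K}
  mul_mem' := by
    rintro a b ⟨k, hk, h1⟩ ⟨l, hl, h2⟩
    refine ⟨k * l, mul_mem hk hl, ?_⟩
    have h3 : Fixes (k * (b * l⁻¹) * k⁻¹) K := fixes_conj h2 (le_normalizer hk)
    have h4 := fixes_mul h1 h3
    have h5 : a * k⁻¹ * (k * (b * l⁻¹) * k⁻¹) = a * b * (k * l)⁻¹ := by group
    rwa [h5] at h4
  one_mem' := ⟨1, one_mem _, by rw [inv_one, mul_one]; exact fixes_one K⟩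
  inv_mem' := by
    rintro a ⟨k, hk, h1⟩
    refine ⟨k⁻¹, inv_mem hk, ?_⟩
    have h3 : Fixes (k⁻¹ * (a * k⁻¹)⁻¹ * k⁻¹⁻¹) K := fixes_conj (fixes_inv h1) (inv_mem (le_normalizer hk))
    have h5 : k⁻¹ * (a * k⁻¹)⁻¹ * k⁻¹⁻¹ = a⁻¹ * k⁻¹⁻¹ := by group
    rwa [h5] at h3

theorem mem_InnK {K : Subgroup G} {g : G} : g ∈ InnK K ↔ ∃ k ∈ K, Fixes (g * k⁻¹) K := Iff.rfl

theorem le_InnK (K : Subgroup G) : K ≤ InnK K := fun k hk =>
  ⟨k, hk, by rw [mul_inv_cancel]; exact fixes_one K⟩

theorem FixK_le_InnK (K : Subgroup G) : FixK K ≤ InnK K := fun k hk =>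
  ⟨1, one_mem _, by rw [inv_one, mul_one]; exact hk⟩

variable [Finite G]

/-- 2-components of `H` act as inner automorphisms on `K / O(K)` -/
theorem comp_le_InnK {H K L : Subgroup G} (hK : IsComp H K) (hL : IsComp H L) : L ≤ InnK K := by
  by_cases h : K = L
  · rw [h]; exact le_InnK L
  · intro y hy
    exact FixK_le_InnK K (hK.fixes_of_mem hL h hy)

theorem sSup_le_InnK {H K : Subgroup G} (hK : IsComp H K) {KK : Set (Subgroup G)}
    (hKK : ∀ L ∈ KK, IsComp H L) : sSup KK ≤ InnK K :=
  sSup_le fun L hL => comp_le_InnK hK (hKK L hL)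

/-- `C(H)`-part of a product of 2-components -/
theorem mem_core {H : Subgroup G} {KK : Set (Subgroup G)} (hKK : ∀ K ∈ KK, IsComp H K)
    (hz : ∀ K ∈ KK, ∀ z ∈ K, Fixes z K → z ∈ core K) {y : G} (hy : y ∈ sSup KK)
    (hf : ∀ K ∈ KK, Fixes y K) : y ∈ core H := by
  have key : ∀ S : Set (Subgroup G), S.Finite → (∀ K ∈ S, IsComp H K) →
      (∀ K ∈ S, ∀ z ∈ K, Fixes z K → z ∈ core K) → ∀ y ∈ sSup S ⊔ core H, (∀ K ∈ S, Fixes y K) →
      y ∈ core H := by
    intro S hS
    induction S, hS using Set.Finite.induction_on with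
    | empty =>
      intro _ _ y hy _
      rwa [sSup_empty, bot_sup_eq] at hy
    | @insert K S hKS _ ih =>
      intro h1 h2 y hy hfy
      have hK := h1 K (Set.mem_insert _ _)
      have hS' : ∀ L ∈ S, IsComp H L := fun L hL => h1 L (Set.mem_insert_of_mem _ hL)
      have hne : ∀ L ∈ S, K ≠ L := fun L hL h => hKS (h ▸ hL)
      -- the second factor fixes `K`
      have hfixK : sSup S ⊔ core H ≤ FixK K := by
        refine sup_le (sSup_le fun L hL y hy => ?_) fun y hy => ?_
        · exact hK.fixes_of_mem (hS' L hL) (hne L hL) hy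
        · exact hK.fixes_of_core hy
      -- `K` normalizes the second factor
      have hnK : K ≤ normalizer ((sSup S ⊔ core H : Subgroup G) : Set G) := by
        intro k hk
        have hkH := hK.le hk
        rw [mem_normalizer_iff_cj]
        have e1 : cj k (core H) = core H :=
          mem_normalizer_iff_cj.mp (le_normalizer_core H hkH)
        have e2 : cj k (sSup S) = sSup S := by
          rw [cj_def, sSup_eq_iSup', Subgroup.map_iSup]
          refine iSup_congr fun L => ?_
          rw [← cj_def]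
          exact mem_normalizer_iff_cj.mp (((hS' L.1 L.2).fixes_of_mem hK (hne L.1 L.2).symm hk).1)
        rw [cj_def, Subgroup.map_sup, ← cj_def, ← cj_def, e1, e2]
      rw [sSup_insert, sup_assoc] at hy
      have h3 : y ∈ ((K ⊔ (sSup S ⊔ core H) : Subgroup G) : Set G) := hy
      rw [Subgroup.coe_mul_of_left_le_normalizer_right _ _ hnK] at h3
      obtain ⟨k, hk, c, hc, rfl⟩ := h3
      have hc' : Fixes c K := hfixK hc
      have hkf : Fixes k K := by
        have := hfy K (Set.mem_insert _ _)
        have h4 := fixes_mul this (fixes_inv hc')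
        rwa [mul_inv_cancel_right] at h4
      have hkc : k ∈ core H := hK.core_le_core (h2 K (Set.mem_insert _ _) k hk hkf)
      exact ih hS' (fun L hL => h2 L (Set.mem_insert_of_mem _ hL)) _
        (mul_mem (mem_sup_right hkc) hc) fun L hL => hfy L (Set.mem_insert_of_mem _ hL)
  exact key KK (Set.toFinite KK) hKK hz y (mem_sup_left hy) hf

/-- an involution `d` is not in a product of 2-components of `C(d)` with centre-free quotients -/
theorem not_mem {d : G} (hd : orderOf d = 2) {KK : Set (Subgroup G)}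
    (hKK : ∀ K ∈ KK, IsComp (centralizer ({d} : Set G)) K)
    (hz : ∀ K ∈ KK, ∀ z ∈ K, Fixes z K → z ∈ core K) : d ∉ sSup KK := by
  intro h
  have h1 := mem_core hKK hz h fun K hK => fixes_self' (hKK K hK).le
  exact ne_one_of_order hd (eq_one_of_mem_core_sq h1 (sq_of_order hd))

end Cfsg.Agent.UGT.A7.BProd
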