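import Cfsg.Agent.UGT.Iface
import Cfsg.Agent.UGT.TriBase
import Cfsg.Agent.UAlt.ModExists
import Cfsg.Agent.CoreKilling.Psl
import Cfsg.Agent.TwoFusion.SLTwoFacts

/-!
# Pump-ups of triples of type `A₇`

`(x, a, L)` a triple with a labelling of `L / O(L) ≅ A₇`, `c` an involution commuting with `a` and `x` and
fixing `L / O(L)`. If all triples are of type `A₇` or `PSL₂(q)`, the pump-up `N` of `C_L(c)` in `C(c)` is of
type `A₇` with a labelling compatible with that of `L`.

* `not_psl`: `A₇` is not a section of `PSL₂(q)`, `q` odd.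
* `exists_cen`: the labelling of `cen L c`.
* `exists_transfer`: labellings and isomorphisms of `J / O(J)` with `N / O(N)`.
* `pump7`: the main theorem.
-/

set_option autoImplicit false

open Cfsg Subgroup Equiv
open Cfsg.Agent.SignalizersComponents Cfsg.Agent.Lib
open Cfsg.Agent.SignalizersComponents.IntrinsicBasic
open Cfsg.Agent.UGT.Triple Cfsg.Agent.UGT.Iface Cfsg.Agent.UGT.TriBase
open Cfsg.Agent.UAlt
open Cfsg.Agent.Intrinsic Cfsg.Agent.Intrinsic.Basic Cfsg.Agent.Intrinsic.Cen Cfsg.Agent.Intrinsic.Diag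
open Cfsg.Agent.ClassicalGeometry.KleinCount (CommInv)
open scoped commutatorElement

namespace Cfsg.Agent.UGT.A7.PumpSeven

universe u

variable {G : Type*} [Group G]

/-- `A₇` is not a section of `PSL₂(q)`, `q` odd -/
theorem not_psl [Finite G] {J : Subgroup G} (M : Mod J (Finset.univ : Finset (Fin 7)))
    {F : Type*} [Field F] (h2 : (2 : F) ≠ 0)
    (θ : ↥J →* Matrix.ProjectiveSpecialLinearGroup (Fin 2) F)
    (hθ : ∀ x : ↥J, θ x = 1 → (x : G) ∈ core J) : False := by
  have halt : ∀ σ : Perm (Fin 7), σ ∈ alternatingGroup (Fin 7) →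
      σ ∈ alt (Finset.univ : Finset (Fin 7)) := fun σ h =>
    ⟨h, fun x hx => absurd (Finset.mem_univ x) hx⟩
  have hσ := halt (swap 0 1 * swap 2 3) (by rw [Equiv.Perm.mem_alternatingGroup]; decide)
  have hτ := halt (swap 0 2 * swap 1 3) (by rw [Equiv.Perm.mem_alternatingGroup]; decide)
  have hρ := halt (swap 4 5 * swap 5 6) (by rw [Equiv.Perm.mem_alternatingGroup]; decide)
  obtain ⟨u, hu, huu, -, hφu⟩ := M.exists_inv_lift (t := 1) (one_mem _) (n := 0) (one_pow _) hσ
    (by decide) (by rw [M.one, one_mul, mul_one])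
  obtain ⟨v, hv, hvv, huv, hφv⟩ := M.exists_inv_lift (t := u) (le_normalizer hu) (n := 1)
    (by rw [pow_one, pow_two, huu]) hτ (by decide) (by rw [hφu]; decide)
  obtain ⟨m, hm, hum, hφm⟩ := M.exists_comm_lift (t := u) (le_normalizer hu) (n := 1)
    (by rw [pow_one, pow_two, huu]) hρ (by rw [hφu]; decide)
  have hvN : v ∈ normalizer (J : Set G) := le_normalizer hv
  have hmN : m ∈ normalizer (J : Set G) := le_normalizer hm
  -- a lift of `ρ` commuting with `u` and `v`
  obtain ⟨N, hN⟩ : ∃ N, N = core J ⊓ centralizer ({u} : Set G) := ⟨_, rfl⟩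
  have hNodd : Odd (Nat.card N) := Odd.of_dvd_nat (odd_card_core J)
    (card_dvd_of_le (hN ▸ inf_le_left))
  have hvu : v ∈ centralizer ({u} : Set G) := mem_centralizer_singleton_iff.mpr huv.symm
  have hmu : m ∈ centralizer ({u} : Set G) := mem_centralizer_singleton_iff.mpr hum.symm
  have hvNN : v ∈ normalizer (N : Set G) := by
    have h1 : v ∈ normalizer (core J : Set G) := le_normalizer_core J hv
    have h2 : v ∈ normalizer (centralizer ({u} : Set G) : Set G) := le_normalizer hvu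
    rw [mem_normalizer_iff_cj] at h1 h2 ⊢
    rw [hN, cj_inf, h1, h2]
  have hmem : m⁻¹ * (v * m * v⁻¹) ∈ N := by
    rw [hN]
    refine mem_inf.mpr ⟨?_, mul_mem (inv_mem hmu) (mul_mem (mul_mem hvu hmu) (inv_mem hvu))⟩
    rw [← M.eq_iff hm ((mem_normalizer_iff.mp hvN m).mp hm), M.conj hvN hmN, hφm, hφv]
    decide
  obtain ⟨o, ho, hvo⟩ := Lifting.exists_commute (n := 1) hNodd (by rw [pow_one, pow_two, hvv])
    hvNN hmem
  rw [hN] at ho
  obtain ⟨g, hg⟩ : ∃ g, g = m * o := ⟨_, rfl⟩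
  have hgJ : g ∈ J := hg ▸ mul_mem hm (core_le J ho.1)
  have hgN : g ∈ normalizer (J : Set G) := le_normalizer hgJ
  have hφg : M.φ g = swap 4 5 * swap 5 6 := by
    rw [hg, M.mul _ _ hmN (le_normalizer (core_le J ho.1)),
      (M.core_iff o (core_le J ho.1)).mpr ho.1, mul_one, hφm]
  have hgv : v * g = g * v := hg ▸ hvo
  have hgu : u * g = g * u := by
    have h1 : g ∈ centralizer ({u} : Set G) := hg ▸ mul_mem hmu ho.2
    exact (mem_centralizer_singleton_iff.mp h1).symm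
  -- in `PSL₂(q)`
  have hinj : ∀ x y : ↥J, θ x = θ y → M.φ x = M.φ y := by
    intro x y hxy
    rw [M.eq_iff x.2 y.2]
    have h1 : θ (x⁻¹ * y) = 1 := by rw [map_mul, map_inv, hxy, inv_mul_cancel]
    exact hθ _ h1
  have hCI : CommInv (θ ⟨u, hu⟩) (θ ⟨v, hv⟩) := by
    refine ⟨?_, ?_, ?_, ?_, ?_, ?_⟩
    · intro h
      have h1 := hinj ⟨u, hu⟩ 1 (by rw [h, map_one])
      have h3 : M.φ u = 1 := h1.trans M.one
      rw [hφu] at h3
      exact absurd h3 (by decide)
    · intro h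
      have h1 := hinj ⟨v, hv⟩ 1 (by rw [h, map_one])
      have h3 : M.φ v = 1 := h1.trans M.one
      rw [hφv] at h3
      exact absurd h3 (by decide)
    · intro h
      have h1 := hinj ⟨u, hu⟩ ⟨v, hv⟩ h
      have h3 : M.φ u = M.φ v := h1
      rw [hφu, hφv] at h3
      exact absurd h3 (by decide)
    · rw [← map_mul, ← map_one θ]
      congr 1
      exact Subtype.ext huu
    · rw [← map_mul, ← map_one θ]
      congr 1
      exact Subtype.ext hvv
    · rw [← map_mul, ← map_mul]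
      congr 1
      exact Subtype.ext huv
  have h3 := CoreKilling.Psl.sq_eq_one_psl h2 hCI (c := θ ⟨g, hgJ⟩)
    (by
      rw [← map_mul, ← map_mul]
      congr 1
      exact Subtype.ext hgu)
    (by
      rw [← map_mul, ← map_mul]
      congr 1
      exact Subtype.ext hgv)
  rw [← map_mul] at h3
  have h4 := hinj (⟨g, hgJ⟩ * ⟨g, hgJ⟩) 1 (by rw [h3, map_one])
  have h5 : M.φ (g * g) = 1 := h4.trans M.one
  rw [M.mul _ _ hgN hgN, hφg] at h5
  exact absurd h5 (by decide)

/-- the labelling of `cen L c`, `c` fixing `L / O(L)` -/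
theorem exists_cen [Finite G] {α : Type*} [Fintype α] [DecidableEq α] {L : Subgroup G}
    (M : Mod L (Finset.univ : Finset α)) (h7 : 7 ≤ Fintype.card α) {c : G} (hcL : Fixes c L)
    (hcc : c * c = 1) :
    ∃ M' : Mod (cen L c) (Finset.univ : Finset α), ∀ x ∈ cen L c, M'.φ x = M.φ x := by
  have h1 : M.φ c = 1 := (M.fixes_iff hcL.1).mpr hcL
  have h2 : fixIn Finset.univ (M.φ c) = Finset.univ := by
    rw [h1]
    ext i
    rw [mem_fixIn]
    simp
  have h3 : M.cmp c = cen L c := by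
    have h4 : M.pre c = L ⊓ centralizer ({c} : Set G) := by
      ext k
      rw [M.mem_pre, mem_inf, mem_centralizer_singleton_iff, h2]
      exact ⟨fun h => ⟨h.1, h.2.1.symm⟩, fun h => ⟨h.1, h.2.symm, M.mem_alt k h.1⟩⟩
    rw [Mod.cmp, h4, cen]
  have key : ∀ (K : Subgroup G) (S : Finset α), K = cen L c → S = Finset.univ →
      (∃ M' : Mod K S, ∀ x ∈ K, M'.φ x = M.φ x) →
      ∃ M' : Mod (cen L c) (Finset.univ : Finset α), ∀ x ∈ cen L c, M'.φ x = M.φ x := by
    rintro K S rfl rfl h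
    exact h
  exact key _ _ h3 h2 (M.exists_cmp hcL.1 hcc (by rw [h2, Finset.card_univ]; exact h7))

/-- transfer of a labelling by an isomorphism of `J / O(J)` with `N / O(N)` -/
theorem exists_transfer [Finite G] {α : Type*} [Fintype α] [DecidableEq α] {J N : Subgroup G}
    {S : Finset α} (M : Mod J S) (h7 : 7 ≤ S.card) (e : (↥J ⧸ oddCore ↥J) ≃* (↥N ⧸ oddCore ↥N)) :
    ∃ M' : Mod N S, ∀ (j : ↥J) (y : ↥N),
      e (QuotientGroup.mk' (oddCore ↥J) j) = QuotientGroup.mk' (oddCore ↥N) y → M'.φ y = M.φ j := by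
  let e0 : (↥J ⧸ oddCore ↥J) ≃* ↥(alt S) :=
    (QuotientGroup.quotientMulEquivOfEq M.ker_homK.symm).trans
      (QuotientGroup.quotientKerEquivOfSurjective _ M.homK_surjective)
  have he0 : ∀ j : ↥J, ((e0 (QuotientGroup.mk' (oddCore ↥J) j) : ↥(alt S)) : Perm α) = M.φ j :=
    fun j => rfl
  let e3 : (↥N ⧸ oddCore ↥N) ≃* ↥(alt S) := e.symm.trans e0
  obtain ⟨M', hM'⟩ := Mod.exists_of_hom (K := N) (S := S) h7
    (((alt S).subtype.comp e3.toMonoidHom).comp (QuotientGroup.mk' (oddCore ↥N))) (by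
      rw [MonoidHom.range_comp, MonoidHom.range_eq_top.mpr (QuotientGroup.mk'_surjective _),
        ← MonoidHom.range_eq_map, MonoidHom.range_comp,
        MonoidHom.range_eq_top.mpr e3.surjective, ← MonoidHom.range_eq_map, Subgroup.range_subtype])
    (by
      ext x
      rw [MonoidHom.mem_ker, MonoidHom.comp_apply, MonoidHom.comp_apply, Subgroup.coe_subtype]
      constructor
      · intro h
        have h1 : e3 (QuotientGroup.mk' (oddCore ↥N) x) = 1 := Subtype.ext h
        have h2 := (MulEquiv.map_eq_one_iff e3).mp h1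
        exact (QuotientGroup.eq_one_iff x).mp h2
      · intro h
        have h2 : QuotientGroup.mk' (oddCore ↥N) x = 1 := (QuotientGroup.eq_one_iff x).mpr h
        rw [h2]
        show ((e3 1 : ↥(alt S)) : Perm α) = 1
        rw [map_one]; rfl)
  refine ⟨M', fun j y h => ?_⟩
  rw [hM' y]
  show ((e0 (e.symm (QuotientGroup.mk' (oddCore ↥N) y)) : ↥(alt S)) : Perm α) = _
  rw [← h, MulEquiv.symm_apply_apply]
  exact he0 j

/-- the order of `J / O(J)` -/
theorem card_quot {α : Type*} [Fintype α] [DecidableEq α] [Finite G] {J : Subgroup G}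
    (M : Mod J (Finset.univ : Finset α)) :
    Nat.card (↥J ⧸ oddCore ↥J) = Nat.card ↥(alternatingGroup α) := by
  rw [Nat.card_congr M.quotEquiv.toEquiv]
  have e := altEquiv (Finset.univ : Finset α)
  rw [Nat.card_congr e.toEquiv, alt_univ]

theorem inf_core_le [Finite G] {J N : Subgroup G} (hJN : J ≤ N) : J ⊓ core N ≤ core J := by
  refine le_core inf_le_left ?_ (Odd.of_dvd_nat (odd_card_core N) (card_dvd_of_le inf_le_right))
  intro j hj
  have e2 : j ∈ normalizer (core N : Set G) := le_normalizer_core N (hJN hj)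
  rw [mem_normalizer_iff_cj] at e2 ⊢
  rw [cj_inf, e2, cj_eq_self_of_mem hj]

/-- a subgroup `J ≤ N` of type `A₇` covers `N / O(N)` if `N` is of type `A₇` or `PSL₂(q)` -/
theorem cover [Finite G] {J N : Subgroup G} (M : Mod J (Finset.univ : Finset (Fin 7)))
    (hJN : J ≤ N) (hN : IsL2 (Bar N) ∨ IsAlt 7 (Bar N)) : J ⊔ core N = N := by
  let θ : ↥J →* (↥N ⧸ oddCore ↥N) := (QuotientGroup.mk' (oddCore ↥N)).comp (inclusion hJN)
  have hθ1 : ∀ x : ↥J, θ x = 1 → (x : G) ∈ core J := by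
    intro x hx
    have h1 : inclusion hJN x ∈ oddCore ↥N := (QuotientGroup.eq_one_iff _).mp hx
    have h2 : (x : G) ∈ core N := (mem_core_iff (hJN x.2)).mpr h1
    exact inf_core_le hJN ⟨x.2, h2⟩
  rcases hN with ⟨F, i1, i2, hodd, -, ⟨e⟩⟩ | ⟨⟨e⟩⟩
  · exfalso
    have h2 : (2 : F) ≠ 0 := (ClassicalGeometry.PSL2Basic.two_ne_zero_iff_odd F).mpr hodd
    refine not_psl M h2 (e.toMonoidHom.comp θ) fun x hx => hθ1 x ?_
    exact (MulEquiv.map_eq_one_iff e).mp hx
  · have h1 : θ.ker ≤ oddCore ↥J := fun x hx => (mem_core_iff x.2).mp (hθ1 x hx)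
    have h2 : Nat.card (↥J ⧸ oddCore ↥J) ∣ Nat.card θ.range := by
      have h3 := index_dvd_of_le h1
      rwa [Subgroup.index_ker, Subgroup.index] at h3
    have h4 : Nat.card (↥N ⧸ oddCore ↥N) = Nat.card (↥J ⧸ oddCore ↥J) := by
      rw [card_quot M, Nat.card_congr e.toEquiv]
    have h5 : θ.range = ⊤ := by
      apply Subgroup.eq_top_of_card_eq
      apply Nat.dvd_antisymm (card_subgroup_dvd_card _)
      rw [h4]
      exact h2
    refine sup_of_exists hJN fun x hx => ?_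
    have h6 : QuotientGroup.mk' (oddCore ↥N) ⟨x, hx⟩ ∈ θ.range := by rw [h5]; trivial
    obtain ⟨j, hj⟩ := h6
    refine ⟨j, j.2, ?_⟩
    exact mk_eq_mk_iff.mp hj

/-- the diagonal pump-up -/
theorem diag_case [Finite G] {a c : G} {N : Subgroup G} (ha2 : a * a = 1)
    (hac : a ∈ centralizer ({c} : Set G)) (hN : IsComp (centralizer ({c} : Set G)) N)
    (hne : IntrinsicBasic.cj a N ≠ N)
    (M : Mod (diag (centralizer ({c} : Set G)) N a) (Finset.univ : Finset (Fin 7)))
    (hty : IsL2 (Bar N) ∨ IsAlt 7 (Bar N)) :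
    ∃ M' : Mod N (Finset.univ : Finset (Fin 7)),
      ∀ y ∈ diag (centralizer ({c} : Set G)) N a, M'.φ y = M.φ y := by
  obtain ⟨h1, h2, h3, -, f, hf, hfk, hfm, -⟩ := exists_diag hN hac ha2 hne
  have hsimple : IsSimpleGroup (↥N ⧸ oddCore ↥N) := by
    rcases hty with ⟨F, i1, i2, hodd, h5, ⟨e⟩⟩ | ⟨⟨e⟩⟩
    · have hs : IsSimpleGroup (Matrix.ProjectiveSpecialLinearGroup (Fin 2) F) :=
        TwoFusion.SLTwoFacts.isSimpleGroup_psl (by omega)
      exact e.isSimpleGroup
    · have hs : IsSimpleGroup ↥(alternatingGroup (Fin 7)) :=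
        alternatingGroup.isSimpleGroup (by rw [Nat.card_eq_fintype_card, Fintype.card_fin]; decide)
      exact e.isSimpleGroup
  have hker : f.ker = ⊥ := by
    rcases hsimple.eq_bot_or_eq_top_of_normal f.ker inferInstance with h | h
    · exact h
    · exfalso
      have h4 : Nat.card (↥(diag (centralizer ({c} : Set G)) N a) ⧸
          oddCore ↥(diag (centralizer ({c} : Set G)) N a)) = 1 := by
        rw [Nat.card_eq_one_iff_unique]
        refine ⟨⟨fun x y => ?_⟩, ⟨1⟩⟩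
        obtain ⟨x, rfl⟩ := hf x
        obtain ⟨y, rfl⟩ := hf y
        have hx : x ∈ f.ker := by rw [h]; trivial
        have hy : y ∈ f.ker := by rw [h]; trivial
        rw [MonoidHom.mem_ker.mp hx, MonoidHom.mem_ker.mp hy]
      rw [card_quot M, Nat.card_eq_fintype_card, card_alternatingGroup, Fintype.card_fin] at h4
      exact absurd h4 (by decide)
  let e : (↥N ⧸ oddCore ↥N) ≃* (↥(diag (centralizer ({c} : Set G)) N a) ⧸
      oddCore ↥(diag (centralizer ({c} : Set G)) N a)) :=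
    MulEquiv.ofBijective f ⟨(MonoidHom.ker_eq_bot_iff f).mp hker, hf⟩
  obtain ⟨M', hM'⟩ := exists_transfer M (by simp) e.symm
  refine ⟨M', fun y hy => ?_⟩
  obtain ⟨k, hk, hyk⟩ := h2 y hy
  have e1 : M'.φ k = M.φ y := hM' ⟨y, hy⟩ ⟨k, hk⟩ (by
    rw [MulEquiv.symm_apply_eq]
    exact (hfm ⟨k, hk⟩ ⟨y, hy⟩ hyk).symm)
  have hN' : IsComp (centralizer ({c} : Set G)) (IntrinsicBasic.cj a N) := isComp_cj_of_mem hN hac
  have hfix : Fixes (a * k * a⁻¹) N := hN.fixes_of_mem hN' hne.symm (conj_mem_cj hk)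
  obtain ⟨z, hz⟩ : ∃ z, z = y⁻¹ * (k * (a * k * a⁻¹)) := ⟨_, rfl⟩
  rw [← hz] at hyk
  have hfz : Fixes z N := hN.fixes_of_core hyk
  have hkN : k ∈ normalizer (N : Set G) := le_normalizer hk
  have hy' : y = k * (a * k * a⁻¹) * z⁻¹ := by rw [hz]; group
  rw [← e1, hy', M'.mul _ _ (mul_mem hkN hfix.1) (inv_mem hfz.1), M'.mul _ _ hkN hfix.1,
    M'.inv hfz.1, (M'.fixes_iff hfix.1).mpr hfix, (M'.fixes_iff hfz.1).mpr hfz, inv_one, mul_one,
    mul_one]

/-- **Pump-ups of triples of type `A₇`** -/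
theorem pump7 {G : Type u} [Group G] [Finite G]
    (hW : ∀ (x a : G) (L : Subgroup G), IsTriple x a L → IsL2 (Bar L) ∨ IsAlt 7 (Bar L))
    {x a c : G} {L : Subgroup G} (M : Mod L (Finset.univ : Finset (Fin 7))) (T : IsTriple x a L)
    (hc : orderOf c = 2) (hca : c * a = a * c) (hcx : c * x = x * c) (hcL : Fixes c L) :
    ∃ (N : Subgroup G) (M' : Mod N (Finset.univ : Finset (Fin 7))), IsTriple x c N ∧
      (∀ y ∈ cen L c, M'.φ y = M.φ y) ∧ ((Fixes a N ∧ cen L c ≤ N) ∨
        (IntrinsicBasic.cj a N ≠ N ∧ cen L c = diag (centralizer ({c} : Set G)) N a)) := by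
  obtain ⟨N, TN, hor⟩ := T.pump hc hca hcx hcL
  obtain ⟨M1, hM1⟩ := exists_cen M (by simp) hcL (sq_of_order hc)
  have hty := hW x c N TN
  rcases hor with ⟨haN, hJN⟩ | ⟨hne, hJ⟩
  · have hsup := cover M1 hJN hty
    obtain ⟨e, he⟩ := exists_quotEquiv hsup
    obtain ⟨M', hM'⟩ := exists_transfer M1 (by simp) e
    refine ⟨N, M', TN, fun y hy => ?_, Or.inl ⟨?_, hJN⟩⟩
    · rw [← hM1 y hy]
      exact hM' ⟨y, hy⟩ ⟨y, hJN hy⟩ (he y hy (hJN hy))
    · have hJa : cen L c ≤ centralizer ({a} : Set G) := (cen_le L c).trans T.comp.le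
      have h1 := fixes_self' hJa
      exact (fixes_iff_of_sup hsup h1.1 haN).mp h1
  · obtain ⟨M', hM'⟩ : ∃ M' : Mod N (Finset.univ : Finset (Fin 7)),
        ∀ y ∈ cen L c, M'.φ y = M1.φ y := by
      have key : ∀ J : Subgroup G, J = diag (centralizer ({c} : Set G)) N a →
          ∀ M0 : Mod J (Finset.univ : Finset (Fin 7)),
            ∃ M' : Mod N (Finset.univ : Finset (Fin 7)), ∀ y ∈ J, M'.φ y = M0.φ y := by
        rintro J rfl M0
        exact diag_case (sq_of_order T.inva) (mem_c hca.symm) TN.comp hne M0 hty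
      exact key _ hJ M1
    exact ⟨N, M', TN, fun y hy => (hM' y hy).trans (hM1 y hy), Or.inr ⟨hne, hJ⟩⟩

end Cfsg.Agent.UGT.A7.PumpSeven
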