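import Cfsg.Agent.UAlt.Mod
import Cfsg.Agent.UGT.TriBase

/-!
# A Sylow 2-subgroup `W0 = D₈ × ⟨(4 5)⟩` of `Sym(7)`
-/

set_option autoImplicit false
set_option linter.unusedSectionVars false

namespace Cfsg.Agent.UGT.A7

open Cfsg Subgroup Equiv Equiv.Perm
open Cfsg.Agent.UAlt
open Cfsg.Agent.SignalizersComponents.IntrinsicBasic (cj)
open Cfsg.Agent.Intrinsic.Basic (Fixes IsComp core)

def z0 : Perm (Fin 7) := swap 0 1 * swap 2 3
def w0 : Perm (Fin 7) := swap 4 5

/-- the Sylow 2-subgroup of `Sym(7)` -/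
def W0 : Subgroup (Perm (Fin 7)) := centralizer ({z0, w0} : Set (Perm (Fin 7)))

/-- the Sylow 2-subgroup of `Alt(7)` -/
def P0 : Subgroup (Perm (Fin 7)) := W0 ⊓ alternatingGroup (Fin 7)

theorem mem_W0 {σ : Perm (Fin 7)} : σ ∈ W0 ↔ σ * z0 = z0 * σ ∧ σ * w0 = w0 * σ := by
  rw [W0, mem_centralizer_iff]
  constructor
  · intro h
    exact ⟨(h z0 (by simp)).symm, (h w0 (by simp)).symm⟩
  · rintro ⟨h1, h2⟩ τ hτ
    rcases hτ with rfl | hτ
    · exact h1.symm
    · rw [Set.mem_singleton_iff] at hτ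
      subst hτ
      exact h2.symm

theorem mem_P0 {σ : Perm (Fin 7)} : σ ∈ P0 ↔ σ ∈ W0 ∧ sign σ = 1 := by
  rw [P0, mem_inf, mem_alternatingGroup]

theorem card_W0_le : Nat.card W0 ≤ 16 := by
  classical
  let F : Finset (Fin 7 × Fin 7 × Fin 7) := Finset.univ.filter fun p =>
    z0 p.1 ≠ p.1 ∧ z0 p.2.1 ≠ p.2.1 ∧ p.2.1 ≠ p.1 ∧ p.2.1 ≠ z0 p.1 ∧ w0 p.2.2 ≠ p.2.2
  have hF : F.card = 16 := by decide
  have happ : ∀ σ : ↥W0, ∀ i, (σ : Perm (Fin 7)) (z0 i) = z0 ((σ : Perm (Fin 7)) i) := fun σ i =>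
    DFunLike.congr_fun (mem_W0.1 σ.2).1 i
  have happ' : ∀ σ : ↥W0, ∀ i, (σ : Perm (Fin 7)) (w0 i) = w0 ((σ : Perm (Fin 7)) i) := fun σ i =>
    DFunLike.congr_fun (mem_W0.1 σ.2).2 i
  let f : ↥W0 → ↥F := fun σ => ⟨((σ : Perm (Fin 7)) 0, (σ : Perm (Fin 7)) 2, (σ : Perm (Fin 7)) 4), by
    rw [Finset.mem_filter]
    refine ⟨Finset.mem_univ _, ?_, ?_, ?_, ?_, ?_⟩
    · change z0 ((σ : Perm (Fin 7)) 0) ≠ (σ : Perm (Fin 7)) 0
      rw [← happ]
      exact fun h => absurd ((σ : Perm (Fin 7)).injective h) (by decide)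
    · change z0 ((σ : Perm (Fin 7)) 2) ≠ (σ : Perm (Fin 7)) 2
      rw [← happ]
      exact fun h => absurd ((σ : Perm (Fin 7)).injective h) (by decide)
    · exact fun h => absurd ((σ : Perm (Fin 7)).injective h) (by decide)
    · change (σ : Perm (Fin 7)) 2 ≠ z0 ((σ : Perm (Fin 7)) 0)
      rw [← happ]
      exact fun h => absurd ((σ : Perm (Fin 7)).injective h) (by decide)
    · change w0 ((σ : Perm (Fin 7)) 4) ≠ (σ : Perm (Fin 7)) 4
      rw [← happ']
      exact fun h => absurd ((σ : Perm (Fin 7)).injective h) (by decide)⟩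
  have hf : Function.Injective f := by
    intro σ τ h
    have h0 : (σ : Perm (Fin 7)) 0 = (τ : Perm (Fin 7)) 0 := congrArg (fun p => (p : Fin 7 × Fin 7 × Fin 7).1)
      (congrArg Subtype.val h)
    have h2 : (σ : Perm (Fin 7)) 2 = (τ : Perm (Fin 7)) 2 := congrArg
      (fun p => (p : Fin 7 × Fin 7 × Fin 7).2.1) (congrArg Subtype.val h)
    have h4 : (σ : Perm (Fin 7)) 4 = (τ : Perm (Fin 7)) 4 := congrArg
      (fun p => (p : Fin 7 × Fin 7 × Fin 7).2.2) (congrArg Subtype.val h)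
    have h1 : (σ : Perm (Fin 7)) 1 = (τ : Perm (Fin 7)) 1 := by
      have e : (1 : Fin 7) = z0 0 := by decide
      rw [e, happ, happ, h0]
    have h3 : (σ : Perm (Fin 7)) 3 = (τ : Perm (Fin 7)) 3 := by
      have e : (3 : Fin 7) = z0 2 := by decide
      rw [e, happ, happ, h2]
    have h5 : (σ : Perm (Fin 7)) 5 = (τ : Perm (Fin 7)) 5 := by
      have e : (5 : Fin 7) = w0 4 := by decide
      rw [e, happ', happ', h4]
    apply Subtype.ext
    have key : ∀ i : Fin 7, i ≠ 6 → (σ : Perm (Fin 7)) i = (τ : Perm (Fin 7)) i := by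
      intro i hi
      fin_cases i
      · exact h0
      · exact h1
      · exact h2
      · exact h3
      · exact h4
      · exact h5
      · exact absurd rfl hi
    ext i
    by_cases hi : i = 6
    · subst hi
      obtain ⟨j, hj⟩ := (τ : Perm (Fin 7)).surjective ((σ : Perm (Fin 7)) 6)
      by_cases hj6 : j = 6
      · rw [hj6] at hj
        rw [hj]
      · rw [← key j hj6] at hj
        exact absurd ((σ : Perm (Fin 7)).injective hj) hj6
    · rw [key i hi]
  have h1 := Nat.card_le_card_of_injective f hf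
  rw [Nat.card_eq_fintype_card (α := ↥F), Fintype.card_coe, hF] at h1
  exact h1

/-- the elements of `P0` -/
def g0 : DihedralGroup 4 → Perm (Fin 7)
  | .r i => (swap 0 2 * swap 1 2 * swap 1 3 * swap 4 5) ^ i.val
  | .sr i => (swap 0 1 * swap 4 5) * (swap 0 2 * swap 1 2 * swap 1 3 * swap 4 5) ^ i.val

theorem g0_mul : ∀ a b, g0 (a * b) = g0 a * g0 b := by decide

theorem g0_inj : Function.Injective g0 := by decide

theorem g0_mem (a : DihedralGroup 4) : g0 a ∈ P0 := by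
  rw [mem_P0, mem_W0]
  revert a
  decide

/-- `D₈ → P0` -/
def g0hom : DihedralGroup 4 →* ↥P0 where
  toFun a := ⟨g0 a, g0_mem a⟩
  map_one' := Subtype.ext (by decide)
  map_mul' a b := Subtype.ext (g0_mul a b)

theorem g0hom_inj : Function.Injective g0hom := fun _ _ h => g0_inj (congrArg Subtype.val h)

theorem w0_mem : w0 ∈ W0 := by
  rw [mem_W0]
  decide

theorem w0_notin : w0 ∉ P0 := by
  rw [mem_P0]
  intro h
  have : sign w0 = -1 := by decide
  rw [this] at h
  exact absurd h.2 (by decide)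

theorem card_both : Nat.card P0 = 8 ∧ Nat.card W0 = 16 := by
  have h1 : 8 ≤ Nat.card P0 := by
    have := Nat.card_le_card_of_injective g0hom g0hom_inj
    rwa [Nat.card_eq_fintype_card, DihedralGroup.card] at this
  have h2 : P0 < W0 := by
    refine lt_of_le_of_ne inf_le_left fun h => w0_notin ?_
    rw [h]
    exact w0_mem
  have h3 := card_dvd_of_le h2.le
  have h4 : Nat.card P0 < Nat.card W0 := by
    refine lt_of_le_of_ne (Nat.le_of_dvd Nat.card_pos h3) fun h => h2.ne ?_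
    exact eq_of_le_of_card_ge h2.le h.ge
  have h5 := card_W0_le
  obtain ⟨k, hk⟩ := h3
  have h6 : k ≠ 0 ∧ k ≠ 1 := by
    constructor
    · rintro rfl
      rw [mul_zero] at hk
      exact absurd hk Nat.card_pos.ne'
    · rintro rfl
      omega
  have h7 : 2 ≤ k := by omega
  have h8 : 16 ≤ Nat.card W0 := by nlinarith
  have h9 : Nat.card W0 = 16 := le_antisymm h5 h8
  refine ⟨?_, h9⟩
  nlinarith

theorem card_P0 : Nat.card P0 = 8 := card_both.1

theorem card_W0 : Nat.card W0 = 16 := card_both.2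

theorem g0hom_bij : Function.Bijective g0hom := by
  refine (Nat.bijective_iff_injective_and_card g0hom).2 ⟨g0hom_inj, ?_⟩
  rw [card_P0, Nat.card_eq_fintype_card, DihedralGroup.card]

noncomputable def P0equiv : DihedralGroup 4 ≃* ↥P0 := MulEquiv.ofBijective g0hom g0hom_bij

theorem exists_g0 {σ : Perm (Fin 7)} (h : σ ∈ P0) : ∃ a, σ = g0 a := by
  obtain ⟨a, ha⟩ := g0hom_bij.2 ⟨σ, h⟩
  exact ⟨a, (congrArg Subtype.val ha).symm⟩

/-- `W0 = P0 ∪ w0 P0` -/
theorem W0_cases {σ : Perm (Fin 7)} (h : σ ∈ W0) : σ ∈ P0 ∨ w0 * σ ∈ P0 := by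
  rcases Int.units_eq_one_or (sign σ) with h1 | h1
  · exact Or.inl (mem_P0.2 ⟨h, h1⟩)
  · right
    rw [mem_P0]
    refine ⟨W0.mul_mem w0_mem h, ?_⟩
    rw [Perm.sign_mul, h1]
    have : sign w0 = -1 := by decide
    rw [this]
    decide

theorem w0_central {σ : Perm (Fin 7)} (h : σ ∈ W0) : σ * w0 = w0 * σ := (mem_W0.1 h).2

theorem z0_central {σ : Perm (Fin 7)} (h : σ ∈ W0) : σ * z0 = z0 * σ := (mem_W0.1 h).1

theorem isPGroup_W0 : IsPGroup 2 ↥W0 := IsPGroup.of_card (n := 4) (by rw [card_W0]; norm_num)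

/-- every 2-subgroup of `Sym(7)` is conjugate to a subgroup of `W0` -/
theorem exists_conj_W0 (T : Subgroup (Perm (Fin 7))) (hT : IsPGroup 2 ↥T) :
    ∃ g : Perm (Fin 7), ∀ t ∈ T, g * t * g⁻¹ ∈ W0 := by
  have : Fact (Nat.Prime 2) := ⟨Nat.prime_two⟩
  have hcard : Nat.card (Perm (Fin 7)) = 5040 := by
    rw [Nat.card_eq_fintype_card, Fintype.card_perm, Fintype.card_fin]
    rfl
  have hsyl : Nat.card W0 = 2 ^ (Nat.card (Perm (Fin 7))).factorization 2 := by
    rw [card_W0, hcard]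
    have : (5040 : ℕ).factorization 2 = 4 := by
      have h1 : (5040 : ℕ) = 2 ^ 4 * 315 := by norm_num
      rw [h1, Nat.factorization_mul (by norm_num) (by norm_num), Nat.Prime.factorization_pow Nat.prime_two]
      have h2 : (315 : ℕ).factorization 2 = 0 := Nat.factorization_eq_zero_of_not_dvd (by norm_num)
      simp [h2]
    rw [this]
    norm_num
  let Q : Sylow 2 (Perm (Fin 7)) := Sylow.ofCard W0 hsyl
  obtain ⟨S, hTS⟩ := hT.exists_le_sylow
  obtain ⟨g, hg⟩ := MulAction.exists_smul_eq (Perm (Fin 7)) S Q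
  refine ⟨g, fun t ht => ?_⟩
  have h1 : (g • S : Sylow 2 (Perm (Fin 7))) = Q := hg
  have h2 : g * t * g⁻¹ ∈ ((g • S : Sylow 2 (Perm (Fin 7))) : Subgroup (Perm (Fin 7))) := by
    rw [Sylow.coe_subgroup_smul, mem_pointwise_smul_iff_inv_smul_mem]
    change (MulAut.conj g)⁻¹ (g * t * g⁻¹) ∈ _
    rw [← map_inv, MulAut.conj_apply, inv_inv]
    have : g⁻¹ * (g * t * g⁻¹) * g = t := by group
    rw [this]
    exact hTS ht
  rw [h1] at h2
  exact h2

/-- a transposition centralizing `W0` is `w0` -/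
theorem swap_central : ∀ i j : Fin 7, i ≠ j → (∀ σ ∈ W0, swap i j * σ = σ * swap i j) → swap i j = w0 := by
  intro i j hij h
  have h1 := h _ (mem_P0.1 (g0_mem (.r 1))).1
  have h2 := h _ (mem_P0.1 (g0_mem (.sr 0))).1
  clear h
  revert i j
  decide

/-- elements of `W0` fixing the points `≠ 4, 5` -/
theorem eq_of_fix {σ : Perm (Fin 7)} (h : ∀ i, i ≠ 4 → i ≠ 5 → σ i = i) : σ = 1 ∨ σ = w0 := by
  by_cases h4 : σ 4 = 4
  · left
    have h5 : σ 5 = 5 := by
      have h6 : σ 5 = 4 ∨ σ 5 = 5 := by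
        by_contra hcon
        push Not at hcon
        have h7 := h (σ 5) hcon.1 hcon.2
        exact hcon.2 (σ.injective h7)
      rcases h6 with h6 | h6
      · exact absurd (σ.injective (h6.trans h4.symm)) (by decide)
      · exact h6
    ext i
    by_cases hi4 : i = 4
    · rw [hi4, h4]; rfl
    · by_cases hi5 : i = 5
      · rw [hi5, h5]; rfl
      · rw [h i hi4 hi5]; rfl
  · right
    have h45 : σ 4 = 5 := by
      by_contra hcon
      exact h4 (σ.injective (h (σ 4) h4 hcon))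
    have h54 : σ 5 = 4 := by
      by_contra hcon
      by_cases h55 : σ 5 = 5
      · exact absurd (σ.injective (h55.trans h45.symm)) (by decide)
      · exact h55 (σ.injective (h (σ 5) hcon h55))
    ext i
    by_cases hi4 : i = 4
    · rw [hi4, h45]; rfl
    · by_cases hi5 : i = 5
      · rw [hi5, h54]; rfl
      · rw [h i hi4 hi5, w0, swap_apply_of_ne_of_ne hi4 hi5]

end Cfsg.Agent.UGT.A7
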