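import Cfsg.Agent.UGT.A7.World
import Cfsg.Agent.UGT.A7.PumpSeven

/-!
# `Pump7` for the world of branch [A7]
-/

set_option autoImplicit false

open Cfsg Subgroup
open Cfsg.Agent.UGT.Triple Cfsg.Agent.UGT.Iface

namespace Cfsg.Agent.UGT.A7.PumpPlug

universe u

theorem pump7_of {G : Type u} [Group G] [Finite G] (hW : W7 G) : Pump7 G := by
  intro x a c L M T hc hca hcx hcL
  exact PumpSeven.pump7 (fun x a L T => (hW x a L T).imp And.left id) M T hc hca hcx hcL

end Cfsg.Agent.UGT.A7.PumpPlug
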