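import Cfsg.Agent.UGT.FrameRank
import Cfsg.Agent.GH.L2One.Inst
import Cfsg.Agent.UGT.Trich

/-!
# `m₂(Q) = 1`, `|Q| ≥ 4` in a minimal counterexample

`rank_of_frame` without simplicity of the group (`O(G) = 1`, `Z(G) = 1`), and these facts for `MinCex`.
-/

set_option autoImplicit false

open Cfsg Subgroup
open Cfsg.Agent.UGT.Iface (Bar IsL2 IsAlt MinCex)

universe u

namespace Cfsg.Agent.UGT.A7.RankFrame

variable {G : Type u} [Group G] [Finite G]

section rank

variable {A : Type*} [Group A] {x : G} {K T D Q : Subgroup G} {d : ℕ} {r c : G} {o1 : G → ℤˣ} {o2 : G → A}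

/-- **CASE II**: `T` is not a Sylow 2-subgroup of `G` if `O(G) = 1` and `Z(G) = 1`. -/
theorem caseTwo (hodd : ∀ N : Subgroup G, N.Normal → Odd (Nat.card N) → N = ⊥) (hc : center G = ⊥)
    (F : GH.L2One.Frame x K T D Q d r c o1 o2) (P : Sylow 2 G) (hP : (P : Subgroup G) = T) : False := by
  obtain ⟨z, H⟩ := F.two P hP
  have hxo : orderOf x = 2 := orderOf_eq_prime (by rw [pow_two]; exact F.xx) F.x_ne
  obtain ⟨N, hN, hNodd, hNc⟩ := Cfsg.Agent.S0215.result P x hxo (by
      show x ∈ (P : Subgroup G)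
      rw [hP]; exact F.x_T) (by
    intro g hg
    by_contra hne
    refine H.no_bad (y := g * x * g⁻¹) ⟨?_, hne, g, rfl⟩
    rw [← hP]; exact hg)
  have h1 := hodd N hN hNodd
  have hxc : x ∈ center G := by
    rw [mem_center_iff]
    intro g
    have h2 := hNc g
    rw [h1, mem_bot] at h2
    calc g * x = (x * g * x⁻¹ * g⁻¹)⁻¹ * (x * g) := by group
      _ = x * g := by rw [h2, inv_one, one_mul]
  rw [hc, mem_bot] at hxc
  exact F.x_ne hxc

/-- `m₂(Q) = 1`, `|Q| ≥ 4`: sectional 2-rank at most 4. -/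
theorem rank_of_frame (hodd : ∀ N : Subgroup G, N.Normal → Odd (Nat.card N) → N = ⊥) (hc : center G = ⊥)
    (F : GH.L2One.Frame x K T D Q d r c o1 o2) : SectionalPRankLE 2 4 G := by
  obtain ⟨P, hTP⟩ := F.T_two.exists_le_sylow
  by_cases hPT : T = (P : Subgroup G)
  · exact (caseTwo hodd hc F P hPT.symm).elim
  · obtain ⟨s, T0, h, -⟩ := GH.L2One.CaseOne.dbl F P.isPGroup' hTP hPT
    exact FrameRank.rank_of_dbl P h

end rank

theorem odd_of_minCex (hG : MinCex G) (hr : ¬ SectionalPRankLE 2 4 ↥(generalizedFittingSubgroup G))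
    (N : Subgroup G) (hN : N.Normal) (hodd : Odd (Nat.card N)) : N = ⊥ := by
  have hs := hG.simple
  have hF : (generalizedFittingSubgroup G).Normal := Trich.normal_fs
  have h1 : N ⊓ generalizedFittingSubgroup G = ⊥ := by
    have hn : (N.subgroupOf (generalizedFittingSubgroup G)).Normal := hN.comap _
    rcases hn.eq_bot_or_eq_top with h | h
    · rwa [Subgroup.subgroupOf_eq_bot, disjoint_iff] at h
    · exfalso
      rw [Subgroup.subgroupOf_eq_top] at h
      have h2 : Odd (Nat.card ↥(generalizedFittingSubgroup G)) :=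
        Odd.of_dvd_nat hodd (Subgroup.card_dvd_of_le h)
      exact hr (GH.Rank.le_mono (by norm_num)
        (GH.Rank.zero_of_not_dvd Nat.prime_two h2.not_two_dvd_nat) (by norm_num))
  have h2 : N ≤ centralizer (generalizedFittingSubgroup G : Set G) := by
    intro x hx
    rw [mem_centralizer_iff]
    intro y hy
    exact (Subgroup.commute_of_normal_of_disjoint _ _ hF hN
      (disjoint_iff.mpr (by rw [inf_comm]; exact h1)) y x hy hx).eq
  rw [Trich.centralizer_fs hG] at h2
  exact le_bot_iff.mp h2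

theorem center_of_minCex (hG : MinCex G) : center G = ⊥ := by
  rw [eq_bot_iff, ← Trich.centralizer_fs hG]
  exact Subgroup.center_le_centralizer _

omit [Finite G] in
/-- type of the simple group -/
theorem hasData {L : Subgroup G} (hZ : center (Bar L) = ⊥) (h : IsL2 (Bar L) ∨ IsAlt 7 (Bar L)) :
    GH.L2One.HasData (GH.Defs.STop L) := by
  have e : Bar L ≃* GH.Defs.STop L :=
    ((QuotientGroup.quotientMulEquivOfEq hZ).trans QuotientGroup.quotientBot).symm
  rcases h with h | h
  · exact (GH.L2One.hasData_of_l2 h).congr e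
  · exact (GH.L2One.hasData_of_a7 h).congr e

omit [Finite G] in
theorem not_evenCenter {L : Subgroup G} (hZ : center (Bar L) = ⊥) : ¬ GH.Defs.EvenCenter L := by
  intro h
  have h1 : Nat.card (center (Bar L)) = 1 := by rw [hZ]; exact Subgroup.card_bot
  change Even (Nat.card (center (Bar L))) at h
  rw [h1] at h
  exact Nat.not_even_one h

end Cfsg.Agent.UGT.A7.RankFrame
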