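import Cfsg.Agent.UGT.SL.GamL2
import Cfsg.Agent.GH.L2AutF
import Cfsg.Agent.TwoFusion.SLTwoFacts
import Cfsg.Agent.GH.L2AutSyl

/-!
# Involutory automorphisms of `L ≅ PSL(2,F)` with a nonsolvable centralizer

* `eq_bot_of_PGL` : a perfect group of fixed points of an involution of `PGL` is trivial;
* `field_of_perfect` : a perfect group of at least 60 fixed points: `α = 1` or `α` is of field type and `|F| ≥ 25`;
* `eq_bot_of_field` : an odd normal subgroup of the group of fixed points of an involution of field type is trivial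
  (`|F| ≥ 25`);
* `inner_of_comm` : hence an involution `β` commuting with an involution of field type is inner if `O(C_L(β)) ≠ 1`.
-/

set_option autoImplicit false

namespace Cfsg.Agent.UGT.A7.PumpL2

open Matrix Cfsg.Agent.Lib.SL2Mat Cfsg.Agent.Lib.AutSL2 Cfsg.Agent.Lib.AutSL2Out
open Cfsg.Agent.GH.L2Aut Cfsg.Agent.UGT.SL
open Cfsg.Agent.GH.L2Aut.Rep (conj_comm_iff)
open scoped commutatorElement

variable {F : Type*} [Field F] [Finite F] {L : Type*} [Group L] (R : Cfsg.Agent.GH.L2Aut.Rep F L)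

/-- a perfect subgroup all of whose elements commute is trivial -/
theorem eq_bot_of_comm {G : Type*} [Group G] {E : Subgroup G} (hp : ⁅E, E⁆ = E)
    (h : ∀ x ∈ E, ∀ y ∈ E, x * y = y * x) : E = ⊥ := by
  rw [eq_bot_iff, ← hp, Subgroup.commutator_le]
  intro x hx y hy
  rw [Subgroup.mem_bot, commutatorElement_eq_one_iff_mul_comm]
  exact h x hx y hy

include R in
/-- perfect groups of fixed points of an involution of `PGL` are trivial -/
theorem eq_bot_of_PGL {φ : MulAut L} (h1 : φ ∈ R.PGL) (hne : φ ≠ 1) (h3 : φ * φ = 1)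
    {E : Subgroup L} (hE : E ≤ fixSub φ) (hp : ⁅E, E⁆ = E) : E = ⊥ := by
  obtain ⟨A, hA, hφA, hcomm, huniq, hcov⟩ := R.inv_cent h1 hne h3
  have hcE : ∀ x ∈ E, MulAut.conj x ∈ A ∨ (MulAut.conj x * MulAut.conj x = 1 ∧
      ∀ y ∈ A, MulAut.conj x * y * (MulAut.conj x)⁻¹ = y⁻¹) := by
    intro x hx
    refine hcov _ (R.conj_mem_PGL x) ?_
    rw [conj_comm_iff, (hE hx : φ x = x)]
  -- every element of `E` centralizes `A`
  let C : Subgroup L := (Subgroup.centralizer (A : Set (MulAut L))).comap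
    (MulAut.conj : L →* MulAut L)
  have hC : E ≤ C := by
    rw [← hp, Subgroup.commutator_le]
    intro x hx y hy
    change MulAut.conj ⁅x, y⁆ ∈ Subgroup.centralizer (A : Set (MulAut L))
    rw [Subgroup.mem_centralizer_iff]
    intro a ha
    have key : ∀ x ∈ E, (∀ a ∈ A, MulAut.conj x * a * (MulAut.conj x)⁻¹ = a) ∨
        (∀ a ∈ A, MulAut.conj x * a * (MulAut.conj x)⁻¹ = a⁻¹) := by
      intro x hx
      rcases hcE x hx with h | ⟨-, h⟩
      · left
        intro a ha
        rw [hcomm _ h _ ha, mul_inv_cancel_right]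
      · exact Or.inr h
    have hai : a⁻¹ ∈ A := inv_mem ha
    rw [commutatorElement_def, map_mul, map_mul, map_mul, map_inv, map_inv]
    have hinv : ∀ {g a b : MulAut L}, g * a * g⁻¹ = b → g⁻¹ * b * g = a := by
      intro g a b h
      rw [← h]; group
    have goal : MulAut.conj x * MulAut.conj y * (MulAut.conj x)⁻¹ * (MulAut.conj y)⁻¹ * a *
        (MulAut.conj x * MulAut.conj y * (MulAut.conj x)⁻¹ * (MulAut.conj y)⁻¹)⁻¹ = a := by
      rcases key x hx with hx1 | hx1 <;> rcases key y hy with hy1 | hy1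
      · have e1 := hinv (hy1 a ha)
        have e2 := hinv (hx1 a ha)
        have e3 := hy1 a ha
        have e4 := hx1 a ha
        calc MulAut.conj x * MulAut.conj y * (MulAut.conj x)⁻¹ * (MulAut.conj y)⁻¹ * a *
            (MulAut.conj x * MulAut.conj y * (MulAut.conj x)⁻¹ * (MulAut.conj y)⁻¹)⁻¹ =
            MulAut.conj x * (MulAut.conj y * ((MulAut.conj x)⁻¹ * ((MulAut.conj y)⁻¹ * a *
              MulAut.conj y) * MulAut.conj x) * (MulAut.conj y)⁻¹) * (MulAut.conj x)⁻¹ := by group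
          _ = a := by rw [e1, e2, e3, e4]
      · have e1 : (MulAut.conj y)⁻¹ * a * MulAut.conj y = a⁻¹ :=
          hinv (by rw [hy1 _ hai, inv_inv])
        have e2 := hinv (hx1 _ hai)
        have e3 : MulAut.conj y * a⁻¹ * (MulAut.conj y)⁻¹ = a := by rw [hy1 _ hai, inv_inv]
        have e4 := hx1 a ha
        calc MulAut.conj x * MulAut.conj y * (MulAut.conj x)⁻¹ * (MulAut.conj y)⁻¹ * a *
            (MulAut.conj x * MulAut.conj y * (MulAut.conj x)⁻¹ * (MulAut.conj y)⁻¹)⁻¹ =
            MulAut.conj x * (MulAut.conj y * ((MulAut.conj x)⁻¹ * ((MulAut.conj y)⁻¹ * a *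
              MulAut.conj y) * MulAut.conj x) * (MulAut.conj y)⁻¹) * (MulAut.conj x)⁻¹ := by group
          _ = a := by rw [e1, e2, e3, e4]
      · have e1 := hinv (hy1 a ha)
        have e2 : (MulAut.conj x)⁻¹ * a * MulAut.conj x = a⁻¹ :=
          hinv (by rw [hx1 _ hai, inv_inv])
        have e3 := hy1 _ hai
        have e4 : MulAut.conj x * a⁻¹ * (MulAut.conj x)⁻¹ = a := by rw [hx1 _ hai, inv_inv]
        calc MulAut.conj x * MulAut.conj y * (MulAut.conj x)⁻¹ * (MulAut.conj y)⁻¹ * a *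
            (MulAut.conj x * MulAut.conj y * (MulAut.conj x)⁻¹ * (MulAut.conj y)⁻¹)⁻¹ =
            MulAut.conj x * (MulAut.conj y * ((MulAut.conj x)⁻¹ * ((MulAut.conj y)⁻¹ * a *
              MulAut.conj y) * MulAut.conj x) * (MulAut.conj y)⁻¹) * (MulAut.conj x)⁻¹ := by group
          _ = a := by rw [e1, e2, e3, e4]
      · have e1 : (MulAut.conj y)⁻¹ * a * MulAut.conj y = a⁻¹ :=
          hinv (by rw [hy1 _ hai, inv_inv])
        have e2 : (MulAut.conj x)⁻¹ * a⁻¹ * MulAut.conj x = a := hinv (hx1 a ha)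
        have e3 := hy1 a ha
        have e4 : MulAut.conj x * a⁻¹ * (MulAut.conj x)⁻¹ = a := by rw [hx1 _ hai, inv_inv]
        calc MulAut.conj x * MulAut.conj y * (MulAut.conj x)⁻¹ * (MulAut.conj y)⁻¹ * a *
            (MulAut.conj x * MulAut.conj y * (MulAut.conj x)⁻¹ * (MulAut.conj y)⁻¹)⁻¹ =
            MulAut.conj x * (MulAut.conj y * ((MulAut.conj x)⁻¹ * ((MulAut.conj y)⁻¹ * a *
              MulAut.conj y) * MulAut.conj x) * (MulAut.conj y)⁻¹) * (MulAut.conj x)⁻¹ := by group
          _ = a := by rw [e1, e2, e3, e4]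
    exact (mul_inv_eq_iff_eq_mul.mp goal).symm
  have hCE : ∀ x ∈ E, ∀ a ∈ A, MulAut.conj x * a = a * MulAut.conj x := fun x hx a ha =>
    ((Subgroup.mem_centralizer_iff.mp (hC hx)) a ha).symm
  by_cases hEA : ∀ x ∈ E, MulAut.conj x ∈ A
  · apply eq_bot_of_comm hp
    intro x hx y hy
    apply R.conj_injective
    rw [map_mul, map_mul]
    exact hcomm _ (hEA x hx) _ (hEA y hy)
  · push Not at hEA
    obtain ⟨x, hx, hxA⟩ := hEA
    -- `E` has exponent 2
    have hsq : ∀ y ∈ E, y * y = 1 := by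
      have h4 : ∀ y ∈ E, MulAut.conj y ∉ A → y * y = 1 := by
        intro y hy hyA
        apply R.conj_injective
        rw [map_mul, map_one]
        exact ((hcE y hy).resolve_left hyA).1
      intro y hy
      by_cases hyA : MulAut.conj y ∈ A
      · have h5 : MulAut.conj (x * y) ∉ A := by
          intro h
          apply hxA
          rw [map_mul] at h
          exact (Subgroup.mul_mem_cancel_right _ hyA).mp h
        have h6 := h4 _ (mul_mem hx hy) h5
        have h7 := h4 x hx hxA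
        have h8 : x * y = y * x := by
          apply R.conj_injective
          rw [map_mul, map_mul]
          exact hCE x hx _ hyA
        calc y * y = (x * x) * (y * y) := by rw [h7, one_mul]
          _ = x * (x * y) * y := by group
          _ = x * (y * x) * y := by rw [h8]
          _ = (x * y) * (x * y) := by group
          _ = 1 := h6
      · exact h4 y hy hyA
    apply eq_bot_of_comm hp
    intro y hy z hz
    have h1 := hsq _ (mul_mem hy hz)
    have h2 := hsq y hy
    have h3 := hsq z hz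
    have h4 : (y * z)⁻¹ = y * z := inv_eq_of_mul_eq_one_left h1
    have h5 : y⁻¹ = y := inv_eq_of_mul_eq_one_left h2
    have h6 : z⁻¹ = z := inv_eq_of_mul_eq_one_left h3
    rw [← h4, _root_.mul_inv_rev, h5, h6]

section field

variable {K : Subfield F} {σ : F ≃+* F}

/-- `sub K` has index 2 in the group of fixed points of `fa σ` -/
theorem relIndex_sub (hm : Even (orderOf σ))
    (hK : ∀ a, a ∈ K ↔ σ a = a) (hcard : Nat.card F = Nat.card K ^ orderOf σ) :
    (R.sub K).relIndex (fixSub (R.fa σ)) = 2 := by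
  have h1 := R.card_fix hm hK hcard
  have h2 := (R.subRep K).card_mul_two
  have h3 := Subgroup.card_mul_index ((R.sub K).subgroupOf (fixSub (R.fa σ)))
  have h4 : Nat.card ((R.sub K).subgroupOf (fixSub (R.fa σ))) = Nat.card (R.sub K) :=
    Nat.card_congr (Subgroup.subgroupOfEquivOfLe (R.sub_le_fix hK)).toEquiv
  have hfin : Finite L := R.finite
  rw [h4, h1, ← h2] at h3
  exact Nat.eq_of_mul_eq_mul_left Nat.card_pos h3

/-- perfect groups of fixed points of `fa σ` are contained in `sub K` -/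
theorem le_sub_of_perfect (hm : Even (orderOf σ))
    (hK : ∀ a, a ∈ K ↔ σ a = a) (hcard : Nat.card F = Nat.card K ^ orderOf σ) {E : Subgroup L}
    (hE : E ≤ fixSub (R.fa σ)) (hp : ⁅E, E⁆ = E) : E ≤ R.sub K := by
  have h1 := relIndex_sub R hm hK hcard
  rw [Subgroup.relIndex] at h1
  have hn := Subgroup.normal_of_index_eq_two h1
  rw [← hp, Subgroup.commutator_le]
  intro x hx y hy
  have h2 : ⁅(⟨x, hE hx⟩ : fixSub (R.fa σ)), ⟨y, hE hy⟩⁆ ∈ (R.sub K).subgroupOf (fixSub (R.fa σ)) := by
    rw [← QuotientGroup.eq_one_iff]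
    have h3 : Nat.card (↥(fixSub (R.fa σ)) ⧸ (R.sub K).subgroupOf (fixSub (R.fa σ))) = 2 := h1
    have h5 : Fact (Nat.Prime 2) := ⟨Nat.prime_two⟩
    have h4 : IsCyclic (↥(fixSub (R.fa σ)) ⧸ (R.sub K).subgroupOf (fixSub (R.fa σ))) :=
      isCyclic_of_prime_card h3
    have h6 := h4.commutative
    change QuotientGroup.mk' _ _ = 1
    rw [map_commutatorElement, commutatorElement_eq_one_iff_mul_comm]
    exact h6.is_comm.comm _ _
  exact h2

end field

/-- an odd normal subgroup of the group of fixed points of an involution of field type is trivial -/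
theorem eq_bot_of_field {β : MulAut L} (hβ : β * β = 1) (hf : R.fld β ≠ 1) (hq : 25 ≤ Nat.card F)
    {D : Subgroup L} (hD : D ≤ fixSub β) (hn : ∀ y ∈ fixSub β, ∀ d ∈ D, y * d * y⁻¹ ∈ D)
    (ho : Odd (Nat.card D)) : D = ⊥ := by
  obtain ⟨R', ha, hb, hc, hd⟩ := R.ftype_rep (fun h => hf (R.mem_PGL_iff_fld.1 h)) hβ
  obtain ⟨K, hK, hcard⟩ := exists_fixed_field (R.fld β)
  have hm : Even (orderOf (R.fld β)) := by rw [hd]; exact even_two
  have hfin : Finite L := R.finite
  have h2 := relIndex_sub R' hm hK hcard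
  rw [← hc] at h2
  have hle : R'.sub K ≤ fixSub β := by
    have := R'.sub_le_fix hK
    rwa [← hc] at this
  -- `D ≤ sub K`
  have hDs : D ≤ R'.sub K := by
    intro d hd'
    have h3 : (⟨d, hD hd'⟩ : fixSub β) ^ 2 ∈ (R'.sub K).subgroupOf (fixSub β) := by
      rw [Subgroup.relIndex] at h2
      exact Subgroup.sq_mem_of_index_two h2 _
    have h3' : d ^ 2 ∈ R'.sub K := h3
    obtain ⟨k, hk⟩ := ho
    have h4 : d ^ (2 * k + 1) = 1 := by
      rw [← hk]
      exact congrArg Subtype.val (pow_card_eq_one' (x := (⟨d, hd'⟩ : D)))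
    have h5 : d = (d ^ 2) ^ (k + 1) := by
      rw [← pow_mul, show 2 * (k + 1) = (2 * k + 1) + 1 by ring, pow_succ, h4, one_mul]
    rw [h5]
    exact pow_mem h3' _
  -- `sub K` is simple of even order
  have hk5 : 5 ≤ Nat.card K := by
    rw [hd] at hcard
    by_contra h
    push Not at h
    have : Nat.card K ^ 2 ≤ 4 ^ 2 := Nat.pow_le_pow_left (by omega) 2
    omega
  have hsimple : IsSimpleGroup (R'.sub K) := by
    let _ := Fintype.ofFinite K
    have h1 := Cfsg.Agent.TwoFusion.SLTwoFacts.isSimpleGroup_psl (F := K)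
      (by rw [← Nat.card_eq_fintype_card]; omega)
    exact (toEquiv (R'.subRep K)).isSimpleGroup
  have hDn : (D.subgroupOf (R'.sub K)).Normal := by
    constructor
    intro d hd' y
    exact hn _ (hle y.2) _ hd'
  rcases hDn.eq_bot_or_eq_top with h | h
  · rw [Subgroup.subgroupOf_eq_bot, disjoint_iff, inf_of_le_left hDs] at h
    exact h
  · exfalso
    have h3 : Nat.card (R'.sub K) = Nat.card D := by
      rw [← Nat.card_congr (Subgroup.subgroupOfEquivOfLe hDs).toEquiv, h, Subgroup.card_top]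
    obtain ⟨a, b, hab⟩ := (R'.subRep K).exists_four
    have h4 : orderOf a = 2 := orderOf_eq_prime (by rw [pow_two]; exact hab.aa) hab.a1
    have h5 : 2 ∣ Nat.card (R'.sub K) := by rw [← h4]; exact orderOf_dvd_natCard a
    rw [h3] at h5
    exact (Nat.not_even_iff_odd.2 ho) (even_iff_two_dvd.2 h5)

/-- a perfect group of at least 60 fixed points of an involutory automorphism -/
theorem field_of_perfect {α : MulAut L} (hα : α * α = 1) {E : Subgroup L} (hE : E ≤ fixSub α)
    (hp : ⁅E, E⁆ = E) (hc : 60 ≤ Nat.card E) : α = 1 ∨ (R.fld α ≠ 1 ∧ 25 ≤ Nat.card F) := by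
  by_cases h1 : α = 1
  · exact Or.inl h1
  right
  by_cases hf : R.fld α = 1
  · exfalso
    have h2 := eq_bot_of_PGL R (R.mem_PGL_iff_fld.2 hf) h1 hα hE hp
    rw [h2, Subgroup.card_bot] at hc
    omega
  refine ⟨hf, ?_⟩
  obtain ⟨R', ha, hb, hc', hd⟩ := R.ftype_rep (fun h => hf (R.mem_PGL_iff_fld.1 h)) hα
  obtain ⟨K, hK, hcard⟩ := exists_fixed_field (R.fld α)
  have hm : Even (orderOf (R.fld α)) := by rw [hd]; exact even_two
  have hfin : Finite L := R.finite
  have h2 := le_sub_of_perfect R' hm hK hcard (by rw [← hc']; exact hE) hp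
  have h3 : 60 ≤ Nat.card (R'.sub K) := hc.trans (Nat.le_of_dvd Nat.card_pos (Subgroup.card_dvd_of_le h2))
  have h4 := (R'.subRep K).card_mul_two
  have hk5 : 5 ≤ Nat.card K := by
    by_contra h
    push Not at h
    have h5 : Nat.card K * (Nat.card K ^ 2 - 1) ≤ 4 * (4 ^ 2 - 1) := by
      apply Nat.mul_le_mul (by omega)
      exact Nat.sub_le_sub_right (Nat.pow_le_pow_left (by omega) 2) 1
    omega
  rw [hcard, hd]
  have : 5 ^ 2 ≤ Nat.card K ^ 2 := Nat.pow_le_pow_left hk5 2
  omega

/-- an involution commuting with an involution of field type is inner if the group of its fixed points has a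
nontrivial odd normal subgroup -/
theorem inner_of_comm {α β : MulAut L} (hα : α * α = 1) (hf : R.fld α ≠ 1) (hβ : β * β = 1)
    (hc : β * α = α * β) (hq : 25 ≤ Nat.card F) {D : Subgroup L} (hD : D ≤ fixSub β)
    (hn : ∀ y ∈ fixSub β, ∀ d ∈ D, y * d * y⁻¹ ∈ D) (ho : Odd (Nat.card D)) (hne : D ≠ ⊥) :
    ∃ l : L, β = MulAut.conj l := by
  by_cases hfβ : R.fld β = 1
  · obtain ⟨l, hl⟩ := R.mem_inn_iff.2 ⟨hfβ, R.o1_of_comm hα hf hc⟩
    exact ⟨l, hl.symm⟩
  · exact absurd (eq_bot_of_field R hβ hfβ hq hD hn ho) hne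

end Cfsg.Agent.UGT.A7.PumpL2
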