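import Cfsg.Agent.UGT.A7.World
import Cfsg.Agent.UGT.A7.PumpL2
import Cfsg.Agent.UAlt.CoreAct
import Cfsg.Agent.UAlt.ModFive
import Cfsg.Agent.UAlt.Case0
import Cfsg.Agent.UGT.RedR

/-!
# (7.0): pump-ups of the five point component of a transposition

`seven0 : W7 G → Seven0 G`.
-/

set_option autoImplicit false

open Cfsg Subgroup Equiv
open Cfsg.Agent.SignalizersComponents Cfsg.Agent.Lib
open Cfsg.Agent.SignalizersComponents.IntrinsicBasic
open Cfsg.Agent.UGT.Triple Cfsg.Agent.UGT.Iface Cfsg.Agent.UGT.TriBase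
open Cfsg.Agent.UAlt
open Cfsg.Agent.McLLyComp.Act
open Cfsg.Agent.Intrinsic
open Cfsg.Agent.Intrinsic.Basic (Fixes IsComp core core_le odd_card_core le_normalizer_core
  eq_one_of_mem_core_sq conj_mem_core)
open Cfsg.Agent.Intrinsic.Cen (cen isComp_cen mem_cen)
open Cfsg.Agent.Intrinsic.Diag (diag exists_diag fixes_inv_mul)
open scoped commutatorElement

namespace Cfsg.Agent.UGT.A7.SevenZero

universe u

variable {G : Type u} [Group G] [Finite G]

/-! ### elements of `O(C(x))` -/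

/-- an element `d` of `O(C(x)) ∩ C(a) ∩ C(t)` acting non-trivially on `L / O(L)` as an even permutation of the
fixed points of `x` -/
theorem exists_d {x a t : G} {L : Subgroup G} (M : Lab L) {i j k l : Fin 7} (T : IsTriple x a L)
    (hx : M.φ x = swap i j * swap k l) (hij : i ≠ j) (hik : i ≠ k) (hil : i ≠ l) (hjk : j ≠ k)
    (hjl : j ≠ l) (ht : orderOf t = 2) (hta : t * a = a * t) (htx : t * x = x * t)
    (htL : t ∈ normalizer (L : Set G)) (htφ : M.φ t = swap i j) :
    ∃ d ∈ core (centralizer ({x} : Set G)), d ∈ centralizer ({a} : Set G) ∧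
      d ∈ centralizer ({t} : Set G) ∧ d ∈ normalizer (L : Set G) ∧ M.φ d ≠ 1 ∧
      M.φ d ∈ alt (fixIn Finset.univ (M.φ x)) := by
  obtain ⟨d, hd, hda, hf⟩ := T.bad
  obtain ⟨D, hD⟩ : ∃ D, D = core (centralizer ({x} : Set G)) ⊓ centralizer ({a} : Set G) := ⟨_, rfl⟩
  have hmem : ∀ e, e ∈ D ↔ e ∈ core (centralizer ({x} : Set G)) ∧ e ∈ centralizer ({a} : Set G) := by
    intro e; rw [hD]; exact Iff.rfl
  have ho : Odd (Nat.card D) := Odd.of_dvd_nat (odd_card_core (centralizer ({x} : Set G)))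
    (by rw [hD]; exact card_dvd_of_le inf_le_left)
  have hDN : D ≤ normalizer (L : Set G) := fun e he =>
    T.mem_normalizer_of_core ((hmem e).mp he).1 ((hmem e).mp he).2
  have hcore : ∀ e ∈ D, M.φ e ∈ alt (fixIn Finset.univ (M.φ x)) := by
    intro e he
    refine core_cent_le (M.mem_sym x T.x_mem) (M.sq T.x_mem (sq_of_order T.invx)) ?_
    refine M.phi_mem_core T.x_mem (sq_of_order T.invx) ho hDN ?_ ?_ e he
    · exact fun e he => comm_c ((core_le _) ((hmem e).mp he).1)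
    · intro k hk hkx e he
      have hka : k ∈ centralizer ({a} : Set G) := T.comp.le hk
      exact (hmem _).mpr ⟨conj_core (mem_c hkx) ((hmem e).mp he).1, Subgroup.mul_mem _
        (Subgroup.mul_mem _ hka ((hmem e).mp he).2) (Subgroup.inv_mem _ hka)⟩
  -- elements of `D` commute with the transposition
  have hmv : M.φ x i ≠ i ∧ M.φ x j ≠ j := by
    rw [hx]
    constructor
    · rw [Perm.mul_apply, swap_apply_of_ne_of_ne hik hil, swap_apply_left]
      exact hij.symm
    · rw [Perm.mul_apply, swap_apply_of_ne_of_ne hjk hjl, swap_apply_right]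
      exact hij
  have hfix : ∀ e ∈ D, M.φ e i = i ∧ M.φ e j = j := by
    intro e he
    have h1 := (hcore e he).2
    exact ⟨h1 i (by rw [mem_fixIn]; exact fun h => hmv.1 h.2),
      h1 j (by rw [mem_fixIn]; exact fun h => hmv.2 h.2)⟩
  have hcomm : ∀ e ∈ D, M.φ t * M.φ e * (M.φ t)⁻¹ = M.φ e := by
    intro e he
    have h1 : M.φ e * swap i j * (M.φ e)⁻¹ = swap i j := by
      rw [← Equiv.swap_apply_apply, (hfix e he).1, (hfix e he).2]
    rw [htφ, mul_inv_eq_iff_eq_mul]
    exact (mul_inv_eq_iff_eq_mul.mp h1).symm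
  -- the kernel
  obtain ⟨F, hF⟩ : ∃ F : Subgroup G, ∀ e, e ∈ F ↔ e ∈ D ∧ M.φ e = 1 := by
    refine ⟨{ carrier := {e | e ∈ D ∧ M.φ e = 1}
              mul_mem' := ?_
              one_mem' := ⟨one_mem _, M.one⟩
              inv_mem' := ?_ }, fun e => Iff.rfl⟩
    · rintro e e' ⟨h1, h2⟩ ⟨h1', h2'⟩
      exact ⟨mul_mem h1 h1', by rw [M.mul _ _ (hDN h1) (hDN h1'), h2, h2', one_mul]⟩
    · rintro e ⟨h1, h2⟩
      exact ⟨inv_mem h1, by rw [M.inv (hDN h1), h2, inv_one]⟩
  have hFodd : Odd (Nat.card F) := Odd.of_dvd_nat ho (card_dvd_of_le fun e he => ((hF e).mp he).1)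
  have htt := sq_of_order ht
  have hti : t⁻¹ = t := inv_eq_of_mul_eq_one_left htt
  have htD : ∀ e ∈ D, t * e * t⁻¹ ∈ D := by
    intro e he
    exact (hmem _).mpr ⟨conj_core (mem_c htx) ((hmem e).mp he).1,
      mul_mem (mul_mem (mem_c hta) ((hmem e).mp he).2) (inv_mem (mem_c hta))⟩
  have htF : ∀ e ∈ F, t * e * t⁻¹ ∈ F := by
    intro e he
    obtain ⟨h1, h2⟩ := (hF e).mp he
    refine (hF _).mpr ⟨htD e h1, ?_⟩
    rw [M.conj htL (hDN h1), h2, mul_one, mul_inv_cancel]
  have htn : t ∈ normalizer (F : Set G) := by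
    rw [mem_normalizer_iff]
    intro e
    refine ⟨htF e, fun h => ?_⟩
    have h1 := htF _ h
    have h2 : t * (t * e * t⁻¹) * t⁻¹ = e := by
      rw [hti]
      calc t * (t * e * t) * t = (t * t) * e * (t * t) := by group
        _ = e := by rw [htt]; group
    rwa [h2] at h1
  have hdD : d ∈ D := (hmem d).mpr ⟨hd, hda⟩
  have hm : d⁻¹ * (t * d * t⁻¹) ∈ F := by
    refine (hF _).mpr ⟨mul_mem (inv_mem hdD) (htD d hdD), ?_⟩
    rw [M.mul _ _ (inv_mem (hDN hdD)) (hDN (htD d hdD)), M.inv (hDN hdD), M.conj htL (hDN hdD),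
      hcomm d hdD, inv_mul_cancel]
  obtain ⟨o, ho', hco⟩ := Intrinsic.Lifting.exists_commute (n := 1) hFodd
    (by rw [pow_one, pow_two, htt]) htn hm
  obtain ⟨h1, h2⟩ := (hF o).mp ho'
  have hdo : d * o ∈ D := mul_mem hdD h1
  refine ⟨d * o, ((hmem _).mp hdo).1, ((hmem _).mp hdo).2, mem_c hco.symm, hDN hdo, ?_,
    hcore _ hdo⟩
  rw [M.mul _ _ (hDN hdD) (hDN h1), h2, mul_one]
  intro h
  exact hf ((M.fixes_iff (hDN hdD)).mp h)

/-- `Fix (i j)` has five elements -/
theorem card_fix_swap {i j : Fin 7} (hij : i ≠ j) :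
    (fixIn (Finset.univ : Finset (Fin 7)) (swap i j)).card = 5 := by
  have h1 : fixIn (Finset.univ : Finset (Fin 7)) (swap i j) = Finset.univ \ {i, j} := by
    ext p
    rw [mem_fixIn, Finset.mem_sdiff, Finset.mem_insert, Finset.mem_singleton]
    refine and_congr_right fun _ => ⟨fun h hp => ?_, fun h => ?_⟩
    · rcases hp with rfl | rfl
      · rw [swap_apply_left] at h; exact hij h.symm
      · rw [swap_apply_right] at h; exact hij h
    · rw [not_or] at h
      exact swap_apply_of_ne_of_ne h.1 h.2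
  rw [h1, Finset.card_univ_sdiff, Finset.card_pair hij, Fintype.card_fin]

/-- the elements of `core (cmp t)` have trivial label -/
theorem cmp_core_iff {L : Subgroup G} (M : Lab L) {t : G} (htL : t ∈ normalizer (L : Set G))
    (htt : t * t = 1) (h5 : (fixIn Finset.univ (M.φ t)).card = 5) {y : G} (hy : y ∈ M.cmp t) :
    M.φ y = 1 ↔ y ∈ core (M.cmp t) := by
  obtain ⟨B, hB⟩ := M.exists_cmp_five htL htt (by omega) (by omega)
  rw [← hB y hy]
  exact B.core_iff y hy

/-- `d` does not fix the component `cmp t` -/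
theorem not_fixes_cmp {L : Subgroup G} (M : Lab L) {t d x : G} (htL : t ∈ normalizer (L : Set G))
    (htt : t * t = 1) (h5 : (fixIn Finset.univ (M.φ t)).card = 5)
    (hsub : fixIn Finset.univ (M.φ x) ⊆ fixIn Finset.univ (M.φ t))
    (hdL : d ∈ normalizer (L : Set G)) (hd1 : M.φ d ≠ 1)
    (hd : M.φ d ∈ alt (fixIn Finset.univ (M.φ x))) : ¬ Fixes d (M.cmp t) := by
  intro hf
  obtain ⟨B, hB⟩ := M.exists_cmp_five htL htt (by omega) (by omega)
  apply hd1
  have h1 := (B.fixes_iff hf.1).mpr hf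
  ext p
  by_cases hp : p ∈ fixIn Finset.univ (M.φ t)
  · have h2 := M.compat B (M.cmp_le t) hB hdL hf.1 hp
    rw [← h2, h1]
  · rw [hd.2 p fun h => hp (hsub h)]
    rfl

/-- an element `y` of `O(C(x)) ∩ cmp t` with non-trivial label -/
theorem exists_y {x a t d : G} {L : Subgroup G} (M : Lab L) {i j k l : Fin 7} (T : IsTriple x a L)
    (hx : M.φ x = swap i j * swap k l) (hij : i ≠ j) (hik : i ≠ k) (hil : i ≠ l) (hjk : j ≠ k)
    (hjl : j ≠ l) (hkl : k ≠ l) (ht : orderOf t = 2) (hta : t * a = a * t) (htx : t * x = x * t)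
    (htL : t ∈ normalizer (L : Set G)) (htφ : M.φ t = swap i j)
    (hd : d ∈ core (centralizer ({x} : Set G))) (hdt : d ∈ centralizer ({t} : Set G))
    (hdL : d ∈ normalizer (L : Set G)) (hd1 : M.φ d ≠ 1)
    (hdφ : M.φ d ∈ alt (fixIn Finset.univ (M.φ x))) :
    ∃ y ∈ core (centralizer ({x} : Set G)), y ∈ M.cmp t ∧ M.φ y ≠ 1 := by
  have htt := sq_of_order ht
  have hxx := sq_of_order T.invx
  have h5 : (fixIn Finset.univ (M.φ t)).card = 5 := by rw [htφ]; exact card_fix_swap hij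
  -- a point moved by `d`
  obtain ⟨p, hp⟩ : ∃ p, M.φ d p ≠ p := by
    by_contra h
    push Not at h
    exact hd1 (Equiv.ext h)
  obtain ⟨q, hq⟩ : ∃ q, q = M.φ d p := ⟨_, rfl⟩
  have hpx : p ∈ fixIn Finset.univ (M.φ x) := by
    by_contra h
    exact hp (hdφ.2 p h)
  have hqx : q ∈ fixIn Finset.univ (M.φ x) := by
    rw [hq]
    exact mem_of_mem_sym (alt_le_sym _ hdφ) hpx
  have hpq : p ≠ q := by rw [hq]; exact hp.symm
  have hmvx : ∀ s, s = i ∨ s = j ∨ s = k ∨ s = l → M.φ x s ≠ s := by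
    rw [hx]
    rintro s (rfl | rfl | rfl | rfl)
    · rw [Perm.mul_apply, swap_apply_of_ne_of_ne hik hil, swap_apply_left]
      exact hij.symm
    · rw [Perm.mul_apply, swap_apply_of_ne_of_ne hjk hjl, swap_apply_right]
      exact hij
    · rw [Perm.mul_apply, swap_apply_left, swap_apply_of_ne_of_ne hil.symm hjl.symm]
      exact hkl.symm
    · rw [Perm.mul_apply, swap_apply_right, swap_apply_of_ne_of_ne hik.symm hjk.symm]
      exact hkl
  have hne : ∀ s, s ∈ fixIn Finset.univ (M.φ x) → s ≠ i ∧ s ≠ j ∧ s ≠ k ∧ s ≠ l := by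
    intro s hs
    have h1 := (mem_fixIn.mp hs).2
    exact ⟨fun h => hmvx s (Or.inl h) h1, fun h => hmvx s (Or.inr (Or.inl h)) h1,
      fun h => hmvx s (Or.inr (Or.inr (Or.inl h))) h1,
      fun h => hmvx s (Or.inr (Or.inr (Or.inr h))) h1⟩
  obtain ⟨pi, pj, pk, pl⟩ := hne p hpx
  obtain ⟨qi, qj, qk, ql⟩ := hne q hqx
  -- the permutation `(k l)(p q)`
  obtain ⟨σ, hσ⟩ : ∃ σ, σ = swap k l * swap p q := ⟨_, rfl⟩
  have dkl : ∀ {s s' u u' : Fin 7}, s ≠ u → s ≠ u' → s' ≠ u → s' ≠ u' →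
      swap s s' * swap u u' = swap u u' * swap s s' := by
    intro s s' u u' h1 h2 h3 h4
    have h6 : Perm.Disjoint (swap s s') (swap u u') := by
      intro r
      by_cases h7 : r = s
      · right; rw [h7]; exact swap_apply_of_ne_of_ne h1 h2
      · by_cases h8 : r = s'
        · right; rw [h8]; exact swap_apply_of_ne_of_ne h3 h4
        · left; exact swap_apply_of_ne_of_ne h7 h8
    exact h6.commute.eq
  have c1 := dkl pk.symm qk.symm pl.symm ql.symm
  have c2 := dkl hik hil hjk hjl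
  have c3 := dkl pi.symm qi.symm pj.symm qj.symm
  have hσσ : σ * σ = 1 := by
    rw [hσ]
    calc swap k l * swap p q * (swap k l * swap p q) =
        swap k l * (swap p q * swap k l) * swap p q := by group
      _ = swap k l * (swap k l * swap p q) * swap p q := by rw [c1]
      _ = (swap k l * swap k l) * (swap p q * swap p q) := by group
      _ = 1 := by rw [swap_mul_self, swap_mul_self, one_mul]
  have hσt : swap i j * σ = σ * swap i j := by
    rw [hσ, ← mul_assoc, c2, mul_assoc, c3, ← mul_assoc]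
  have hσx : swap i j * swap k l * σ = σ * (swap i j * swap k l) := by
    have h6 : swap k l * σ = σ * swap k l := by
      rw [hσ, ← mul_assoc, mul_assoc, mul_assoc, c1]
    rw [mul_assoc, h6, ← mul_assoc, hσt, mul_assoc]
  have hσalt : σ ∈ alternatingGroup (Fin 7) := by
    rw [hσ, Perm.mem_alternatingGroup, Perm.sign_mul, Perm.sign_swap hkl, Perm.sign_swap hpq]
    decide
  have hσmem : σ ∈ alt (fixIn Finset.univ (M.φ t)) := by
    refine ⟨hσalt, fun s hs => ?_⟩
    rw [htφ, mem_fixIn, not_and] at hs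
    have h6 : s = i ∨ s = j := by
      by_contra h
      rw [not_or] at h
      exact hs (Finset.mem_univ _) (swap_apply_of_ne_of_ne h.1 h.2)
    rw [hσ, Perm.mul_apply]
    rcases h6 with rfl | rfl
    · rw [swap_apply_of_ne_of_ne pi.symm qi.symm, swap_apply_of_ne_of_ne hik hil]
    · rw [swap_apply_of_ne_of_ne pj.symm qj.symm, swap_apply_of_ne_of_ne hjk hjl]
  -- lifting
  have hfour : ∀ z ∈ closure ({x, t} : Set G), z = 1 ∨ z = x ∨ z = t ∨ z = x * t := by
    intro z hz
    have hxt : t * x = x * t := htx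
    refine closure_induction (p := fun z _ => z = 1 ∨ z = x ∨ z = t ∨ z = x * t) ?_ (Or.inl rfl)
      ?_ ?_ hz
    · rintro z (rfl | rfl)
      · exact Or.inr (Or.inl rfl)
      · exact Or.inr (Or.inr (Or.inl rfl))
    · rintro z w - - hz hw
      have e1 : t * (x * t) = x := by rw [← hxt, ← mul_assoc, htt, one_mul]
      have e2 : x * (x * t) = t := by rw [← mul_assoc, hxx, one_mul]
      have e3 : x * t * x = t := by rw [← hxt, mul_assoc, hxx, mul_one]
      have e4 : x * t * t = x := by rw [mul_assoc, htt, mul_one]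
      have e5 : x * t * (x * t) = 1 := by rw [mul_assoc, e1, hxx]
      rcases hz with rfl | rfl | rfl | rfl <;> rcases hw with rfl | rfl | rfl | rfl <;>
        simp [hxx, htt, hxt, e1, e2, e3, e4, e5]
    · rintro z - hz
      have hxi : x⁻¹ = x := inv_eq_of_mul_eq_one_left hxx
      have hti : t⁻¹ = t := inv_eq_of_mul_eq_one_left htt
      rcases hz with rfl | rfl | rfl | rfl
      · left; exact inv_one
      · right; left; exact hxi
      · right; right; left; exact hti
      · right; right; right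
        rw [mul_inv_rev, hxi, hti, hxt]
  have hPN : closure ({x, t} : Set G) ≤ normalizer (L : Set G) := by
    rw [closure_le]
    rintro z (rfl | rfl)
    · exact T.x_mem
    · exact htL
  have hP2 : IsPGroup 2 ↥(closure ({x, t} : Set G)) := by
    rintro ⟨z, hz⟩
    refine ⟨1, Subtype.ext ?_⟩
    change z ^ 2 ^ 1 = 1
    rw [pow_one, pow_two]
    rcases hfour z hz with rfl | rfl | rfl | rfl
    · exact one_mul 1
    · exact hxx
    · exact htt
    · calc x * t * (x * t) = x * (t * x) * t := by group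
        _ = x * (x * t) * t := by rw [htx]
        _ = (x * x) * (t * t) := by group
        _ = 1 := by rw [hxx, htt, one_mul]
  have hQ2 : IsPGroup 2 ↥(zpowers σ) := by
    rintro ⟨z, hz⟩
    obtain ⟨n, rfl⟩ := mem_zpowers_iff.mp hz
    refine ⟨1, Subtype.ext ?_⟩
    change (σ ^ n) ^ 2 ^ 1 = 1
    rw [pow_one, ← zpow_natCast, ← zpow_mul, mul_comm, zpow_mul, zpow_natCast, pow_two, hσσ, one_zpow]
  obtain ⟨Q, hQL, hQ, hQP, -, hlift, -⟩ := M.exists_group_lift hP2 hPN hQ2
    ((zpowers_le).mpr ⟨hσalt, fun s hs => absurd (Finset.mem_univ s) hs⟩) (by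
      intro z hz s hs
      obtain ⟨n, rfl⟩ := mem_zpowers_iff.mp hs
      have h6 : M.φ z * σ = σ * M.φ z := by
        rcases hfour z hz with rfl | rfl | rfl | rfl
        · rw [M.one, one_mul, mul_one]
        · rw [hx, hσx]
        · rw [htφ, hσt]
        · rw [M.mul _ _ T.x_mem htL, hx, htφ, mul_assoc _ _ σ, hσt, ← mul_assoc, hσx, mul_assoc]
      exact (Commute.zpow_right (h6 : Commute _ _) n).eq)
  obtain ⟨h, hh, hhσ⟩ := hlift σ (mem_zpowers σ)
  have hhx : h * x = x * h := hQP h hh x (subset_closure (Or.inl rfl))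
  have hht : h * t = t * h := hQP h hh t (subset_closure (Or.inr rfl))
  obtain ⟨n, hn⟩ := hQ ⟨h, hh⟩
  have hn' : h ^ 2 ^ n = 1 := congrArg Subtype.val hn
  have hhJ : h ∈ M.cmp t := M.mem_cmp (hQL hh) hht.symm (by rw [hhσ]; exact hσmem) hn'
  have hdJ : d ∈ normalizer (M.cmp t : Set G) := by
    have h6 : ∀ d : G, d ∈ normalizer (L : Set G) → d ∈ centralizer ({t} : Set G) →
        IntrinsicBasic.cj d (M.cmp t) = M.cmp t := by
      intro d hdL hdt
      have h7 := (M.isComp_cmp htL htt (by omega)).cj d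
      rw [Intrinsic.Basic.cj_inf, IntrinsicBasic.cj_centralizer, mem_normalizer_iff_cj.mp hdL,
        show d * t * d⁻¹ = t by rw [comm_c hdt]; group] at h7
      exact ((M.isComp_iff_cmp htL htt).mp h7).1
    exact mem_normalizer_iff_cj.mpr (h6 d hdL hdt)
  have hhL : h ∈ normalizer (L : Set G) := le_normalizer (M.cmp_le t hhJ)
  refine ⟨⁅d, h⁆, ?_, ?_, ?_⟩
  · have h6 : h * d⁻¹ * h⁻¹ ∈ core (centralizer ({x} : Set G)) := conj_core (mem_c hhx) (inv_mem hd)
    have h7 := mul_mem hd h6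
    rw [commutatorElement_def]
    convert h7 using 1
    group
  · rw [commutatorElement_def]
    exact mul_mem ((mem_normalizer_iff.mp hdJ h).mp hhJ) (inv_mem hhJ)
  · rw [commutatorElement_def, M.mul _ _ (mul_mem (mul_mem hdL hhL) (inv_mem hdL)) (inv_mem hhL),
      M.conj hdL hhL, M.inv hhL, hhσ]
    intro h6
    rw [mul_inv_eq_one, mul_inv_eq_iff_eq_mul] at h6
    -- `δ σ = σ δ`
    have h7 := congrArg (fun f : Perm (Fin 7) => f p) h6
    have h8 : σ p = q := by
      rw [hσ, Perm.mul_apply, swap_apply_left, swap_apply_of_ne_of_ne qk ql]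
    have h9 : σ q = p := by
      rw [hσ, Perm.mul_apply, swap_apply_right, swap_apply_of_ne_of_ne pk pl]
    simp only [Perm.mul_apply] at h7
    rw [h8, ← hq, h9] at h7
    -- `δ p = q`, `δ q = p`, but `δ` has odd order
    obtain ⟨m, hm⟩ : ∃ m, (M.φ d) ^ (2 * m + 1) = 1 := by
      obtain ⟨m, hm⟩ := odd_card_core (centralizer ({x} : Set G))
      refine ⟨m, ?_⟩
      rw [← M.pow hdL, ← hm]
      have h10 : d ^ Nat.card (core (centralizer ({x} : Set G))) = 1 :=
        congrArg Subtype.val (pow_card_eq_one' (x := (⟨d, hd⟩ : core (centralizer ({x} : Set G)))))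
      rw [h10, M.one]
    have h10 : ∀ m : ℕ, ((M.φ d) ^ (2 * m)) p = p := by
      intro m
      induction m with
      | zero => rw [mul_zero, pow_zero]; rfl
      | succ m ih =>
        rw [show 2 * (m + 1) = 2 * m + 1 + 1 by ring, pow_succ, pow_succ, Perm.mul_apply,
          Perm.mul_apply, ← hq, h7, ih]
    have h11 := congrArg (fun f : Perm (Fin 7) => f p) hm
    simp only [Perm.one_apply] at h11
    rw [pow_succ', Perm.mul_apply, h10, ← hq] at h11
    exact hpq h11.symm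

/-! ### the pump-up -/

theorem inf_core_le {J Y : Subgroup G} (hJ : J ≤ Y) : J ⊓ core Y ≤ core J := by
  refine Cfsg.Agent.Intrinsic.Basic.le_core inf_le_left ?_
    (Odd.of_dvd_nat (odd_card_core Y) (card_dvd_of_le inf_le_right))
  intro j hj
  rw [mem_normalizer_iff_cj, Cfsg.Agent.Intrinsic.Basic.cj_inf, cj_eq_self_of_mem hj,
    mem_normalizer_iff_cj.mp (le_normalizer_core Y (hJ hj))]

/-- the order of `E / O(E)` for a labelling with five points -/
theorem card_bar {E : Subgroup G} {σ : Perm (Fin 7)} (B : Lab5 E σ)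
    (h5 : (fixIn (Finset.univ : Finset (Fin 7)) σ).card = 5) : (oddCore ↥E).index = 60 := by
  rw [← B.ker_homK, Subgroup.index_ker, MonoidHom.range_eq_top.mpr B.homK_surjective,
    Subgroup.card_top, ← Nat.card_congr (altEquiv (fixIn (Finset.univ : Finset (Fin 7)) σ)).toEquiv]
  have hnt : Nontrivial ↥(fixIn (Finset.univ : Finset (Fin 7)) σ) := by
    rw [← Fintype.one_lt_card_iff_nontrivial, Fintype.card_coe]
    omega
  have h1 := two_mul_nat_card_alternatingGroup
    (α := ↥(fixIn (Finset.univ : Finset (Fin 7)) σ))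
  rw [Nat.card_perm, Nat.card_eq_fintype_card (α := ↥(fixIn (Finset.univ : Finset (Fin 7)) σ)),
    Fintype.card_coe, h5] at h1
  have h2 : Nat.factorial 5 = 120 := rfl
  omega

/-- a labelling of `N` by the fixed points of `t` in the diagonal case -/
theorem lab_of_diag {a t : G} {N J : Subgroup G} {S : Finset (Fin 7)} (hS : S.card = 5)
    (hN : IsComp (centralizer ({t} : Set G)) N) (hta : t * a = a * t) (haa : a * a = 1)
    (hne : IntrinsicBasic.cj a N ≠ N) (hJ : J = diag (centralizer ({t} : Set G)) N a)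
    (hc : center (Bar N) = ⊥) (B : Mod J S) : ∃ M' : Mod N S, ∀ y ∈ J, M'.φ y = B.φ y := by
  obtain ⟨hJc, h1, h2, h3, f, hf, hk, hfm, -⟩ := exists_diag hN (mem_c hta.symm) haa hne
  subst hJ
  have hfi : Function.Injective f := by
    rw [injective_iff_map_eq_one]
    intro z hz
    have h4 : z ∈ f.ker := hz
    have h5 := hk h4
    rw [hc] at h5
    exact mem_bot.mp h5
  -- the labelling of `J / O(J)`
  let Bb : Bar (diag (centralizer ({t} : Set G)) N a) →* ↥(alt S) :=
    ((QuotientGroup.quotientMulEquivOfEq B.ker_homK.symm).trans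
      (QuotientGroup.quotientKerEquivOfSurjective _ B.homK_surjective)).toMonoidHom
  have hBb : ∀ y, Bb (QuotientGroup.mk y) = B.homK y := fun y => rfl
  have hBi : Function.Injective Bb := MulEquiv.injective _
  have hBs : Function.Surjective Bb := MulEquiv.surjective _
  let ε : ↥N →* Perm (Fin 7) := (alt S).subtype.comp ((Bb.comp f).comp (QuotientGroup.mk' (oddCore ↥N)))
  have hε : ∀ y, ε y = ((Bb (f (QuotientGroup.mk' (oddCore ↥N) y)) : ↥(alt S)) : Perm (Fin 7)) :=
    fun y => rfl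
  obtain ⟨M', hM'⟩ := Mod.exists_of_hom_five (K := N) (S := S) (by omega) (by omega) ε (by
    ext σ
    constructor
    · rintro ⟨y, rfl⟩
      rw [hε]
      exact (Bb (f (QuotientGroup.mk' (oddCore ↥N) y))).2
    · intro hσ
      obtain ⟨u, hu⟩ := hBs ⟨σ, hσ⟩
      obtain ⟨v, rfl⟩ := hf u
      obtain ⟨y, rfl⟩ := QuotientGroup.mk'_surjective _ v
      exact ⟨y, by rw [hε, hu]⟩) (by
    ext y
    rw [MonoidHom.mem_ker, hε]
    constructor
    · intro h4
      have h5 : Bb (f (QuotientGroup.mk' (oddCore ↥N) y)) = 1 := Subtype.ext h4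
      rw [← map_one Bb] at h5
      have h6 := hBi h5
      rw [← map_one f] at h6
      exact (QuotientGroup.eq_one_iff y).mp (hfi h6)
    · intro h4
      have h5 : QuotientGroup.mk' (oddCore ↥N) y = 1 := (QuotientGroup.eq_one_iff y).mpr h4
      rw [h5, map_one, map_one]
      rfl)
  refine ⟨M', fun y hy => ?_⟩
  obtain ⟨k, hk', hky⟩ := h1 y hy
  have hyX : y ∈ centralizer ({t} : Set G) := (hJc.le hy).1
  have h4 := fixes_inv_mul hN (mem_c hta.symm) hne hk' hyX hky
  have h5 := hfm ⟨k, hk'⟩ ⟨y, hy⟩ hky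
  have hkN := le_normalizer hk'
  have hyN : y ∈ normalizer (N : Set G) := by
    have := mul_mem hkN h4.1
    rwa [mul_inv_cancel_left] at this
  have h6 := (M'.fixes_iff h4.1).mpr h4
  rw [M'.mul _ _ (inv_mem hkN) hyN, M'.inv hkN, inv_mul_eq_one] at h6
  rw [← h6, hM' ⟨k, hk'⟩, hε, h5]
  rfl

/-- the type `A₇`, `a` normalizes `N` -/
theorem lab_of_alt {a t : G} {L N : Subgroup G} (M : Lab L) {i j : Fin 7} (hij : i ≠ j)
    (htL : t ∈ normalizer (L : Set G)) (htt : t * t = 1) (htφ : M.φ t = swap i j)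
    (ha : a ∈ normalizer (N : Set G)) (haa : a * a = 1)
    (hE : IsComp (N ⊓ centralizer ({a} : Set G)) (M.cmp t)) (h7 : IsAlt 7 (Bar N)) :
    ∃ M' : Lab N, M'.φ a = swap i j ∧ ∀ y ∈ M.cmp t, M'.φ y = M.φ y := by
  have h5 : (fixIn Finset.univ (M.φ t)).card = 5 := by rw [htφ]; exact card_fix_swap hij
  obtain ⟨B, hB⟩ := M.exists_cmp_five htL htt (by omega) (by omega)
  obtain ⟨e⟩ := h7
  obtain ⟨M₀⟩ := Mod.nonempty_of_equiv (K := N) (S := (Finset.univ : Finset (Fin 7)))
    (by rw [Finset.card_univ, Fintype.card_fin]) (Ω := Fin 7)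
    (by rw [Finset.card_univ]) e
  obtain ⟨e1, e2⟩ := (M₀.isComp_iff_cmp ha haa).mp hE
  obtain ⟨M1, hM1⟩ : ∃ M1 : Mod (M₀.cmp a) (fixIn Finset.univ (M.φ t)), ∀ y ∈ M₀.cmp a,
      M1.φ y = M.φ y := by
    rw [← e1]; exact ⟨B, hB⟩
  have e3 := CaseD.card_fixIn M₀ ha haa e2 M1
  obtain ⟨M', hM'⟩ := M₀.exists_relabel_cmp_five ha haa (by omega) (by omega) M1
    (S' := (Finset.univ : Finset (Fin 7))) (Finset.subset_univ _) rfl
  have hag : ∀ y ∈ M.cmp t, M'.φ y = M.φ y := by
    intro y hy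
    rw [e1] at hy
    rw [hM' y hy, hM1 y hy]
  refine ⟨M', ?_, hag⟩
  obtain ⟨f1, f2⟩ := (M'.isComp_iff_cmp ha haa).mp hE
  have hfx : fixIn Finset.univ (M'.φ a) = fixIn Finset.univ (swap i j) := by
    rw [← htφ]
    apply Finset.Subset.antisymm
    · refine subset_of_alt_le (by omega) fun σ hσ => ?_
      obtain ⟨k, hk, rfl⟩ := M'.cmp_lift ha haa f2 hσ
      rw [← f1] at hk
      rw [hag k hk]
      exact M.cmp_mem_alt hk
    · refine subset_of_alt_le (by omega) fun σ hσ => ?_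
      obtain ⟨k, hk, rfl⟩ := M.cmp_lift htL htt (by omega) hσ
      rw [← hag k hk]
      rw [f1] at hk
      exact M'.cmp_mem_alt hk
  have hmem : ∀ p, M'.φ a p = p ↔ swap i j p = p := by
    intro p
    have h6 := Finset.ext_iff.mp hfx p
    rw [mem_fixIn, mem_fixIn] at h6
    exact ⟨fun h => (h6.mp ⟨Finset.mem_univ _, h⟩).2, fun h => (h6.mpr ⟨Finset.mem_univ _, h⟩).2⟩
  have hi : M'.φ a i = j := by
    by_contra hne
    have h6 : M'.φ a i ≠ i := by
      rw [Ne, hmem, swap_apply_left]; exact hij.symm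
    have h7 : M'.φ a (M'.φ a i) = M'.φ a i := by
      rw [hmem]; exact swap_apply_of_ne_of_ne h6 hne
    exact h6 ((M'.φ a).injective h7)
  have hj : M'.φ a j = i := by
    by_contra hne
    have h6 : M'.φ a j ≠ j := by
      rw [Ne, hmem, swap_apply_right]; exact hij
    have h7 : M'.φ a (M'.φ a j) = M'.φ a j := by
      rw [hmem]; exact swap_apply_of_ne_of_ne hne h6
    exact h6 ((M'.φ a).injective h7)
  ext p
  by_cases hpi : p = i
  · rw [hpi, hi, swap_apply_left]
  by_cases hpj : p = j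
  · rw [hpj, hj, swap_apply_right]
  have h6 := swap_apply_of_ne_of_ne hpi hpj
  rw [h6, (hmem p).mpr h6]

/-- the type `PSL₂(q)`, `a` normalizes `N`: `a` fixes `N / O(N)` or `x` is inner -/
theorem fixes_or_inner {x a t : G} {N J : Subgroup G} {σ : Perm (Fin 7)} (B : Lab5 J σ)
    (hσ : (fixIn (Finset.univ : Finset (Fin 7)) σ).card = 5) (T : IsTriple x t N)
    (hxa : x * a = a * x) (ha : a ∈ normalizer (N : Set G)) (haa : a * a = 1)
    (hE : IsComp (N ⊓ centralizer ({a} : Set G)) J) (h2 : IsL2 (Bar N)) {y : G}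
    (hy : y ∈ core (centralizer ({x} : Set G))) (hyJ : y ∈ J) (hyc : y ∉ core J) :
    Fixes a N ∨ IsInner x N := by
  obtain ⟨F, i1, i2, hodd, hq, ⟨e⟩⟩ := h2
  have R := GH.L2Aut.Rep.ofEquiv (GH.L2Aut.two_ne_zero_of_odd hodd) e
  have hJN : J ≤ N := hE.le.trans inf_le_left
  have hJa : ∀ y ∈ J, y * a = a * y := fun y hy => comm_c (hE.le hy).2
  have hxx := sq_of_order T.invx
  have hxN := T.x_mem
  -- the image of `J`
  obtain ⟨π, hπ⟩ : ∃ π : ↥N →* Bar N, π = QuotientGroup.mk' (oddCore ↥N) := ⟨_, rfl⟩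
  have hπ1 : ∀ (y : G) (hy : y ∈ N), π ⟨y, hy⟩ = QuotientGroup.mk ⟨y, hy⟩ := by
    intro y hy; rw [hπ]; rfl
  have hα2 : act N ⟨a, ha⟩ * act N ⟨a, ha⟩ = 1 := by
    rw [← act_mul ha ha, act_congr (mul_mem ha ha) haa]
    exact map_one (act N)
  have hβ2 : act N ⟨x, hxN⟩ * act N ⟨x, hxN⟩ = 1 := by
    rw [← act_mul hxN hxN, act_congr (mul_mem hxN hxN) hxx]
    exact map_one (act N)
  have hcomm : act N ⟨x, hxN⟩ * act N ⟨a, ha⟩ = act N ⟨a, ha⟩ * act N ⟨x, hxN⟩ := by
    rw [← act_mul hxN ha, ← act_mul ha hxN, act_congr (mul_mem hxN ha) hxa]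
  obtain ⟨E, hEd⟩ : ∃ E, E = (J.subgroupOf N).map π := ⟨_, rfl⟩
  have hEf : E ≤ GH.L2Aut.fixSub (act N ⟨a, ha⟩) := by
    rw [hEd]
    rintro _ ⟨⟨y, hyN⟩, hyJ, rfl⟩
    have hyJ' : y ∈ J := hyJ
    change act N ⟨a, ha⟩ (π ⟨y, hyN⟩) = π ⟨y, hyN⟩
    rw [hπ1, act_mk ha hyN]
    congr 1
    exact Subtype.ext (by change a * y * a⁻¹ = y; rw [← hJa y hyJ']; group)
  have hEp : ⁅E, E⁆ = E := by
    rw [hEd, ← Subgroup.map_commutator]
    congr 1
    apply Subgroup.map_injective N.subtype_injective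
    rw [Subgroup.map_commutator, subgroupOf_map_subtype, inf_of_le_left hJN]
    exact hE.perfect
  have hE60 : 60 ≤ Nat.card E := by
    have h3 := card_bar B hσ
    obtain ⟨g, hg⟩ : ∃ g : ↥J →* Bar N, g = π.comp (Subgroup.inclusion hJN) := ⟨_, rfl⟩
    have h4 : g.ker ≤ oddCore ↥J := by
      intro z hz
      rw [MonoidHom.mem_ker, hg] at hz
      have h5 : π ⟨z, hJN z.2⟩ = 1 := hz
      rw [hπ1, mk_eq_one_iff] at h5
      have h6 : (z : G) ∈ core J := by
        have h7 : J ⊓ core N ≤ core J := inf_core_le hJN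
        exact h7 ⟨z.2, h5⟩
      exact (Cfsg.Agent.Intrinsic.Basic.mem_core_iff z.2).mp h6
    have h5 := Subgroup.index_dvd_of_le h4
    have h6 : g.range = E := by
      rw [hg, hEd]
      ext z
      constructor
      · rintro ⟨w, rfl⟩
        exact ⟨⟨w, hJN w.2⟩, w.2, rfl⟩
      · rintro ⟨w, hw, rfl⟩
        exact ⟨⟨w, hw⟩, rfl⟩
    rw [Subgroup.index_ker, h6, h3] at h5
    exact Nat.le_of_dvd Nat.card_pos h5
  rcases PumpL2.field_of_perfect R hα2 hEf hEp hE60 with h3 | ⟨h3, h4⟩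
  · exact Or.inl ((act_eq_one_iff ha).mp h3)
  right
  -- the image of `O(C(x)) ∩ N`
  obtain ⟨D, hD⟩ : ∃ D, D = ((core (centralizer ({x} : Set G))).subgroupOf N).map π := ⟨_, rfl⟩
  have hDf : D ≤ GH.L2Aut.fixSub (act N ⟨x, hxN⟩) := by
    rw [hD]
    rintro _ ⟨⟨z, hzN⟩, hz, rfl⟩
    have hz' : z ∈ core (centralizer ({x} : Set G)) := hz
    have hzx : z * x = x * z := comm_c (core_le _ hz')
    change act N ⟨x, hxN⟩ (π ⟨z, hzN⟩) = π ⟨z, hzN⟩
    rw [hπ1, act_mk hxN hzN]
    congr 1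
    exact Subtype.ext (by change x * z * x⁻¹ = z; rw [← hzx]; group)
  have hDodd : Odd (Nat.card D) := by
    rw [hD]
    refine Odd.of_dvd_nat (odd_card_core (centralizer ({x} : Set G))) ?_
    refine (Subgroup.card_map_dvd _ _).trans ?_
    have h5 := Subgroup.card_map_of_injective (K := (core (centralizer ({x} : Set G))).subgroupOf N)
      N.subtype_injective
    rw [← h5, subgroupOf_map_subtype]
    exact card_dvd_of_le inf_le_left
  have hDn : ∀ z ∈ GH.L2Aut.fixSub (act N ⟨x, hxN⟩), ∀ d ∈ D, z * d * z⁻¹ ∈ D := by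
    rw [hD]
    rintro z hz _ ⟨⟨d, hdN⟩, hd, rfl⟩
    have hd' : d ∈ core (centralizer ({x} : Set G)) := hd
    obtain ⟨⟨n, hn⟩, rfl⟩ := QuotientGroup.mk_surjective z
    have hz' : act N ⟨x, hxN⟩ (QuotientGroup.mk ⟨n, hn⟩) = QuotientGroup.mk ⟨n, hn⟩ := hz
    rw [act_mk hxN hn, eq_comm, mk_eq_iff] at hz'
    obtain ⟨o, ho, hco⟩ := Intrinsic.Lifting.exists_commute (n := 1) (odd_card_core N)
      (by rw [pow_one, pow_two, hxx])
      (Cfsg.Agent.Intrinsic.Basic.normalizer_le_normalizer_core N hxN) hz'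
    have hno : n * o ∈ N := mul_mem hn (core_le N ho)
    have h5 : (QuotientGroup.mk (⟨n, hn⟩ : ↥N) : Bar N) = QuotientGroup.mk ⟨n * o, hno⟩ := by
      rw [mk_eq_iff]
      rwa [inv_mul_cancel_left]
    refine ⟨⟨n * o * d * (n * o)⁻¹, mul_mem (mul_mem hno hdN) (inv_mem hno)⟩, ?_, ?_⟩
    · exact conj_core (mem_c hco.symm) hd'
    · rw [h5, ← hπ1, ← map_inv, ← map_mul, ← map_mul]
      rfl
  have hDne : D ≠ ⊥ := by
    intro h5
    apply hyc
    have h6 : π ⟨y, hJN hyJ⟩ ∈ D := by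
      rw [hD]
      exact ⟨⟨y, hJN hyJ⟩, hy, rfl⟩
    rw [h5, mem_bot, hπ1, mk_eq_one_iff] at h6
    have h7 : J ⊓ core N ≤ core J := inf_core_le hJN
    exact h7 ⟨hyJ, h6⟩
  obtain ⟨l, hl⟩ := PumpL2.inner_of_comm R hα2 h3 hβ2 hcomm h4 hDf hDn hDodd hDne
  obtain ⟨⟨r, hr⟩, rfl⟩ := QuotientGroup.mk_surjective l
  refine ⟨r, hr, ?_⟩
  rw [← act_eq_iff hxN (le_normalizer hr), hl, act_of_mem hr]

/-- **(7.0)** -/
theorem seven0 (hW : W7 G) : Seven0 G := by
  intro x a t L M i j k l T hij hik hil hjk hjl hkl hx ht hta htx htL htφ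
  have htt := sq_of_order ht
  have haa := sq_of_order T.inva
  have h5 : (fixIn Finset.univ (M.φ t)).card = 5 := by rw [htφ]; exact card_fix_swap hij
  obtain ⟨d, hd, hda, hdt, hdL, hd1, hdφ⟩ := exists_d M T hx hij hik hil hjk hjl ht hta htx htL htφ
  have hsub : fixIn Finset.univ (M.φ x) ⊆ fixIn Finset.univ (M.φ t) := by
    intro p hp
    rw [mem_fixIn] at hp ⊢
    refine ⟨hp.1, ?_⟩
    rw [htφ]
    apply swap_apply_of_ne_of_ne
    · rintro rfl
      have h6 := hp.2
      rw [hx, Perm.mul_apply, swap_apply_of_ne_of_ne hik hil, swap_apply_left] at h6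
      exact hij h6.symm
    · rintro rfl
      have h6 := hp.2
      rw [hx, Perm.mul_apply, swap_apply_of_ne_of_ne hjk hjl, swap_apply_right] at h6
      exact hij h6
  have hnf := not_fixes_cmp M htL htt h5 hsub hdL hd1 hdφ
  have hM := M.isComp_cmp_of T.comp htL htt (by omega)
  rw [inf_comm] at hM
  obtain ⟨N, TN, -, hor⟩ := UGT.PumpGen.pump T.invx ht haa hta htx hM hd hda hdt hnf
  refine ⟨N, TN, ?_⟩
  obtain ⟨B, hB⟩ := M.exists_cmp_five htL htt (by omega) (by omega)
  rcases hor with ⟨haN, hle⟩ | ⟨hne, hJ⟩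
  · have hE : IsComp (N ⊓ centralizer ({a} : Set G)) (M.cmp t) :=
      hM.restrict (inf_le_inf_right _ TN.comp.le) (le_inf hle (hM.le.trans inf_le_right))
    rcases hW x t N TN with ⟨h2, hin⟩ | h7
    · left
      obtain ⟨y, hy, hyJ, hy1⟩ := exists_y M T hx hij hik hil hjk hjl hkl ht hta htx htL htφ hd hdt hdL
        hd1 hdφ
      have hyc : y ∉ core (M.cmp t) := fun h => hy1 ((cmp_core_iff M htL htt h5 hyJ).mpr h)
      have hf : Fixes a N :=
        (fixes_or_inner B h5 TN T.comm.symm haN haa hE h2 hy hyJ hyc).resolve_right hin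
      refine ⟨hf, hle, ?_⟩
      obtain ⟨hc1, hc2⟩ := isComp_cen TN.comp (mem_c hta.symm) haa hf
      have hE2 : IsComp (N ⊓ centralizer ({a} : Set G)) (cen N a) :=
        hc1.restrict (inf_le_inf_right _ TN.comp.le) (le_inf (Cen.cen_le N a) (Cen.cen_le_centralizer N a))
      have hle2 : M.cmp t ≤ cen N a := by
        rw [← hE.pElem_eq]
        exact PComponents.pElem_mono hE.le
      have heq := hE.eq_of_le hE2 hle2
      obtain ⟨A, hA⟩ := Mod.exists_extend_five B (by omega) (by omega) (K := N) (by rw [heq]; exact hc2)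
      exact ⟨A, fun y hy => (hA y hy).trans (hB y hy)⟩
    · right; left
      exact ⟨haN, hle, lab_of_alt M hij htL htt htφ haN haa hE h7⟩
  · right; right
    refine ⟨hne, hJ, ?_⟩
    have hc : center (Bar N) = ⊥ := by
      rcases hW x t N TN with ⟨h2, -⟩ | ⟨⟨e⟩⟩
      · exact RedR.center_of_L2 h2
      · obtain ⟨M₀⟩ := Mod.nonempty_of_equiv (K := N) (S := (Finset.univ : Finset (Fin 7)))
          (by rw [Finset.card_univ, Fintype.card_fin]) (Ω := Fin 7) (by rw [Finset.card_univ]) e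
        exact RedR.center_bar M₀
    obtain ⟨M', hM'⟩ := lab_of_diag h5 TN.comp hta haa hne hJ hc B
    exact ⟨M', fun y hy => (hM' y hy).trans (hB y hy)⟩

end Cfsg.Agent.UGT.A7.SevenZero
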