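import Cfsg.Agent.UGT.A7.Eight

/-!
# Sectional rank of `(P × R) . 2`, `P`, `R` nonabelian of order 8
-/

set_option autoImplicit false

namespace Cfsg.Agent.UGT.A7

open Subgroup Cfsg Cfsg.Agent.TwoFusion.SectionalRank

variable {G : Type*} [Group G]

/-- `P` is a nonabelian subgroup of order 8 with central involution `z`. -/
structure EightS (P : Subgroup G) (z : G) : Prop where
  card : Nat.card P = 8
  mem : z ∈ P
  ne : z ≠ 1
  sq : z * z = 1
  cen : ∀ p ∈ P, z * p = p * z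
  com : ∀ p ∈ P, ∀ q ∈ P, p * q * p⁻¹ * q⁻¹ = 1 ∨ p * q * p⁻¹ * q⁻¹ = z
  cen' : ∀ p ∈ P, (∀ q ∈ P, p * q = q * p) → p = 1 ∨ p = z
  nab : ∃ p ∈ P, ∃ q ∈ P, p * q ≠ q * p
  ab : ∀ v ∈ P, ∀ w ∈ P, v * w ≠ w * v → ∀ p ∈ P, ∀ q ∈ P, p * v = v * p → q * v = v * q →
    p * q = q * p
  pow : ∀ p ∈ P, p * p = 1 ∨ p * p = z

theorem eightS_of_eight {P : Subgroup G} (hc : Nat.card P = 8) {z : P} (h : Eight P z) :
    EightS P (z : G) where
  card := hc
  mem := z.2
  ne := fun h1 => h.ne (Subtype.ext h1)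
  sq := congrArg Subtype.val h.sq
  cen := fun p hp => congrArg Subtype.val (h.cen ⟨p, hp⟩)
  com := fun p hp q hq => by
    rcases h.com ⟨p, hp⟩ ⟨q, hq⟩ with h1 | h1
    · exact Or.inl (congrArg Subtype.val h1)
    · exact Or.inr (congrArg Subtype.val h1)
  cen' := fun p hp h1 => by
    rcases h.cen' ⟨p, hp⟩ (fun q => Subtype.ext (h1 q q.2)) with h2 | h2
    · exact Or.inl (congrArg Subtype.val h2)
    · exact Or.inr (congrArg Subtype.val h2)
  nab := by
    obtain ⟨p, q, hpq⟩ := h.nab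
    exact ⟨p, p.2, q, q.2, fun h1 => hpq (Subtype.ext h1)⟩
  ab := fun v hv w hw hvw p hp q hq h1 h2 => congrArg Subtype.val
    (h.ab ⟨v, hv⟩ ⟨w, hw⟩ (fun h3 => hvw (congrArg Subtype.val h3)) ⟨p, hp⟩ ⟨q, hq⟩
      (Subtype.ext h1) (Subtype.ext h2))
  pow := fun p hp => by
    rcases h.pow ⟨p, hp⟩ with h1 | h1
    · exact Or.inl (congrArg Subtype.val h1)
    · exact Or.inr (congrArg Subtype.val h1)

/-- Nonabelian groups of order 8. -/
theorem exists_eightS {P : Subgroup G} (hc : Nat.card P = 8)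
    (hn : ∃ p ∈ P, ∃ q ∈ P, p * q ≠ q * p) : ∃ z, EightS P z := by
  have hna : ¬ IsMulCommutative P := by
    intro h
    obtain ⟨p, hp, q, hq, hpq⟩ := hn
    exact hpq (congrArg Subtype.val (h.is_comm.comm (⟨p, hp⟩ : P) ⟨q, hq⟩))
  rcases SmallSimple.OrderEight.dihedral_or_quaternion_of_card_eight hc hna with ⟨⟨e⟩⟩ | ⟨⟨e⟩⟩
  · exact ⟨_, eightS_of_eight hc (eight_dihedral.of_equiv e.symm)⟩
  · exact ⟨_, eightS_of_eight hc (eight_quaternion.of_equiv e.symm)⟩

/-- `T = P × R` (internal). -/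
structure TwoP (T P R : Subgroup G) : Prop where
  PT : P ≤ T
  RT : R ≤ T
  sup : ∀ t ∈ T, ∃ p ∈ P, ∃ r ∈ R, t = p * r
  comm : ∀ p ∈ P, ∀ r ∈ R, p * r = r * p
  inf : ∀ p ∈ P, p ∈ R → p = 1

theorem TwoP.symm {T P R : Subgroup G} (h : TwoP T P R) : TwoP T R P where
  PT := h.RT
  RT := h.PT
  sup := fun t ht => by
    obtain ⟨p, hp, r, hr, h1⟩ := h.sup t ht
    exact ⟨r, hr, p, hp, by rw [h1, h.comm p hp r hr]⟩
  comm := fun r hr p hp => (h.comm p hp r hr).symm
  inf := fun r hr hrp => h.inf r hrp hr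

/-- the isomorphism `P × R ≃ T` -/
noncomputable def TwoP.hom {T P R : Subgroup G} (h : TwoP T P R) : ↥P × ↥R →* ↥T where
  toFun x := ⟨x.1 * x.2, T.mul_mem (h.PT x.1.2) (h.RT x.2.2)⟩
  map_one' := by
    apply Subtype.ext
    simp
  map_mul' x y := by
    apply Subtype.ext
    change ((x.1 * y.1 : ↥P) : G) * ((x.2 * y.2 : ↥R) : G) = (x.1 * x.2) * (y.1 * y.2)
    rw [coe_mul, coe_mul]
    have := h.comm y.1 y.1.2 x.2 x.2.2
    calc (x.1 : G) * y.1 * (x.2 * y.2) = x.1 * (y.1 * x.2) * y.2 := by group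
      _ = x.1 * (x.2 * y.1) * y.2 := by rw [this]
      _ = _ := by group

theorem TwoP.hom_surjective {T P R : Subgroup G} (h : TwoP T P R) :
    Function.Surjective h.hom := by
  rintro ⟨t, ht⟩
  obtain ⟨p, hp, r, hr, h1⟩ := h.sup t ht
  exact ⟨(⟨p, hp⟩, ⟨r, hr⟩), Subtype.ext h1.symm⟩

theorem TwoP.hom_injective {T P R : Subgroup G} (h : TwoP T P R) :
    Function.Injective h.hom := by
  rw [injective_iff_map_eq_one]
  rintro ⟨⟨p, hp⟩, ⟨r, hr⟩⟩ h1
  have h2 : p * r = 1 := congrArg Subtype.val h1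
  have h3 : p = r⁻¹ := eq_inv_of_mul_eq_one_left h2
  have h4 : p = 1 := h.inf p hp (h3 ▸ R.inv_mem hr)
  have h5 : r = 1 := by rw [h4, one_mul] at h2; exact h2
  subst h4 h5
  rfl

theorem TwoP.card {T P R : Subgroup G} (h : TwoP T P R) :
    Nat.card T = Nat.card P * Nat.card R := by
  rw [← Nat.card_prod]
  exact (Nat.card_congr (Equiv.ofBijective h.hom ⟨h.hom_injective, h.hom_surjective⟩)).symm

theorem TwoP.rank [Finite G] {T P R : Subgroup G} (h : TwoP T P R) {a b : ℕ}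
    (hP : SectionalPRankLE 2 a P) (hR : SectionalPRankLE 2 b R) : SectionalPRankLE 2 (a + b) T := by
  refine GH.Rank.of_surjective ?_ h.hom h.hom_surjective
  rw [← GH.Rank.srank_le_iff (by norm_num), GH.Rank.srank_prod Nat.prime_two]
  exact Nat.add_le_add ((GH.Rank.srank_le_iff (by norm_num)).2 hP)
    ((GH.Rank.srank_le_iff (by norm_num)).2 hR)

/-- A nonabelian group of order 8 has sectional rank at most 2. -/
theorem EightS.rank [Finite G] {P : Subgroup G} {z : G} (h : EightS P z) :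
    SectionalPRankLE 2 2 P := by
  rw [sectionalPRankLE_iff]
  intro X Y hXY
  have h1 : Nat.card X ∣ 8 := h.card ▸ card_subgroup_dvd_card X
  have h2 : Nat.card X ∈ Nat.divisors 8 := Nat.mem_divisors.2 ⟨h1, by norm_num⟩
  have h3 : Nat.divisors 8 = {1, 2, 4, 8} := by decide
  have h4 : 0 < Nat.card Y := Nat.card_pos
  rw [h3] at h2
  simp only [Finset.mem_insert, Finset.mem_singleton] at h2
  rcases h2 with h2 | h2 | h2 | h2
  · omega
  · omega
  · omega
  · have hX : X = ⊤ := eq_top_of_card_eq X (by rw [h2, h.card])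
    by_contra hcon
    have hY1 : Nat.card Y = 1 := by omega
    have hY : Y = ⊥ := eq_bot_of_card_eq Y hY1
    obtain ⟨p, hp, q, hq, hpq⟩ := h.nab
    have h5 := hXY.comm ⟨p, hp⟩ (hX ▸ mem_top _) ⟨q, hq⟩ (hX ▸ mem_top _)
    rw [hY, mem_bot] at h5
    have h6 : p * q * p⁻¹ * q⁻¹ = 1 := congrArg Subtype.val h5
    apply hpq
    calc p * q = (p * q * p⁻¹ * q⁻¹) * (q * p) := by group
      _ = q * p := by rw [h6, one_mul]

/-- Rank bound for sections inside `T`. -/
theorem card_le_of_rank [Finite G] {T X Y : Subgroup G} {k : ℕ} (hT : SectionalPRankLE 2 k T)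
    (h : ElemSection 2 X Y) (hX : X ≤ T) : Nat.card X ≤ 2 ^ k * Nat.card Y := by
  rw [sectionalPRankLE_iff] at hT
  have h1 := hT _ _ (h.comap T.subtype)
  have e : ∀ Z : Subgroup G, Z ≤ T → Nat.card (Z.comap T.subtype) = Nat.card Z := by
    intro Z hZ
    have h2 : (Z.comap T.subtype).map T.subtype = Z := by
      rw [map_comap_eq, range_subtype, inf_of_le_right hZ]
    conv_rhs => rw [← h2]
    rw [card_map_of_injective T.subtype_injective]
  rwa [e X hX, e Y (h.le.trans hX)] at h1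

/-- `|V| |Y ∩ P| ≤ 4 |V ∩ P| |Y|` for an elementary section `V / Y` of `T = P × R`. -/
theorem TwoP.card_section [Finite G] {T P R : Subgroup G} (h : TwoP T P R) {k : ℕ}
    (hR : SectionalPRankLE 2 k R) {V Y : Subgroup G} (hs : ElemSection 2 V Y) (hV : V ≤ T) :
    Nat.card V * Nat.card (Y ⊓ P : Subgroup G) ≤
      2 ^ k * Nat.card (V ⊓ P : Subgroup G) * Nat.card Y ∧
    Nat.card V ≤ Nat.card (V ⊓ P : Subgroup G) * Nat.card R := by
  obtain ⟨f, hf⟩ : ∃ f : ↥T →* ↥R, ∀ t : ↥T, f t = 1 ↔ (t : G) ∈ P := by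
    let e := MulEquiv.ofBijective h.hom ⟨h.hom_injective, h.hom_surjective⟩
    refine ⟨(MonoidHom.snd ↥P ↥R).comp e.symm.toMonoidHom, fun t => ?_⟩
    obtain ⟨⟨p, r⟩, rfl⟩ := e.surjective t
    have h1 : ((MonoidHom.snd ↥P ↥R).comp e.symm.toMonoidHom) (e (p, r)) = r := by
      change (e.symm (e (p, r))).2 = r
      rw [e.symm_apply_apply]
    rw [h1]
    have h2 : ((e (p, r) : ↥T) : G) = p * r := rfl
    rw [h2]
    constructor
    · intro hr
      rw [hr]
      simp
    · intro hr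
      have h3 : (r : G) ∈ P := by
        have := P.mul_mem (P.inv_mem p.2) hr
        rwa [inv_mul_cancel_left] at this
      exact Subtype.ext (h.inf _ h3 r.2)
  have e : ∀ Z : Subgroup G, Z ≤ T → Nat.card Z =
      Nat.card (Z ⊓ P : Subgroup G) * Nat.card ((Z.comap T.subtype).map f) := by
    intro Z hZ
    have e0 : Nat.card Z = Nat.card (Z.comap T.subtype) := by
      have h2 : (Z.comap T.subtype).map T.subtype = Z := by
        rw [map_comap_eq, range_subtype, inf_of_le_right hZ]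
      conv_lhs => rw [← h2]
      rw [card_map_of_injective T.subtype_injective]
    have e1 := card_eq_relIndex_mul (Z.comap T.subtype) ((Z.comap T.subtype) ⊓ f.ker) inf_le_left
    have e3 : ((Z.comap T.subtype) ⊓ f.ker).relIndex (Z.comap T.subtype) =
        Nat.card ((Z.comap T.subtype).map f) := by
      rw [inf_relIndex_left]
      conv_lhs => rw [← MonoidHom.comap_bot f]
      rw [relIndex_comap, relIndex_bot_left]
    have e4 : Nat.card ((Z.comap T.subtype) ⊓ f.ker : Subgroup ↥T) =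
        Nat.card (Z ⊓ P : Subgroup G) := by
      have h2 : ((Z.comap T.subtype) ⊓ f.ker : Subgroup ↥T).map T.subtype = Z ⊓ P := by
        ext x
        constructor
        · rintro ⟨y, hy, rfl⟩
          exact ⟨hy.1, (hf y).1 hy.2⟩
        · intro hx
          exact ⟨⟨x, hZ hx.1⟩, ⟨hx.1, (hf _).2 hx.2⟩, rfl⟩
      rw [← h2, card_map_of_injective T.subtype_injective]
    rw [e0, e1, e3, e4, mul_comm]
  have h1 := (sectionalPRankLE_iff.1 hR) _ _ ((hs.comap T.subtype).map f)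
  have hY : Y ≤ T := hs.le.trans hV
  refine ⟨?_, ?_⟩
  · conv_lhs => rw [e V hV]
    conv_rhs => rw [e Y hY]
    calc Nat.card (V ⊓ P : Subgroup G) * Nat.card ((V.comap T.subtype).map f) *
          Nat.card (Y ⊓ P : Subgroup G)
        ≤ Nat.card (V ⊓ P : Subgroup G) * (2 ^ k * Nat.card ((Y.comap T.subtype).map f)) *
          Nat.card (Y ⊓ P : Subgroup G) := by gcongr
      _ = _ := by ring
  · rw [e V hV]
    exact Nat.mul_le_mul_left _ (Nat.le_of_dvd Nat.card_pos (card_subgroup_dvd_card _))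

end Cfsg.Agent.UGT.A7
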