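import Mathlib

/-!
# 2-groups of permutations of 7 points centralizing a regular four-group of four points
-/

set_option autoImplicit false

open Equiv Equiv.Perm Subgroup

namespace Cfsg.Agent.UGT.A7.Perm7

/-- the set `{4, 5, 6}` -/
abbrev F3 : Finset (Fin 7) := {4, 5, 6}

theorem split3 : ∀ e ∈ F3, ∃ f k : Fin 7, f ≠ e ∧ k ≠ e ∧ f ≠ k ∧ f ∈ F3 ∧ k ∈ F3 ∧
    ∀ i, i ∈ F3 → i = e ∨ i = f ∨ i = k := by
  decide

theorem inv_self (σ : Perm (Fin 7)) (i : Fin 7) : σ⁻¹ (σ i) = i := σ.symm_apply_apply i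

variable {A B : Subgroup (Perm (Fin 7))}

theorem surj (hA4 : Nat.card A = 4) (hA : ∀ g ∈ A, g ≠ 1 → ∀ i : Fin 7, g i = i ↔ i ∈ F3)
    {m : Fin 7} (hm : m ∉ F3) : ∃ g ∈ A, g 0 = m := by
  have h0 : (0 : Fin 7) ∉ F3 := by decide
  have h1 : ∀ g ∈ A, g 0 ∉ F3 := by
    intro g hg h
    by_cases h2 : g = 1
    · rw [h2] at h; exact h0 h
    · have h3 := (hA g hg h2 (g 0)).mpr h
      have h4 := g.injective h3
      rw [h4] at h
      exact h0 h
  let f : A → {m : Fin 7 // m ∉ F3} := fun g => ⟨(g : Perm (Fin 7)) 0, h1 g g.2⟩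
  have hf : Function.Injective f := by
    intro g h hgh
    have h2 : (g : Perm (Fin 7)) 0 = (h : Perm (Fin 7)) 0 := congrArg Subtype.val hgh
    by_contra hne
    have h3 : ((h : Perm (Fin 7))⁻¹ * g) ≠ 1 := by
      intro h4
      exact hne (Subtype.ext (inv_mul_eq_one.mp h4).symm)
    have h4 := (hA _ (mul_mem (inv_mem h.2) g.2) h3 0).mp (by
      rw [Perm.mul_apply, h2, inv_self])
    exact h0 h4
  have hc : Nat.card {m : Fin 7 // m ∉ F3} = 4 := by
    rw [Nat.card_eq_fintype_card]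
    decide
  have hbij : Function.Bijective f := by
    rw [Nat.bijective_iff_injective_and_card]
    exact ⟨hf, by rw [hA4, hc]⟩
  obtain ⟨g, hg⟩ := hbij.2 ⟨m, hm⟩
  exact ⟨g, g.2, congrArg Subtype.val hg⟩

/-- the bound -/
theorem main (hB : IsPGroup 2 B) (hA4 : Nat.card A = 4) (hAsq : ∀ g ∈ A, g * g = 1)
    (hA : ∀ g ∈ A, g ≠ 1 → ∀ i : Fin 7, g i = i ↔ i ∈ F3)
    (hc : ∀ b ∈ B, ∀ g ∈ A, b * g = g * b) : Nat.card B ≤ 8 ∧ ∀ b ∈ B, b * b = 1 := by
  have h0 : (0 : Fin 7) ∉ F3 := by decide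
  have hc' : ∀ b ∈ B, ∀ g ∈ A, ∀ i, b (g i) = g (b i) := by
    intro b hb g hg i
    have := congrArg (fun z : Perm (Fin 7) => z i) (hc b hb g hg)
    simpa using this
  obtain ⟨g₀, hg₀, hg1⟩ : ∃ g ∈ A, g ≠ 1 := by
    by_contra hcon
    push Not at hcon
    have h1 : A = ⊥ := (Subgroup.eq_bot_iff_forall A).mpr hcon
    rw [h1, Subgroup.card_bot] at hA4
    omega
  have hB3 : ∀ b ∈ B, ∀ i ∈ F3, b i ∈ F3 := by
    intro b hb i hi
    rw [← hA g₀ hg₀ hg1, ← hc' b hb g₀ hg₀, (hA g₀ hg₀ hg1 i).mpr hi]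
  have hB4 : ∀ b ∈ B, ∀ i, i ∉ F3 → b i ∉ F3 := by
    intro b hb i hi h
    have h1 := hB3 _ (inv_mem hb) _ h
    rw [inv_self] at h1
    exact hi h1
  -- a fixed point
  obtain ⟨e, he, hfe⟩ : ∃ e ∈ F3, ∀ b ∈ B, b e = e := by
    have : Fact (Nat.Prime 2) := ⟨Nat.prime_two⟩
    let _ : MulAction B {e : Fin 7 // e ∈ F3} :=
      { smul := fun b e => ⟨(b : Perm (Fin 7)) e, hB3 b b.2 e e.2⟩
        one_smul := fun e => Subtype.ext (by
          show ((1 : B) : Perm (Fin 7)) e = e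
          simp)
        mul_smul := fun b c e => Subtype.ext (by
          show ((b * c : B) : Perm (Fin 7)) e = (b : Perm (Fin 7)) ((c : Perm (Fin 7)) e)
          simp) }
    obtain ⟨⟨e, he⟩, h1⟩ := hB.nonempty_fixed_point_of_prime_not_dvd_card
      {e : Fin 7 // e ∈ F3} (by
        have : Nat.card {e : Fin 7 // e ∈ F3} = 3 := by
          rw [Nat.card_eq_fintype_card]
          decide
        rw [this]
        decide)
    exact ⟨e, he, fun b hb => congrArg Subtype.val (h1 ⟨b, hb⟩)⟩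
  obtain ⟨f, k, hfe', hke, hfk, hfF, hkF, hall⟩ := split3 e he
  have hbe : ∀ b ∈ B, ∀ i, i ≠ e → b i ≠ e := by
    intro b hb i hi h
    apply hi
    rw [← hfe b hb] at h
    exact b.injective h
  -- rigidity
  have hrig : ∀ b ∈ B, b 0 = 0 → b f = f → b = 1 := by
    intro b hb hb0 hbf
    ext i
    rw [Perm.one_apply]
    congr 1
    by_cases hi : i ∈ F3
    · rcases hall i hi with rfl | rfl | rfl
      · exact hfe b hb
      · exact hbf
      · rcases hall _ (hB3 b hb i hi) with h | h | h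
        · exact absurd h (hbe b hb i hke)
        · exfalso
          rw [← hbf] at h
          exact hfk (b.injective h).symm
        · exact h
    · obtain ⟨g, hg, rfl⟩ := surj hA4 hA hi
      rw [hc' b hb g hg, hb0]
  have hsq : ∀ b ∈ B, b * b = 1 := by
    intro b hb
    apply hrig _ (mul_mem hb hb)
    · obtain ⟨g, hg, hgb⟩ := surj hA4 hA (hB4 b hb 0 h0)
      rw [Perm.mul_apply, ← hgb, hc' b hb g hg, ← hgb, ← Perm.mul_apply, hAsq g hg, Perm.one_apply]
    · rw [Perm.mul_apply]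
      rcases hall _ (hB3 b hb f hfF) with h | h | h
      · exact absurd h (hbe b hb f hfe')
      · rw [h, h]
      · rw [h]
        rcases hall _ (hB3 b hb k hkF) with h' | h' | h'
        · exact absurd h' (hbe b hb k hke)
        · exact h'
        · exfalso
          exact hfk (b.injective (h.trans h'.symm))
  refine ⟨?_, hsq⟩
  let F : B → {m : Fin 7 // m ∉ F3} × {m : Fin 7 // m = f ∨ m = k} := fun b =>
    (⟨(b : Perm (Fin 7)) 0, hB4 b b.2 0 h0⟩, ⟨(b : Perm (Fin 7)) f, by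
      rcases hall _ (hB3 b b.2 f hfF) with h | h | h
      · exact absurd h (hbe b b.2 f hfe')
      · exact Or.inl h
      · exact Or.inr h⟩)
  have hF : Function.Injective F := by
    intro b c h
    have h1 : (b : Perm (Fin 7)) 0 = (c : Perm (Fin 7)) 0 :=
      congrArg (fun z => (z.1 : Fin 7)) h
    have h2 : (b : Perm (Fin 7)) f = (c : Perm (Fin 7)) f :=
      congrArg (fun z => (z.2 : Fin 7)) h
    have h3 := hrig ((c : Perm (Fin 7))⁻¹ * b) (mul_mem (inv_mem c.2) b.2)
      (by rw [Perm.mul_apply, h1, inv_self])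
      (by rw [Perm.mul_apply, h2, inv_self])
    exact Subtype.ext (inv_mul_eq_one.mp h3).symm
  have h1 := Nat.card_le_card_of_injective F hF
  rw [Nat.card_prod] at h1
  have h2 : Nat.card {m : Fin 7 // m ∉ F3} = 4 := by
    rw [Nat.card_eq_fintype_card]
    decide
  have h3 : Nat.card {m : Fin 7 // m = f ∨ m = k} ≤ 2 := by
    let g : {m : Fin 7 // m = f ∨ m = k} → Bool := fun m => decide ((m : Fin 7) = f)
    have hg : Function.Injective g := by
      rintro ⟨m, hm⟩ ⟨n, hn⟩ h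
      have h4 : (m = f) ↔ (n = f) := by
        have : decide (m = f) = decide (n = f) := h
        simpa using this
      apply Subtype.ext
      show m = n
      rcases hm with rfl | rfl <;> rcases hn with rfl | rfl
      · rfl
      · exact absurd (h4.mp rfl).symm hfk
      · exact absurd (h4.mpr rfl).symm hfk
      · rfl
    have := Nat.card_le_card_of_injective g hg
    simpa using this
  rw [h2] at h1
  calc Nat.card B ≤ 4 * Nat.card {m : Fin 7 // m = f ∨ m = k} := h1
    _ ≤ 4 * 2 := Nat.mul_le_mul_left _ h3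
    _ = 8 := rfl

end Cfsg.Agent.UGT.A7.Perm7
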