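import Cfsg.Agent.UGT.Nodes
import Cfsg.Agent.UGT.TriBase
import Cfsg.Agent.UAlt.ModExists

/-!
# Branch [A7] of S1311: the statements of the parts

All groups with labels: `M : Lab L` = a labelling of `N(L)` acting on `L / O(L) ≅ A₇` by permutations of `Fin 7`.

* `W7 G`: every triple of `G` has type `A₇`, or `PSL₂(q)` with `x` not inner.
* `Pump7 G`: pump-ups of `A₇`-triples along involutions `c` fixing `L / O(L)`.
* `Seven0 G` = (7.0): pump-ups of the 5-point component of a transposition `t`.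
* `BetaRank G` = the part of (beta') about `Q`; `Normal7 G`, `NonSpecial G` = (1); `Star G` = (4)(*);
  `Seven3 G` = (7.3).
-/

set_option autoImplicit false

open Cfsg Subgroup Equiv
open Cfsg.Agent.SignalizersComponents.IntrinsicBasic (cj)
open Cfsg.Agent.UGT.Triple Cfsg.Agent.UGT.Iface Cfsg.Agent.UGT.TriBase
open Cfsg.Agent.UAlt
open Cfsg.Agent.Intrinsic.Basic (Fixes IsComp core)
open Cfsg.Agent.Intrinsic.Cen (cen)
open Cfsg.Agent.Intrinsic.Diag (diag)

namespace Cfsg.Agent.UGT.A7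

universe u

/-- the world of branch A7 (the types of `Nodes.NodeA7'`) -/
def W7 (G : Type u) [Group G] : Prop :=
  Nodes.Types G fun x L => (IsL2 (Bar L) ∧ ¬ IsInner x L) ∨ IsAlt 7 (Bar L)

/-- labels for `L / O(L) ≅ A₇` -/
abbrev Lab {G : Type u} [Group G] (L : Subgroup G) := Mod L (Finset.univ : Finset (Fin 7))

/-- `L / O(L) ≅ A₅` with labels the fixed points of `σ` -/
abbrev Lab5 {G : Type u} [Group G] (L : Subgroup G) (σ : Perm (Fin 7)) :=
  Mod L (fixIn (Finset.univ : Finset (Fin 7)) σ)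

variable (G : Type u) [Group G]

/-- Pump-ups along an involution `c` fixing `L / O(L)`. -/
def Pump7 : Prop := ∀ (x a c : G) (L : Subgroup G) (M : Lab L), IsTriple x a L → orderOf c = 2 →
  c * a = a * c → c * x = x * c → Fixes c L →
  ∃ (N : Subgroup G) (M' : Lab N), IsTriple x c N ∧ (∀ y ∈ cen L c, M'.φ y = M.φ y) ∧
    ((Fixes a N ∧ cen L c ≤ N) ∨ (cj a N ≠ N ∧ cen L c = diag (centralizer ({c} : Set G)) N a))

/-- (7.0): pump-ups of the 5-point component of `C_L(t)`, `t` a transposition commuting with `x`. -/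
def Seven0 : Prop := ∀ (x a t : G) (L : Subgroup G) (M : Lab L) (i j k l : Fin 7), IsTriple x a L →
  i ≠ j → i ≠ k → i ≠ l → j ≠ k → j ≠ l → k ≠ l → M.φ x = swap i j * swap k l →
  orderOf t = 2 → t * a = a * t → t * x = x * t → t ∈ normalizer (L : Set G) → M.φ t = swap i j →
  ∃ N : Subgroup G, IsTriple x t N ∧
    ((Fixes a N ∧ M.cmp t ≤ N ∧ ∃ M' : Lab5 N (M.φ t), ∀ y ∈ M.cmp t, M'.φ y = M.φ y) ∨
     (a ∈ normalizer (N : Set G) ∧ M.cmp t ≤ N ∧
        ∃ M' : Lab N, M'.φ a = swap i j ∧ ∀ y ∈ M.cmp t, M'.φ y = M.φ y) ∨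
     (cj a N ≠ N ∧ M.cmp t = diag (centralizer ({t} : Set G)) N a ∧
        ∃ M' : Lab5 N (M.φ t), ∀ y ∈ M.cmp t, M'.φ y = M.φ y))

variable {G} in
/-- a special triple: `x` or `a x` in `L` -/
def Special (x a : G) (L : Subgroup G) : Prop := IsTriple x a L ∧ (x ∈ L ∨ a * x ∈ L)

/-- the consequence of (beta') for `Q = C_T(L / O(L))` -/
def BetaRank : Prop := ∀ (x a : G) (L T : Subgroup G) (_ : Lab L), Special x a L →
  IsSyl (centralizer ({a} : Set G)) T →
  (∀ q ∈ fix T L, q * q = 1 → q = 1 ∨ q = a) ∨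
  (Nat.card ↥(fix T L) = 4 ∧ ∀ q ∈ fix T L, q * q = 1)

/-- (1): `L` is normal in `C(a)` -/
def Normal7 : Prop := ∀ (x a : G) (L : Subgroup G) (_ : Lab L), IsTriple x a L →
  centralizer ({a} : Set G) ≤ normalizer (L : Set G)

/-- (1): if there is a triple of type `A₇`, there is a special one -/
def NonSpecial : Prop := ∀ (x a : G) (L : Subgroup G) (_ : Lab L), IsTriple x a L →
  ∃ (b : G) (K : Subgroup G) (_ : Lab K), Special x b K

/-- (1): no diagonal pump-ups along involutions `c` fixing `L / O(L)` -/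
def PumpNoDiag : Prop := ∀ (x a c : G) (L : Subgroup G) (M : Lab L), IsTriple x a L → orderOf c = 2 →
  c * a = a * c → c * x = x * c → Fixes c L →
  ∃ (N : Subgroup G) (M' : Lab N), IsTriple x c N ∧ (∀ y ∈ cen L c, M'.φ y = M.φ y) ∧
    Fixes a N ∧ cen L c ≤ N

/-- (4)(*): for a special triple with `Q` a four-group no transposition `w ∈ T` centralizes `P` and `Q`. -/
def Star : Prop := ∀ (x a : G) (L T : Subgroup G) (M : Lab L), Special x a L →
  IsSyl (centralizer ({a} : Set G)) T → Nat.card ↥(fix T L) = 4 → (∀ q ∈ fix T L, q * q = 1) →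
  ∀ w ∈ T, ∀ i j : Fin 7, i ≠ j → M.φ w = swap i j → (∀ p ∈ T ⊓ L, w * p = p * w) →
    (∀ q ∈ fix T L, w * q = q * w) → False

/-- (7.3): the third case of `Seven0` does not occur if `Q = ⟨a⟩`. -/
def Seven3 : Prop := ∀ (x a t : G) (L T N : Subgroup G) (M : Lab L) (i j k l : Fin 7), Special x a L →
  IsSyl (centralizer ({a} : Set G)) T → Nat.card ↥(fix T L) = 2 → x ∈ T → t ∈ T →
  i ≠ j → i ≠ k → i ≠ l → j ≠ k → j ≠ l → k ≠ l → M.φ x = swap i j * swap k l →
  orderOf t = 2 → t * x = x * t → M.φ t = swap i j → IsTriple x t N →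
  cj a N ≠ N → M.cmp t = diag (centralizer ({t} : Set G)) N a → False

end Cfsg.Agent.UGT.A7
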