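import Cfsg.Agent.UGT.A7.Mu
import Cfsg.Agent.UGT.A7.World
import Cfsg.Agent.UGT.A7.EightRank
import Cfsg.Agent.UGT.A7.Perm7
import Cfsg.Agent.UGT.RedAlt
import Cfsg.Agent.UAlt.FourConj

/-!
# Branch [A7]: (1) and (4)(*) in the form of `A7/World.lean`

* `T7.of_lab`: triples of type `A₇` are inner.
* `normal7`, `nonSpecial`, `pumpNoDiag`: section (1).
* `star`: section (4)(*).
-/

set_option autoImplicit false
set_option linter.unusedSectionVars false

open Cfsg Subgroup Equiv Equiv.Perm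
open Cfsg.Agent.UAlt
open Cfsg.Agent.SignalizersComponents Cfsg.Agent.Lib
open Cfsg.Agent.SignalizersComponents.IntrinsicBasic
open Cfsg.Agent.Intrinsic.Basic Cfsg.Agent.Intrinsic.Cen Cfsg.Agent.Intrinsic.Diag
open Cfsg.Agent.McLLyComp.Act
open Cfsg.Agent.UGT.Triple Cfsg.Agent.UGT.PumpGen Cfsg.Agent.UGT.TriBase
open Cfsg.Agent.UGT.A7.Mu
open Cfsg.Agent.UGT.RedAlt (three_fix)
open Cfsg.Agent.StdAlt.Roots (IsRoot)
open scoped commutatorElement

namespace Cfsg.Agent.UGT.A7.Star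

/-! ### permutations -/

/-- even involutions of 7 points are roots -/
theorem isRoot_of_even {σ : Perm (Fin 7)} (h1 : σ * σ = 1) (hne : σ ≠ 1)
    (he : σ ∈ alternatingGroup (Fin 7)) : IsRoot σ := by
  refine ⟨h1, ?_⟩
  have ho : orderOf σ = 2 := orderOf_eq_prime (by rw [pow_two, h1]) hne
  obtain ⟨n, hn⟩ := Equiv.Perm.cycleType_prime_order (σ := σ) (by rw [ho]; exact Nat.prime_two)
  rw [ho] at hn
  have h2 : σ.cycleType.sum = 2 * (n + 1) := by
    rw [hn, Multiset.sum_replicate, smul_eq_mul, mul_comm]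
  have h3 := Equiv.Perm.sum_cycleType σ
  have h4 : σ.support.card ≤ 7 := by
    have := Finset.card_le_univ σ.support
    rwa [Fintype.card_fin] at this
  have h5 := Equiv.Perm.sign_of_cycleType σ
  rw [Equiv.Perm.mem_alternatingGroup.mp he, h2, hn, Multiset.card_replicate] at h5
  have h6 : n ≤ 2 := by omega
  interval_cases n
  · exact absurd h5 (by decide)
  · omega
  · exact absurd h5 (by decide)

theorem isRoot_of_three {σ : Perm (Fin 7)} (h1 : σ * σ = 1)
    (h3 : (fixIn Finset.univ σ).card = 3) : IsRoot σ := by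
  refine ⟨h1, ?_⟩
  have h6 := Finset.card_filter_add_card_filter_not (s := (Finset.univ : Finset (Fin 7)))
    (p := fun i => σ i = i)
  rw [Finset.card_univ, Fintype.card_fin] at h6
  have h7 : (fixIn Finset.univ σ).card = (Finset.univ.filter fun i => σ i = i).card := rfl
  have h8 : σ.support = (Finset.univ.filter fun i => ¬ σ i = i) := by
    ext i
    simp [Equiv.Perm.mem_support]
  rw [h8]
  omega

/-! ### triples -/

variable {G : Type*} [Group G] [Finite G] {x a c : G} {L N : Subgroup G}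

/-- triples of type `A₇` are inner -/
theorem T7.of_lab (T : IsTriple x a L) (M : M7 L) : T7 x a L := by
  refine ⟨T, ⟨M⟩, ?_⟩
  have h1 := M.sq T.x_mem (sq_of_order T.invx)
  have h2 := isRoot_of_three h1 (three_fix T M).1
  obtain ⟨r, hr, hrx⟩ := M.lift (M.φ x) (by
    rw [alt_univ]
    exact h2.mem_alternatingGroup)
  refine ⟨r, hr, ?_⟩
  rw [← M.fixes_iff (mul_mem T.x_mem (inv_mem (le_normalizer hr))),
    M.mul _ _ T.x_mem (inv_mem (le_normalizer hr)), M.inv (le_normalizer hr), hrx, mul_inv_cancel]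

theorem muPump (hP : A7.Pump7 G) : Mu.Pump7 G := by
  rintro x a c L T hc hca hcx hcL
  obtain ⟨M⟩ := T.a7
  obtain ⟨N, M', h1, -, h2⟩ := hP x a c L M T.tri hc hca hcx hcL
  refine ⟨N, h1, ⟨M'⟩, ?_⟩
  rcases h2 with ⟨h3, h4⟩ | h3
  · exact Or.inl ⟨h3.1, h4⟩
  · exact Or.inr h3

/-- **(1)**: `L` is normal in `C(a)` -/
theorem normal7 (hP : A7.Pump7 G) (hB : BetaP G) : Normal7 G := by
  intro x a L M T
  exact (T7.of_lab T M).cent_le (muPump hP) hB

/-- **(1)**: no diagonal pump-ups -/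
theorem pumpNoDiag (hP : A7.Pump7 G) (hB : BetaP G) : PumpNoDiag G := by
  intro x a c L M T hc hca hcx hcL
  have T' := T7.of_lab T M
  obtain ⟨N, M', h1, h2, h3⟩ := hP x a c L M T hc hca hcx hcL
  refine ⟨N, M', h1, h2, ?_⟩
  rcases h3 with h3 | ⟨h3, h4⟩
  · exact h3
  · exact (T'.no_diag (muPump hP) hB hc hca hcx hcL (T7.of_lab h1 M') h3 h4).elim

/-- **(1)**: existence of special triples -/
theorem nonSpecial (hP : A7.Pump7 G) (hB : BetaP G) : NonSpecial G := by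
  intro x a L M T
  have T' := T7.of_lab T M
  obtain ⟨l, hl, hll, hlx, -, hφ⟩ := T'.exists_l M (E := ⊥) IsPGroup.of_bot bot_le (by
    intro e he
    rw [mem_bot.mp he, one_mul, mul_one])
  by_cases hq1 : x * l = 1
  · refine ⟨a, L, M, T, Or.inl ?_⟩
    rw [mul_eq_one_iff_eq_inv.mp hq1]
    exact inv_mem hl
  by_cases hqa : x * l = a
  · refine ⟨a, L, M, T, Or.inr ?_⟩
    rw [T'.ax, ← hqa, ← mul_assoc, T'.xx, one_mul]
    exact hl
  obtain ⟨N, hN, hxN, -⟩ := T'.nonspecial (muPump hP) hB M hl hll hlx hφ hq1 hqa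
  obtain ⟨M'⟩ := hN.a7
  refine ⟨x * l, N, M', hN.tri, Or.inr ?_⟩
  rwa [hN.ax]

/-- the involutions of `L` are conjugate -/
theorem exists_conj_inv (M : M7 L) {l z : G} (hl : l ∈ L) (hz : z ∈ L) (hll : l * l = 1)
    (hzz : z * z = 1) (hl1 : l ≠ 1) (hz1 : z ≠ 1) : ∃ k ∈ L, k * l * k⁻¹ = z := by
  have key : ∀ {l : G}, l ∈ L → l * l = 1 → l ≠ 1 → IsRoot (M.φ l) := by
    intro l hl hll hl1
    refine isRoot_of_even (M.sq (le_normalizer hl) hll) (fun h => hl1 ?_) ?_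
    · exact eq_one_of_mem_core_sq ((M.core_iff l hl).mp h) hll
    · have := M.mem_alt l hl
      rwa [alt_univ] at this
  exact M.exists_conj_root hl hz hll hzz (key hl hll hl1) (key hz hzz hz1)

/-- **(β')** for a Sylow 2-subgroup `T` of `C(a)`, with `x` replaced by an `L`-conjugate in `Z(T)`. -/
theorem exists_central_form (hP : A7.Pump7 G) (hB : BetaP G) {T : Subgroup G} (M : M7 L)
    (hS : Special x a L) (hT : IsSyl (centralizer ({a} : Set G)) T) :
    ∃ x' z : G, z ∈ T ∧ z ∈ L ∧ z ≠ 1 ∧ z * z = 1 ∧ (∀ s ∈ T, s * z = z * s) ∧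
      (x' = z ∨ x' = a * z) ∧ T7 x' a L ∧
      ((∀ q ∈ fix T L, q * q = 1 → q = 1 ∨ q = a) ∨
      (Nat.card (fix T L) = 4 ∧ (∀ q ∈ fix T L, q * q = 1) ∧
        ∃ (v : G) (K : Subgroup G) (M' : M7 K), (∃ r ∈ fix T L, v = x' * r) ∧ T7 x' v K ∧
          ∀ g ∈ fix T L, g ≠ 1 → g ∈ normalizer (K : Set G) ∧
            ∀ i : Fin 7, M'.φ g i = i ↔ i ∈ ({4, 5, 6} : Finset (Fin 7)))) := by
  have hPm := muPump hP
  have T' := T7.of_lab hS.1 M
  have hn := T'.cent_le hPm hB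
  have hTn : T ≤ normalizer (L : Set G) := hT.le.trans hn
  have hPs : IsSyl L (T ⊓ L) := hT.inf T'.tri.comp.le hn
  -- `T ∩ L` is normal in `T`
  have hTP : T ≤ normalizer (T ⊓ L : Set G) := by
    intro t ht
    have h1 := mem_normalizer_iff_cj.mp (hTn ht)
    have h2 : IntrinsicBasic.cj t T = T := cj_eq_self_of_mem ht
    have h3 : t ∈ normalizer ((T ⊓ L : Subgroup G) : Set G) := by
      rw [mem_normalizer_iff_cj, cj_inf, h1, h2]
    exact h3
  -- an involution of `L`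
  obtain ⟨l, hl, hll, hl1, hlx⟩ : ∃ l ∈ L, l * l = 1 ∧ l ≠ 1 ∧ (x = l ∨ x = a * l) := by
    rcases hS.2 with h | h
    · exact ⟨x, h, T'.xx, ne_one_of_order T'.tri.invx, Or.inl rfl⟩
    · refine ⟨a * x, h, ?_, fun h1 => ?_, Or.inr ?_⟩
      · calc a * x * (a * x) = a * (x * a) * x := by group
          _ = a * (a * x) * x := by rw [T'.ax]
          _ = (a * a) * (x * x) := by group
          _ = 1 := by rw [T'.aa, T'.xx, one_mul]
      · have h2 : x = a := by
          have h3 := congrArg (a * ·) h1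
          simpa [← mul_assoc, T'.aa] using h3
        exact T'.tri.not_fixes (h2 ▸ T'.fixes_a)
      · rw [← mul_assoc, T'.aa, one_mul]
  have hPne : (T ⊓ L : Subgroup G) ≠ ⊥ := by
    intro h
    obtain ⟨g, -, h1⟩ := hPs.conj (isPGroup_of_sq (E := zpowers l) (by
      intro e he
      obtain ⟨n, rfl⟩ := mem_zpowers_iff.mp he
      rw [← zpow_add, ← two_mul, zpow_mul, zpow_ofNat, pow_two, hll, one_zpow])) (by
        rwa [zpowers_le])
    rw [h] at h1
    have h2 : l ∈ IntrinsicBasic.cj g ⊥ := h1 (mem_zpowers l)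
    rw [mem_cj, mem_bot] at h2
    apply hl1
    have h3 : l = g * (g⁻¹ * l * g) * g⁻¹ := by group
    rw [h3, h2, mul_one, mul_inv_cancel]
  obtain ⟨z, hz, hz2, hzT⟩ := exists_central hT.two inf_le_left hTP hPne
  have hzz := sq_of_order hz2
  have hz1 := ne_one_of_order hz2
  obtain ⟨k, hk, hkz⟩ := exists_conj_inv M hl hz.2 hll hzz hl1 hz1
  have hka : k * a * k⁻¹ = a := by rw [comm_c (T'.tri.comp.le hk), mul_inv_cancel_right]
  have hkL : IntrinsicBasic.cj k L = L := cj_eq_self_of_mem hk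
  obtain ⟨x', hx'⟩ : ∃ x', x' = k * x * k⁻¹ := ⟨_, rfl⟩
  have hx'z : x' = z ∨ x' = a * z := by
    rcases hlx with h | h
    · left; rw [hx', h, hkz]
    · right
      rw [hx', h, ← hkz]
      calc k * (a * l) * k⁻¹ = (k * a * k⁻¹) * (k * l * k⁻¹) := by group
        _ = _ := by rw [hka]
  have T2 : T7 x' a L := by
    have h1 := T'.tri.cj k
    rw [hka, hkL, ← hx'] at h1
    exact T7.of_lab h1 M
  have hTa : ∀ s ∈ T, s * a = a * s := fun s hs => comm_c (hT.le hs)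
  have hTx' : ∀ s ∈ T, s * x' = x' * s := by
    intro s hs
    rcases hx'z with h | h
    · rw [h]; exact hzT s hs
    · rw [h, ← mul_assoc, hTa s hs, mul_assoc, hzT s hs, mul_assoc]
  have hsp : x' ∈ L ∨ x' * a ∈ L := by
    rcases hx'z with h | h
    · left; rw [h]; exact hz.2
    · right
      rw [h, mul_assoc, hTa z hz.1, ← mul_assoc, T'.aa, one_mul]; exact hz.2
  refine ⟨x', z, hz.1, hz.2, hz1, hzz, hzT, hx'z, T2, ?_⟩
  -- the centralizer of `L / O(L)` in `C(a)`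
  obtain ⟨C₀, hC₀⟩ : ∃ C₀, C₀ = fix (centralizer ({a} : Set G)) L := ⟨_, rfl⟩
  have hC₀n : centralizer ({a} : Set G) ≤ normalizer (C₀ : Set G) := by
    intro g hg
    rw [hC₀, mem_normalizer_iff_cj, cj_fix, cj_eq_self_of_mem hg, mem_normalizer_iff_cj.mp (hn hg)]
  have h0 := hT.inf (L := C₀) (hC₀ ▸ fix_le _ _) hC₀n
  have h1 : T ⊓ C₀ = fix T L := by
    ext g
    rw [hC₀]
    exact ⟨fun h => ⟨h.1, h.2.2⟩, fun h => ⟨h.1, hT.le h.1, h.2⟩⟩
  rw [h1] at h0
  exact hB x' a L (fix T L) T2 hsp h0.two (fun g hg => ⟨hTa g hg.1, hTx' g hg.1, hg.2⟩)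
    fun R h2 h3 h4 => h0.max R h3 (fun g hg => by
      rw [hC₀]
      exact ⟨mem_c (h4 hg).1, (h4 hg).2.2⟩) h2

/-- (β'), the part about `Q` -/
theorem betaRank (hP : A7.Pump7 G) (hB : BetaP G) : BetaRank G := by
  intro x a L T M hS hT
  obtain ⟨x', z, -, -, -, -, -, -, -, h⟩ := exists_central_form hP hB M hS hT
  rcases h with h | ⟨h, h', -⟩
  · exact Or.inl h
  · exact Or.inr ⟨h, h'⟩

/-! ### 2-groups -/

theorem card_alt_seven : Nat.card (alternatingGroup (Fin 7)) = 2520 := by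
  have h1 := two_mul_nat_card_alternatingGroup (α := Fin 7)
  rw [Nat.card_perm, Nat.card_fin] at h1
  have h3 : Nat.factorial 7 = 5040 := rfl
  omega

/-- a power of two dividing `2520` is at most 8 -/
theorem le_eight {n k : ℕ} (h : n = 2 ^ k) (hd : n ∣ 2520) : n ≤ 8 := by
  subst h
  by_contra hcon
  have h1 : 4 ≤ k := by
    by_contra h2
    have h3 : 2 ^ k ≤ 2 ^ 3 := Nat.pow_le_pow_right (by norm_num) (by omega)
    omega
  have h2 : 2 ^ 4 ∣ 2520 := (pow_dvd_pow 2 h1).trans hd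
  exact absurd h2 (by decide)

/-- the order of a Sylow 2-subgroup of `L` -/
theorem eight_dvd (M : M7 L) {P : Subgroup G} (hP : IsSyl L P) : 8 ∣ Nat.card P := by
  have h1 : (2 : ℕ) ^ 3 ∣ Nat.card L := by
    have h2 := Subgroup.card_eq_card_quotient_mul_card_subgroup (oddCore ↥L)
    rw [IsA7.card ⟨M⟩] at h2
    rw [h2]
    exact Dvd.dvd.mul_right (by norm_num) _
  exact hP.dvd_card h1

/-- labels of even elements of a 2-group `T ≥ P`, `P ∈ Syl₂(L)` -/
theorem exists_even (M : M7 L) {T P : Subgroup G} (hT : IsPGroup 2 T)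
    (hTn : T ≤ normalizer (L : Set G)) (hP : IsSyl L P) (hPT : P ≤ T) :
    Nat.card P = 8 ∧ ∀ t ∈ T, M.φ t ∈ alternatingGroup (Fin 7) → ∃ p ∈ P, M.φ p = M.φ t := by
  obtain ⟨B, hB⟩ : ∃ B : Subgroup (Perm (Fin 7)), ∀ σ, σ ∈ B ↔
      σ ∈ alternatingGroup (Fin 7) ∧ ∃ t ∈ T, M.φ t = σ := by
    refine ⟨alternatingGroup (Fin 7) ⊓ (T.subgroupOf (normalizer (L : Set G))).map M.hom,
      fun σ => ?_⟩
    rw [mem_inf]
    refine and_congr_right fun _ => ?_
    constructor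
    · rintro ⟨y, hy, rfl⟩
      exact ⟨y, hy, rfl⟩
    · rintro ⟨t, ht, rfl⟩
      exact ⟨⟨t, hTn ht⟩, ht, rfl⟩
  have hB2 : IsPGroup 2 B := by
    rintro ⟨σ, hσ⟩
    obtain ⟨-, t, ht, rfl⟩ := (hB σ).mp hσ
    obtain ⟨n, hn⟩ := hT ⟨t, ht⟩
    refine ⟨n, Subtype.ext ?_⟩
    show M.φ t ^ 2 ^ n = 1
    rw [← M.pow (hTn ht), show t ^ 2 ^ n = 1 from congrArg Subtype.val hn, M.one]
  have hBle : Nat.card B ≤ 8 := by
    have hp : Fact (Nat.Prime 2) := ⟨Nat.prime_two⟩
    obtain ⟨k, hk⟩ := hB2.exists_card_eq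
    refine le_eight hk ?_
    rw [← card_alt_seven]
    exact card_dvd_of_le fun σ hσ => ((hB σ).mp hσ).1
  -- the embedding of `P`
  have hPL := hP.le
  let f : P → B := fun p => ⟨M.φ p, (hB _).mpr ⟨by
    have := M.mem_alt p (hPL p.2)
    rwa [alt_univ] at this, p, hPT p.2, rfl⟩⟩
  have hf : Function.Injective f := by
    intro p p' h
    have h1 : M.φ p = M.φ p' := congrArg Subtype.val h
    rw [M.eq_iff (hPL p.2) (hPL p'.2)] at h1
    obtain ⟨n, hn⟩ := hP.two (p⁻¹ * p')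
    have h2 : (p : G)⁻¹ * p' = 1 := eq_one_of_mem_core h1 (n := n) (congrArg Subtype.val hn)
    exact Subtype.ext (inv_mul_eq_one.mp h2)
  have h8 : 8 ≤ Nat.card P := Nat.le_of_dvd Nat.card_pos (eight_dvd M hP)
  have hle : Nat.card P ≤ Nat.card B := Nat.card_le_card_of_injective f hf
  refine ⟨by omega, fun t ht hte => ?_⟩
  have hbij : Function.Bijective f := by
    rw [Nat.bijective_iff_injective_and_card]
    exact ⟨hf, by omega⟩
  obtain ⟨p, hp⟩ := hbij.2 ⟨M.φ t, (hB _).mpr ⟨hte, t, ht, rfl⟩⟩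
  exact ⟨p, p.2, congrArg Subtype.val hp⟩

/-- two involutions of `P ∈ Syl₂(L)` -/
theorem exists_two_inv (M : M7 L) (T : IsTriple x a L) {P : Subgroup G} (hP : IsSyl L P) :
    ∃ p ∈ P, ∃ p' ∈ P, p * p = 1 ∧ p' * p' = 1 ∧ p ≠ 1 ∧ p' ≠ 1 ∧ p ≠ p' := by
  obtain ⟨V, hVL, hV4, hVsq, -⟩ := exists_four ⟨M⟩ T.invx T.x_mem
  obtain ⟨g, -, hg⟩ := hP.conj (isPGroup_of_sq hVsq) hVL
  have h1 : Nat.card (IntrinsicBasic.cj g⁻¹ V) = 4 := by rw [card_cj, hV4]
  have h2 : IntrinsicBasic.cj g⁻¹ V ≤ P := by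
    intro p hp
    rw [mem_cj, inv_inv] at hp
    have := hg hp
    rw [mem_cj] at this
    have h3 : g⁻¹ * (g * p * g⁻¹) * g = p := by group
    rwa [h3] at this
  have h3 : ∀ p ∈ IntrinsicBasic.cj g⁻¹ V, p * p = 1 := by
    rintro _ ⟨v, hv, rfl⟩
    show (g⁻¹ * v * g⁻¹⁻¹) * (g⁻¹ * v * g⁻¹⁻¹) = 1
    rw [inv_inv]
    calc g⁻¹ * v * g * (g⁻¹ * v * g) = g⁻¹ * (v * v) * g := by group
      _ = 1 := by rw [hVsq v hv, mul_one, inv_mul_cancel]
  obtain ⟨p, hp, hp1⟩ : ∃ p ∈ IntrinsicBasic.cj g⁻¹ V, p ≠ 1 := by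
    by_contra hcon
    push Not at hcon
    rw [(Subgroup.eq_bot_iff_forall _).mpr hcon, Subgroup.card_bot] at h1
    omega
  obtain ⟨p', hp', hp'1, hne⟩ : ∃ p' ∈ IntrinsicBasic.cj g⁻¹ V, p' ≠ 1 ∧ p ≠ p' := by
    by_contra hcon
    push Not at hcon
    have h4 : ((IntrinsicBasic.cj g⁻¹ V : Subgroup G) : Set G) ⊆ {1, p} := by
      intro e he
      by_cases h : e = 1
      · left; exact h
      · right; exact (hcon e he h).symm
    have h5 := Set.ncard_le_ncard h4 (Set.toFinite _)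
    have h6 : ({1, p} : Set G).ncard ≤ 2 := (Set.ncard_insert_le _ _).trans (by
      rw [Set.ncard_singleton])
    rw [← Nat.card_coe_set_eq] at h5
    have h7 : Nat.card ((IntrinsicBasic.cj g⁻¹ V : Subgroup G) : Set G) = 4 := h1
    omega
  exact ⟨p, h2 hp, p', h2 hp', h3 p hp, h3 p' hp', hp1, hp'1, hne⟩

/-- the labels of a 2-group `T` centralizing a regular four-group `Q` -/
theorem labels_bound {K T Q : Subgroup G} (M : M7 K) (hT : IsPGroup 2 T)
    (hTK : T ≤ normalizer (K : Set G)) (hQT : Q ≤ T) (hQ4 : Nat.card Q = 4)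
    (hQsq : ∀ q ∈ Q, q * q = 1) (hQT' : ∀ t ∈ T, ∀ q ∈ Q, t * q = q * t)
    (hlab : ∀ g ∈ Q, g ≠ 1 → ∀ i : Fin 7, M.φ g i = i ↔ i ∈ ({4, 5, 6} : Finset (Fin 7))) :
    Nat.card T ≤ 8 * Nat.card (fix T K) ∧ ∀ t ∈ T, t * t ∈ fix T K := by
  let f : T →* Perm (Fin 7) := M.hom.comp (inclusion hTK)
  have hf : ∀ t : T, f t = M.φ t := fun t => rfl
  obtain ⟨A, hA⟩ : ∃ A, A = (Q.subgroupOf T).map f := ⟨_, rfl⟩
  have hAm : ∀ g ∈ A, ∃ q ∈ Q, M.φ q = g := by
    intro g hg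
    rw [hA] at hg
    obtain ⟨q, hq, rfl⟩ := hg
    exact ⟨q, hq, rfl⟩
  have hQinj : ∀ q ∈ Q, M.φ q = 1 → q = 1 := by
    intro q hq h
    by_contra hne
    have := (hlab q hq hne 0).mp (by rw [h, Perm.one_apply])
    exact absurd this (by decide)
  have hA4 : Nat.card A = 4 := by
    rw [hA, ← hQ4, ← Nat.card_congr (subgroupOfEquivOfLe hQT).toEquiv]
    refine (Nat.card_congr (Equiv.ofBijective (fun q : Q.subgroupOf T =>
      (⟨f q, ⟨q, q.2, rfl⟩⟩ : (Q.subgroupOf T).map f)) ⟨?_, ?_⟩)).symm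
    · intro q q' h
      have h1 : f (q : T) = f (q' : T) := congrArg Subtype.val h
      have h2 : f ((q : T)⁻¹ * q') = 1 := by rw [map_mul, map_inv, h1, inv_mul_cancel]
      have h3 := hQinj _ (mul_mem (inv_mem q.2) q'.2) h2
      have h4 : (((q : T)⁻¹ * (q' : T) : T) : G) = 1 := h3
      have h5 : (q : T)⁻¹ * (q' : T) = 1 := Subtype.ext h4
      exact Subtype.ext (inv_mul_eq_one.mp h5)
    · rintro ⟨_, q, hq, rfl⟩
      exact ⟨⟨q, hq⟩, rfl⟩
  have hB2 : IsPGroup 2 f.range := by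
    rw [MonoidHom.range_eq_map]
    exact (hT.of_equiv Subgroup.topEquiv.symm).map f
  obtain ⟨h1, h2⟩ := Perm7.main hB2 hA4 (by
      intro g hg
      obtain ⟨q, hq, rfl⟩ := hAm g hg
      exact M.sq (hTK (hQT hq)) (hQsq q hq)) (by
      intro g hg hg1
      obtain ⟨q, hq, rfl⟩ := hAm g hg
      exact hlab q hq (fun h => hg1 (by rw [h, M.one]))) (by
      rintro _ ⟨t, rfl⟩ g hg
      obtain ⟨q, hq, rfl⟩ := hAm g hg
      exact M.comm (hTK t.2) (hTK (hQT hq)) (hQT' t t.2 q hq))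
  have hker : Nat.card f.ker = Nat.card (fix T K) := by
    have h3 : f.ker.map T.subtype = fix T K := by
      ext g
      constructor
      · rintro ⟨t, ht, rfl⟩
        exact ⟨t.2, (M.fixes_iff (hTK t.2)).mp ht⟩
      · intro hg
        exact ⟨⟨g, hg.1⟩, (M.fixes_iff (hTK hg.1)).mpr hg.2, rfl⟩
    rw [← h3, card_map_of_injective T.subtype_injective]
  refine ⟨?_, fun t ht => ⟨mul_mem ht ht, ?_⟩⟩
  · have h5 : Nat.card f.range * Nat.card f.ker = Nat.card T := by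
      rw [mul_comm, ← f.ker.card_mul_index, Subgroup.index_ker]
    rw [← h5, hker]
    exact Nat.mul_le_mul_right _ h1
  · rw [← M.fixes_iff (mul_mem (hTK ht) (hTK ht)), M.mul _ _ (hTK ht) (hTK ht)]
    exact h2 (M.φ t) ⟨⟨t, ht⟩, rfl⟩

/-- **(4)(*)** -/
theorem star (hP : A7.Pump7 G) (hB : BetaP G) : A7.Star G := by
  intro x a L T M hS hT hQ4 hQsq w hw i j hij hwφ hwP hwQ
  have hPm := muPump hP
  have T' := T7.of_lab hS.1 M
  have hn := T'.cent_le hPm hB
  have hTn : T ≤ normalizer (L : Set G) := hT.le.trans hn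
  have hPs : IsSyl L (T ⊓ L) := hT.inf T'.tri.comp.le hn
  obtain ⟨x', z, hzT', hzL, hz1, hzz, hzT, hx'z, T2, h⟩ := exists_central_form hP hB M hS hT
  obtain ⟨P, hPdef⟩ : ∃ P, P = T ⊓ L := ⟨_, rfl⟩
  rw [← hPdef] at hPs
  obtain ⟨Q, hQdef⟩ : ∃ Q, Q = fix T L := ⟨_, rfl⟩
  rw [← hQdef] at h hQ4 hQsq hwQ
  have hQT : Q ≤ T := hQdef ▸ fix_le T L
  have hPT : P ≤ T := hPdef ▸ inf_le_left
  have hPL : P ≤ L := hPdef ▸ inf_le_right
  have hwP' : ∀ p ∈ P, w * p = p * w := fun p hp => hwP p (hPdef ▸ hp)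
  have hQf : ∀ t ∈ T, M.φ t = 1 → t ∈ Q := by
    intro t ht h1
    rw [hQdef]
    exact ⟨ht, (M.fixes_iff (hTn ht)).mp h1⟩
  have hQφ : ∀ q ∈ Q, M.φ q = 1 := by
    intro q hq
    rw [hQdef] at hq
    exact (M.fixes_iff (hTn hq.1)).mpr hq.2
  -- the first alternative of (β')
  rcases h with h | ⟨-, -, v, K, M', ⟨r, hr, hv⟩, Tv, hlab⟩
  · have h1 : (Q : Set G) ⊆ {1, a} := by
      intro e he
      rcases h e he (hQsq e he) with h | h
      · left; exact h
      · right; exact h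
    have h3 := Set.ncard_le_ncard h1 (Set.toFinite _)
    have h4 : ({1, a} : Set G).ncard ≤ 2 := (Set.ncard_insert_le _ _).trans (by
      rw [Set.ncard_singleton])
    rw [← Nat.card_coe_set_eq] at h3
    have h5 : Nat.card (Q : Set G) = 4 := hQ4
    omega
  -- elements of `T` of order dividing 2^n in the core
  have hcore : ∀ g ∈ T, g ∈ core L → g = 1 := by
    intro g hg h1
    obtain ⟨n, hn⟩ := hT.two ⟨g, hg⟩
    exact eq_one_of_mem_core h1 (n := n) (congrArg Subtype.val hn)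
  have hPQ : ∀ q ∈ Q, ∀ p ∈ P, q * p = p * q := by
    intro q hq p hp
    have h1 : ⁅q, p⁆ ∈ core L := by
      rw [hQdef] at hq
      exact hq.2.2 p (hPL hp)
    have h2 : ⁅q, p⁆ ∈ T := by
      rw [commutatorElement_def]
      exact mul_mem (mul_mem (mul_mem (hQT hq) (hPT hp)) (inv_mem (hQT hq))) (inv_mem (hPT hp))
    exact commutatorElement_eq_one_iff_mul_comm.mp (hcore _ h2 h1)
  have hQab : ∀ q ∈ Q, ∀ q' ∈ Q, q * q' = q' * q := fun q hq q' hq' =>
    comm_of_sq (fun v hv => hQsq v hv) hq hq'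
  obtain ⟨hP8, heven⟩ := exists_even M hT.two hTn hPs hPT
  -- `Qs`
  have hsw : swap i j * swap i j = 1 := swap_mul_self i j
  have hodd : ∀ σ : Perm (Fin 7), σ ∈ alternatingGroup (Fin 7) → σ ≠ swap i j := by
    rintro σ hσ rfl
    rw [mem_alternatingGroup, sign_swap hij] at hσ
    exact absurd hσ (by decide)
  have hswne : swap i j ≠ 1 := fun h => (hodd 1 (one_mem _)) h.symm
  obtain ⟨Qs, hQs⟩ : ∃ Qs : Subgroup G, ∀ g, g ∈ Qs ↔ g ∈ T ∧ (M.φ g = 1 ∨ M.φ g = swap i j) := by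
    refine ⟨{ carrier := {g | g ∈ T ∧ (M.φ g = 1 ∨ M.φ g = swap i j)}
              mul_mem' := ?_, one_mem' := ?_, inv_mem' := ?_ }, fun g => Iff.rfl⟩
    · rintro g h ⟨h1, h2⟩ ⟨h3, h4⟩
      refine ⟨mul_mem h1 h3, ?_⟩
      rw [M.mul _ _ (hTn h1) (hTn h3)]
      rcases h2 with h2 | h2 <;> rcases h4 with h4 | h4 <;> rw [h2, h4]
      · left; rw [one_mul]
      · right; rw [one_mul]
      · right; rw [mul_one]
      · left; exact hsw
    · exact ⟨one_mem _, Or.inl M.one⟩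
    · rintro g ⟨h1, h2⟩
      refine ⟨inv_mem h1, ?_⟩
      rw [M.inv (hTn h1)]
      rcases h2 with h2 | h2 <;> rw [h2]
      · left; rw [inv_one]
      · right; rw [swap_inv]
  have hQsT : Qs ≤ T := fun g hg => ((hQs g).mp hg).1
  have hQQs : Q ≤ Qs := fun q hq => (hQs q).mpr ⟨hQT hq, Or.inl (hQφ q hq)⟩
  have hwQs : w ∈ Qs := (hQs w).mpr ⟨hw, Or.inr hwφ⟩
  -- `Qs = Q ∪ Q w`
  have hQsd : ∀ g ∈ Qs, g ∈ Q ∨ ∃ q ∈ Q, g = q * w := by
    intro g hg
    obtain ⟨h1, h2⟩ := (hQs g).mp hg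
    rcases h2 with h2 | h2
    · left; exact hQf g h1 h2
    · right
      refine ⟨g * w⁻¹, hQf _ (mul_mem h1 (inv_mem hw)) ?_, by rw [inv_mul_cancel_right]⟩
      rw [M.mul _ _ (hTn h1) (inv_mem (hTn hw)), M.inv (hTn hw), h2, hwφ, mul_inv_cancel]
  have hwnQ : w ∉ Q := by
    intro h
    have h1 := hQφ w h
    rw [hwφ] at h1
    exact hswne h1
  have hPQs : ∀ p ∈ P, ∀ g ∈ Qs, p * g = g * p := by
    intro p hp g hg
    rcases hQsd g hg with h | ⟨q, hq, rfl⟩
    · exact (hPQ g h p hp).symm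
    · rw [← mul_assoc, ← hPQ q hq p hp, mul_assoc, ← hwP' p hp, mul_assoc]
  have hQQs' : ∀ q ∈ Q, ∀ g ∈ Qs, q * g = g * q := by
    intro q hq g hg
    rcases hQsd g hg with h | ⟨q', hq', rfl⟩
    · exact hQab q hq g h
    · rw [← mul_assoc, hQab q hq q' hq', mul_assoc, ← hwQ q hq, mul_assoc]
  have hTwo : TwoP T P Qs := by
    refine ⟨hPT, hQsT, fun t ht => ?_, hPQs, fun p hp hpQ => ?_⟩
    · by_cases he : M.φ t ∈ alternatingGroup (Fin 7)
      · obtain ⟨p, hp, hpt⟩ := heven t ht he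
        refine ⟨p, hp, p⁻¹ * t, (hQs _).mpr ⟨mul_mem (inv_mem (hPT hp)) ht, Or.inl ?_⟩, by group⟩
        rw [M.mul _ _ (inv_mem (hTn (hPT hp))) (hTn ht), M.inv (hTn (hPT hp)), hpt,
          inv_mul_cancel]
      · obtain ⟨p, hp, hpt⟩ := heven (t * w) (mul_mem ht hw) (by
          rw [M.mul _ _ (hTn ht) (hTn hw), hwφ, mem_alternatingGroup, Perm.sign_mul, sign_swap hij]
          rw [mem_alternatingGroup] at he
          rcases Int.units_eq_one_or (sign (M.φ t)) with h | h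
          · exact absurd h he
          · rw [h]; decide)
        refine ⟨p, hp, p⁻¹ * t, (hQs _).mpr ⟨mul_mem (inv_mem (hPT hp)) ht, Or.inr ?_⟩, by group⟩
        rw [M.mul _ _ (inv_mem (hTn (hPT hp))) (hTn ht), M.inv (hTn (hPT hp)), hpt,
          M.mul _ _ (hTn ht) (hTn hw), hwφ, mul_inv_rev, swap_inv, inv_mul_cancel_right]
    · have h1 : M.φ p = 1 := by
        rcases ((hQs p).mp hpQ).2 with h | h
        · exact h
        · have h2 := M.mem_alt p (hPL hp)
          rw [alt_univ] at h2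
          exact absurd h (hodd _ h2)
      exact hcore p (hPT hp) ((M.core_iff p (hPL hp)).mp h1)
  have hQs8 : Nat.card Qs = 8 := by
    have hrel : Q.relIndex Qs = 2 := by
      rw [Subgroup.relIndex_eq_two_iff]
      refine ⟨w, hwQs, fun b hb => ?_⟩
      rcases hQsd b hb with h | ⟨q, hq, rfl⟩
      · right
        refine ⟨h, fun h2 => hwnQ ?_⟩
        have := mul_mem (inv_mem h) h2
        rwa [inv_mul_cancel_left] at this
      · left
        have hww : w * w ∈ Q := by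
          apply hQf _ (mul_mem hw hw)
          rw [M.mul _ _ (hTn hw) (hTn hw), hwφ, hsw]
        refine ⟨by rw [mul_assoc]; exact mul_mem hq hww, fun h2 => hwnQ ?_⟩
        have := mul_mem (inv_mem hq) h2
        rwa [inv_mul_cancel_left] at this
    have h1 := Subgroup.relIndex_mul_relIndex ⊥ Q Qs bot_le hQQs
    rw [Subgroup.relIndex_bot_left, Subgroup.relIndex_bot_left, hrel, hQ4] at h1
    omega
  have hT64 : Nat.card T = 64 := by rw [hTwo.card, hP8, hQs8]
  -- `T` centralizes `Q`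
  have hTQ : ∀ t ∈ T, ∀ q ∈ Q, t * q = q * t := by
    intro t ht q hq
    obtain ⟨p, hp, g, hg, rfl⟩ := hTwo.sup t ht
    calc p * g * q = p * (g * q) := by group
      _ = p * (q * g) := by rw [hQQs' q hq g hg]
      _ = (p * q) * g := by group
      _ = (q * p) * g := by rw [hPQ q hq p hp]
      _ = _ := by group
  have hTa : ∀ s ∈ T, s * a = a * s := fun s hs => comm_c (hT.le hs)
  have hTx' : ∀ s ∈ T, s * x' = x' * s := by
    intro s hs
    rcases hx'z with h | h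
    · rw [h]; exact hzT s hs
    · rw [h, ← mul_assoc, hTa s hs, mul_assoc, hzT s hs, mul_assoc]
  have hTv : ∀ s ∈ T, s * v = v * s := by
    intro s hs
    rw [hv, ← mul_assoc, hTx' s hs, mul_assoc, hTQ s hs r hr, mul_assoc]
  have hTK : T ≤ normalizer (K : Set G) := fun t ht =>
    Tv.cent_le hPm hB (mem_c (hTv t ht))
  obtain ⟨hW8, hWsq⟩ := labels_bound M' hT.two hTK hQT hQ4 hQsq hTQ
    (fun g hg hg1 => (hlab g hg hg1).2)
  obtain ⟨W, hWdef⟩ : ∃ W, W = fix T K := ⟨_, rfl⟩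
  rw [← hWdef] at hW8 hWsq
  have hWT : W ≤ T := hWdef ▸ fix_le T K
  have hWcard : 8 ≤ Nat.card W := by omega
  have hWQ : ∀ g ∈ W, g ∈ Q → g = 1 := by
    intro g hg hgQ
    by_contra hne
    have h1 : M'.φ g = 1 := (M'.fixes_iff (hTK (hQT hgQ))).mpr (by
      rw [hWdef] at hg
      exact hg.2)
    have := ((hlab g hgQ hne).2 0).mp (by rw [h1, Perm.one_apply])
    exact absurd this (by decide)
  have hww : w * w = 1 := by
    apply hWQ _ (hWsq w hw)
    apply hQf _ (mul_mem hw hw)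
    rw [M.mul _ _ (hTn hw) (hTn hw), hwφ, hsw]
  have hQssq : ∀ g ∈ Qs, g * g = 1 := by
    intro g hg
    rcases hQsd g hg with h | ⟨q, hq, rfl⟩
    · exact hQsq g h
    · calc q * w * (q * w) = q * (w * q) * w := by group
        _ = q * (q * w) * w := by rw [hwQ q hq]
        _ = (q * q) * (w * w) := by group
        _ = 1 := by rw [hQsq q hq, hww, one_mul]
  -- `W` has the only involution `v`
  have hWF : W ≤ FF x' v K := by
    intro g hg
    have hgT := hWT hg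
    rw [hWdef] at hg
    exact ⟨hTv g hgT, hTx' g hgT, hg.2⟩
  have hW2 : IsPGroup 2 W := hT.two.to_le hWT
  have hinv : ∀ g ∈ W, g * g = 1 → g = 1 ∨ g = v := by
    obtain ⟨l, hl, hll, hlx, hlE, hφ⟩ := Tv.exists_l M' (E := W) hW2
      (fun e he => (hWF he).2.2.1) fun e he => (hWF he).2.1
    have hsp : x' ∈ K ∨ x' * v ∈ K := by
      by_cases hq1 : x' * l = 1
      · left
        rw [mul_eq_one_iff_eq_inv.mp hq1]
        exact inv_mem hl
      by_cases hqa : x' * l = v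
      · right
        rw [← hqa, ← mul_assoc, Tv.xx, one_mul]
        exact hl
      exfalso
      obtain ⟨N, -, -, -, -, -, h5⟩ := Tv.nonspecial hPm hB M' hl hll hlx hφ hq1 hqa
      have h6 := h5 W hW2 hWF (fun e he => (hlE e he).symm)
      have h7 : (W : Set G) ⊆ {1, v, x' * l, v * (x' * l)} := by
        intro e he
        rcases h6 e he with h | h | h | h
        · exact Or.inl h
        · exact Or.inr (Or.inl h)
        · exact Or.inr (Or.inr (Or.inl h))
        · exact Or.inr (Or.inr (Or.inr h))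
      have h8 := Set.ncard_le_ncard h7 (Set.toFinite _)
      have h9 : ({1, v, x' * l, v * (x' * l)} : Set G).ncard ≤ 4 := by
        refine (Set.ncard_insert_le _ _).trans ?_
        have := Set.ncard_insert_le v ({x' * l, v * (x' * l)} : Set G)
        have h10 := Set.ncard_insert_le (x' * l) ({v * (x' * l)} : Set G)
        rw [Set.ncard_singleton] at h10
        omega
      rw [← Nat.card_coe_set_eq] at h8
      have h10 : Nat.card (W : Set G) = Nat.card W := rfl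
      omega
    obtain ⟨Qv, hWQv, hQv, hQvF, hmax⟩ := exists_max hW2 hWF
    rcases hB x' v K Qv Tv hsp hQv hQvF hmax with h | ⟨h, -⟩
    · exact fun g hg hgg => h g (hWQv hg) hgg
    · exfalso
      have := Subgroup.card_le_of_le hWQv
      omega
  -- `v ∉ Qs`
  have hvφ : M.φ v = M.φ z := by
    have hvx : M.φ v = M.φ x' := by
      rw [hv, M.mul _ _ T2.tri.x_mem (hTn (hQT hr)), hQφ r hr, mul_one]
    rw [hvx]
    rcases hx'z with h | h
    · rw [h]
    · rw [h, M.mul _ _ T'.fixes_a.1 (hTn hzT'), (M.fixes_iff T'.fixes_a.1).mpr T'.fixes_a, one_mul]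
  have hvQs : v ∉ Qs := by
    intro hvq
    rcases ((hQs v).mp hvq).2 with h | h
    · rw [hvφ] at h
      exact hz1 (eq_one_of_mem_core_sq ((M.core_iff z hzL).mp h) hzz)
    · rw [hvφ] at h
      have h2 := M.mem_alt z hzL
      rw [alt_univ] at h2
      exact hodd _ h2 h
  have hWQs : ∀ g ∈ W, g ∈ Qs → g = 1 := by
    intro g hg hgQ
    rcases hinv g hg (hQssq g hgQ) with h | h
    · exact h
    · exact absurd (h ▸ hgQ) hvQs
  -- the projection `W → P`
  have hproj : ∀ p ∈ P, ∃ g ∈ Qs, p * g ∈ W := by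
    choose! pr hpr gr hgr hpg using hTwo.sup
    let f : W → P := fun g => ⟨pr g, hpr g (hWT g.2)⟩
    have hf : Function.Injective f := by
      intro g h hgh
      have h1 : pr (g : G) = pr (h : G) := congrArg Subtype.val hgh
      have h2 : (g : G)⁻¹ * h ∈ Qs := by
        rw [hpg g (hWT g.2), hpg h (hWT h.2), h1]
        have h3 : (pr (h : G) * gr (g : G))⁻¹ * (pr (h : G) * gr (h : G)) =
          (gr (g : G))⁻¹ * gr (h : G) := by group
        rw [h3]
        exact mul_mem (inv_mem (hgr g (hWT g.2))) (hgr h (hWT h.2))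
      have h3 := hWQs _ (mul_mem (inv_mem g.2) h.2) h2
      exact Subtype.ext (inv_mul_eq_one.mp h3)
    have hbij : Function.Bijective f := by
      rw [Nat.bijective_iff_injective_and_card]
      refine ⟨hf, ?_⟩
      have := Nat.card_le_card_of_injective f hf
      omega
    intro p hp
    obtain ⟨g, hg⟩ := hbij.2 ⟨p, hp⟩
    have h1 : pr (g : G) = p := congrArg Subtype.val hg
    refine ⟨gr g, hgr g (hWT g.2), ?_⟩
    rw [← h1, ← hpg g (hWT g.2)]
    exact g.2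
  obtain ⟨p, hp, p', hp', hpp, hpp', hp1, hp'1, hne⟩ := exists_two_inv M T'.tri hPs
  have key : ∀ p ∈ P, p * p = 1 → p ≠ 1 → ∃ g ∈ Qs, p * g = v := by
    intro p hp hpp hp1
    obtain ⟨g, hg, hpg⟩ := hproj p hp
    refine ⟨g, hg, ?_⟩
    rcases hinv _ hpg (by
      calc p * g * (p * g) = p * (g * p) * g := by group
        _ = p * (p * g) * g := by rw [hPQs p hp g hg]
        _ = (p * p) * (g * g) := by group
        _ = 1 := by rw [hpp, hQssq g hg, one_mul]) with h | h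
    · exfalso
      apply hp1
      apply hTwo.inf p hp
      rw [mul_eq_one_iff_eq_inv.mp h]
      exact inv_mem hg
    · exact h
  obtain ⟨g, hg, hpg⟩ := key p hp hpp hp1
  obtain ⟨g', hg', hpg'⟩ := key p' hp' hpp' hp'1
  have h1 : p'⁻¹ * p = g' * g⁻¹ := by
    rw [inv_mul_eq_iff_eq_mul, ← mul_assoc, hpg', ← hpg, mul_inv_cancel_right]
  have h2 := hTwo.inf (p'⁻¹ * p) (mul_mem (inv_mem hp') hp) (by
    rw [h1]; exact mul_mem hg' (inv_mem hg))
  exact hne (inv_mul_eq_one.mp h2).symm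

end Cfsg.Agent.UGT.A7.Star
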