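import Cfsg.Agent.UGT.A7.Diag
import Cfsg.Agent.UGT.A7.Star
import Cfsg.Agent.UGT.A7.SevenZero
import Cfsg.Agent.UGT.A7.WZero

/-!
# (7.3) of branch [A7]

`seven3 : W7 G → Pump7 G → BetaP G → Seven3 G`: `t` does not move the pump-up of the 5-point component.
-/

set_option autoImplicit false
set_option linter.unusedSectionVars false

open Cfsg Subgroup Equiv Equiv.Perm
open Cfsg.Agent.UAlt
open Cfsg.Agent.SignalizersComponents Cfsg.Agent.Lib
open Cfsg.Agent.SignalizersComponents.IntrinsicBasic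
open Cfsg.Agent.Intrinsic
open Cfsg.Agent.Intrinsic.Basic Cfsg.Agent.Intrinsic.Cen Cfsg.Agent.Intrinsic.Diag
open Cfsg.Agent.McLLyComp.Act
open Cfsg.Agent.UGT.Triple Cfsg.Agent.UGT.Iface Cfsg.Agent.UGT.PumpGen Cfsg.Agent.UGT.TriBase
open Cfsg.Agent.UGT.A7.Mu (T7 M7 BetaP)
open scoped commutatorElement

namespace Cfsg.Agent.UGT.A7.Seven3

universe u

variable {G : Type u} [Group G] [Finite G]

/-! ### the world of (7.3) -/

theorem center_bot (hW : W7 G) {x c : G} {Z : Subgroup G} (T : IsTriple x c Z) :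
    center (↥Z ⧸ oddCore ↥Z) = ⊥ := by
  rcases hW x c Z T with ⟨h2, -⟩ | ⟨⟨e⟩⟩
  · exact RedR.center_of_L2 h2
  · obtain ⟨M₀⟩ := Mod.nonempty_of_equiv (K := Z) (S := (Finset.univ : Finset (Fin 7)))
      (by rw [Finset.card_univ, Fintype.card_fin]) (Ω := Fin 7) (by rw [Finset.card_univ]) e
    exact RedR.center_bar M₀

theorem pump_five (hW : W7 G) {x c b : G} {Z E : Subgroup G} (T : IsTriple x c Z) (hbb : b * b = 1)
    (hbc : b * c = c * b) (hbx : b * x = x * b) (hb : b ∈ normalizer (Z : Set G))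
    (hE : IsComp (Z ⊓ centralizer ({b} : Set G)) E) (h5 : AltType E 5)
    (hy : ∃ y ∈ core (centralizer ({x} : Set G)), y ∈ E ∧ y ∉ core E) :
    (AltType Z 5 ∧ Fixes b Z) ∨ AltType Z 7 := by
  rcases hW x c Z T with ⟨h2, hin⟩ | h7
  · left
    obtain ⟨B⟩ := Dg.nonempty_mod_of_card (SevenZero.card_fix_swap (i := 0) (j := 1) (by decide)) h5
    obtain ⟨y, hy, hyE, hyc⟩ := hy
    have hf : Fixes b Z := (SevenZero.fixes_or_inner B (SevenZero.card_fix_swap (by decide)) T hbx.symm hb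
      hbb hE h2 hy hyE hyc).resolve_right hin
    obtain ⟨hc1, hc2⟩ := isComp_cen T.comp (mem_c hbc) hbb hf
    have hE2 : IsComp (Z ⊓ centralizer ({b} : Set G)) (cen Z b) :=
      hc1.restrict (inf_le_inf_right _ T.comp.le) (le_inf (Cen.cen_le Z b) (Cen.cen_le_centralizer Z b))
    have hle2 : E ≤ cen Z b := by
      rw [← hE.pElem_eq]
      exact PComponents.pElem_mono hE.le
    have heq := hE.eq_of_le hE2 hle2
    obtain ⟨e, -⟩ := exists_quotEquiv hc2
    rw [heq] at h5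
    exact ⟨h5.congr e, hf⟩
  · exact Or.inr h7

/-! ### a transposition centralizing `P` -/

/-- a 2-group `S ∈ Syl₂(C(q))` with an element `u` of odd label contains a transposition `p u` centralizing
`S ∩ N` -/
theorem exists_w {q : G} {N S : Subgroup G} (hn : centralizer ({q} : Set G) ≤ normalizer (N : Set G))
    (hNc : N ≤ centralizer ({q} : Set G)) (M : Lab N) (hS : IsSyl (centralizer ({q} : Set G)) S) {u : G}
    (hu : u ∈ S) (ho : sign (M.φ u) = -1) : ∃ p ∈ S ⊓ N, ∃ i j : Fin 7, i ≠ j ∧ M.φ (p * u) = swap i j ∧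
      ∀ r ∈ S ⊓ N, (p * u) * r = r * (p * u) := by
  have hSn : S ≤ normalizer (N : Set G) := hS.le.trans hn
  have hPs : IsSyl N (S ⊓ N) := hS.inf hNc hn
  obtain ⟨P, hP⟩ : ∃ P, P = S ⊓ N := ⟨_, rfl⟩
  rw [← hP] at hPs ⊢
  have hPS : P ≤ S := hP ▸ inf_le_left
  have hPN : P ≤ N := hP ▸ inf_le_right
  obtain ⟨hP8, -⟩ := Star.exists_even M hS.two hSn hPs hPS
  have hcore : ∀ g ∈ S, g ∈ core N → g = 1 := by
    intro g hg h1
    obtain ⟨n, hn⟩ := hS.two ⟨g, hg⟩
    exact eq_one_of_mem_core h1 (n := n) (congrArg Subtype.val hn)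
  -- the labels of `S`
  obtain ⟨B, hB⟩ : ∃ B : Subgroup (Perm (Fin 7)), ∀ σ, σ ∈ B ↔ ∃ t ∈ S, M.φ t = σ := by
    refine ⟨(S.subgroupOf (normalizer (N : Set G))).map M.hom, fun σ => ?_⟩
    constructor
    · rintro ⟨y, hy, rfl⟩
      exact ⟨y, hy, rfl⟩
    · rintro ⟨t, ht, rfl⟩
      exact ⟨⟨t, hSn ht⟩, ht, rfl⟩
  have hB2 : IsPGroup 2 B := by
    rintro ⟨σ, hσ⟩
    obtain ⟨t, ht, rfl⟩ := (hB σ).mp hσ
    obtain ⟨n, hn⟩ := hS.two ⟨t, ht⟩
    refine ⟨n, Subtype.ext ?_⟩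
    show M.φ t ^ 2 ^ n = 1
    rw [← M.pow (hSn ht), show t ^ 2 ^ n = 1 from congrArg Subtype.val hn, M.one]
  obtain ⟨g, hg⟩ := exists_conj_W0 B hB2
  have hgS : ∀ s ∈ S, g * M.φ s * g⁻¹ ∈ W0 := fun s hs => hg _ ((hB _).mpr ⟨s, hs, rfl⟩)
  -- `P → P0` is bijective
  let f : P → P0 := fun p => ⟨g * M.φ p * g⁻¹, mem_P0.mpr ⟨hgS p (hPS p.2), by
    have h1 := M.mem_alt p (hPN p.2)
    rw [alt_univ, mem_alternatingGroup] at h1
    rw [Perm.sign_mul, Perm.sign_mul, h1, Perm.sign_inv, mul_one, Int.units_mul_self]⟩⟩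
  have hf : Function.Injective f := by
    intro p p' h
    have h0 : g * M.φ p * g⁻¹ = g * M.φ p' * g⁻¹ := congrArg Subtype.val h
    have h1 : M.φ p = M.φ p' := mul_left_cancel (mul_right_cancel h0)
    rw [M.eq_iff (hPN p.2) (hPN p'.2)] at h1
    exact Subtype.ext (inv_mul_eq_one.mp (hcore _ (mul_mem (inv_mem (hPS p.2)) (hPS p'.2)) h1))
  have hbij : Function.Bijective f := by
    rw [Nat.bijective_iff_injective_and_card]
    exact ⟨hf, by rw [hP8, card_P0]⟩
  have h1 : w0 * (g * M.φ u⁻¹ * g⁻¹) ∈ P0 := by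
    rcases W0_cases (hgS u⁻¹ (inv_mem hu)) with h | h
    · exfalso
      have h2 := (mem_P0.mp h).2
      rw [Perm.sign_mul, Perm.sign_mul, M.inv (hSn hu), Perm.sign_inv, Perm.sign_inv, ho] at h2
      rcases Int.units_eq_one_or (sign g) with h3 | h3 <;> rw [h3] at h2 <;> revert h2 <;> decide
    · exact h
  obtain ⟨⟨p, hp⟩, hpf⟩ := hbij.2 ⟨_, h1⟩
  have h2 : g * M.φ p * g⁻¹ = w0 * (g * M.φ u⁻¹ * g⁻¹) := congrArg Subtype.val hpf
  have h3 : M.φ (p * u) = g⁻¹ * w0 * g := by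
    rw [M.mul _ _ (hSn (hPS hp)) (hSn hu)]
    have h4 : M.φ p = g⁻¹ * (g * M.φ p * g⁻¹) * g := by group
    rw [h4, h2, M.inv (hSn hu)]
    group
  have h4 : g⁻¹ * w0 * g = swap (g⁻¹ 4) (g⁻¹ 5) := by
    rw [Equiv.swap_apply_apply, inv_inv]
    rfl
  refine ⟨p, hp, g⁻¹ 4, g⁻¹ 5, fun h => absurd (g⁻¹.injective h) (by decide), by rw [h3, h4], fun r hr => ?_⟩
  have hpu : p * u ∈ S := mul_mem (hPS hp) hu
  have hrS := hPS hr
  have hrN := hPN hr
  rw [← commutatorElement_eq_one_iff_mul_comm]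
  apply hcore
  · rw [commutatorElement_def]
    exact mul_mem (mul_mem (mul_mem hpu hrS) (inv_mem hpu)) (inv_mem hrS)
  · have h5 : ⁅p * u, r⁆ ∈ N := by
      rw [commutatorElement_def]
      exact mul_mem ((mem_normalizer_iff.mp (hSn hpu) r).mp hrN) (inv_mem hrN)
    rw [← M.core_iff _ h5, commutatorElement_def,
      M.mul _ _ (mul_mem (mul_mem (hSn hpu) (hSn hrS)) (inv_mem (hSn hpu))) (inv_mem (hSn hrS)),
      M.conj (hSn hpu) (hSn hrS), M.inv (hSn hrS), h3, mul_inv_eq_one, mul_inv_eq_iff_eq_mul]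
    have h6 := w0_central (hgS r hrS)
    calc g⁻¹ * w0 * g * M.φ r = g⁻¹ * (w0 * (g * M.φ r * g⁻¹)) * g := by group
      _ = g⁻¹ * (g * M.φ r * g⁻¹ * w0) * g := by rw [h6]
      _ = M.φ r * (g⁻¹ * w0 * g) := by group

/-- **(4)(*)** for the world of (7.3) -/
theorem w4 (hP : A7.Pump7 G) (hB : BetaP G) {x c h u : G} {Z : Subgroup G} (T : IsTriple x c Z)
    (h7 : AltType Z 7) (hhc : h * c = c * h) (hhZ : Fixes h Z) (hxh : x * h * x = h * c)
    (huu : u * u = 1) (huc : u * c = c * u) (hux : u * x = x * u)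
    (hE : ∃ E, IsComp (Z ⊓ centralizer ({u} : Set G)) E ∧ AltType E 5) : False := by
  obtain ⟨M⟩ := h7.mod_of_card (S := (Finset.univ : Finset (Fin 7))) (by simp) le_rfl
  have T' := Star.T7.of_lab T M
  have hPm := Star.muPump hP
  have hCn := T'.cent_le hPm hB
  have huZ : u ∈ normalizer (Z : Set G) := hCn (mem_c huc)
  obtain ⟨E, hE, hE5⟩ := hE
  obtain ⟨-, h5⟩ := Dg.seven_five M huu huZ hE hE5
  obtain ⟨-, hsg, -⟩ := Dg.two_points (M.mem_sym u huZ) (by simp) h5
  have hcc := T'.aa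
  have hxx := T'.xx
  have hc1 : c ≠ 1 := ne_one_of_order T.inva
  obtain ⟨l, hl, hll, hlx, hlE, hφ⟩ := T'.exists_l M (E := zpowers u)
    (Mu.isPGroup_of_sq (by
      intro e he
      obtain ⟨n, rfl⟩ := mem_zpowers_iff.mp he
      rw [← zpow_add, ← two_mul, zpow_mul, zpow_ofNat, pow_two, huu, one_zpow]))
    (by rwa [zpowers_le])
    (by
      intro e he
      obtain ⟨n, rfl⟩ := mem_zpowers_iff.mp he
      have h1 : Commute u x := hux
      exact (h1.zpow_left n))
  have hlu : l * u = u * l := hlE u (mem_zpowers u)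
  have hcx : c * x = x * c := T'.ax
  -- `[h, x] = c`
  have hhx : h * x = x * h * c := by
    calc h * x = (x * x) * h * x := by rw [hxx, one_mul]
      _ = x * (x * h * x) := by group
      _ = _ := by rw [hxh, mul_assoc]
  have hcomm : ⁅h, x⁆ = c := by
    rw [commutatorElement_def, hhx]
    calc x * h * c * h⁻¹ * x⁻¹ = x * (h * c) * h⁻¹ * x⁻¹ := by group
      _ = x * (c * h) * h⁻¹ * x⁻¹ := by rw [hhc]
      _ = x * c * x⁻¹ := by group
      _ = c := by rw [← hcx, mul_inv_cancel_right]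
  have hcZ : c ∉ core Z := fun h1 => hc1 (eq_one_of_mem_core_sq h1 hcc)
  have hq1 : x * l ≠ 1 := by
    intro h1
    have hx : x ∈ Z := by
      rw [mul_eq_one_iff_eq_inv.mp h1]
      exact inv_mem hl
    apply hcZ
    rw [← hcomm]
    exact hhZ.2 x hx
  have hqa : x * l ≠ c := by
    intro h1
    have hlc : l = x * c := by rw [← h1, ← mul_assoc, hxx, one_mul]
    have h2 : ⁅h, l⁆ = c := by
      have e1 : h * (x * c) * h⁻¹ * (x * c)⁻¹ = h * x * (c * h⁻¹ * c⁻¹) * x⁻¹ := by group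
      have e2 : c * h⁻¹ * c⁻¹ = h⁻¹ := by
        have : Commute c h⁻¹ := (show Commute h c from hhc).symm.inv_right
        rw [this.eq, mul_inv_cancel_right]
      rw [hlc, commutatorElement_def, e1, e2, ← commutatorElement_def, hcomm]
    apply hcZ
    rw [← h2]
    exact hhZ.2 l hl
  obtain ⟨N, hN, hxN, hs, hfix, -, -⟩ := T'.nonspecial hPm hB M hl hll hlx hφ hq1 hqa
  obtain ⟨⟨hqc, hqx, hqZ⟩, hqq⟩ := T'.q_mem M hl hll hlx hφ
  obtain ⟨q, hq⟩ : ∃ q, q = x * l := ⟨_, rfl⟩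
  rw [← hq] at hq1 hqa hN hxN hs hfix hqc hqx hqZ hqq
  have huq : u * q = q * u := by
    rw [hq, ← mul_assoc, hux, mul_assoc, ← hlu, mul_assoc]
  have hCnN := hN.cent_le hPm hB
  -- labels of `N`
  obtain ⟨MC, hMC⟩ := CaseD.exists_mod_cen M hqq hqZ (by simp)
  obtain ⟨MN, hMN⟩ := Mod.exists_extend MC (by simp) hs
  have hcenN : cen Z q ≤ N := by rw [← hs]; exact le_sup_left
  have huN : u ∈ normalizer (N : Set G) := hCnN (mem_c huq)
  have hucen : u ∈ normalizer (cen Z q : Set G) := mem_normalizer_cen huZ huq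
  have e1 : MN.φ u = MC.φ u := Mod.extend_eq MC MN hcenN hMN huN hucen
  have e2 : M.φ u = MC.φ u := Mod.extend_eq MC M (Cen.cen_le Z q) (fun y hy => (hMC y hy).symm) huZ hucen
  have hsgN : sign (MN.φ u) = -1 := by rw [e1, ← e2, hsg]
  -- the four-group `⟨c, q⟩`
  obtain ⟨B, hB1, hB2⟩ := Mu.exists_two hcc hc1
  have hBsq : ∀ b ∈ B, b * b = 1 := by
    intro b hb
    rcases (hB1 b).mp hb with rfl | rfl
    · rw [one_mul]
    · exact hcc
  obtain ⟨E1, hBE1, hqE1, hE1c, hE1sq, hE1card⟩ := Mu.exists_adjoin hBsq hqq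
    (fun h => by
      rcases (hB1 q).mp h with h | h
      · exact hq1 h
      · exact hqa h)
    (fun b hb => by
      rcases (hB1 b).mp hb with rfl | rfl
      · rw [one_mul, mul_one]
      · exact hqc.symm)
  have hcE1 : c ∈ E1 := hBE1 ((hB1 c).mpr (Or.inr rfl))
  have hE1g : ∀ F : Subgroup G, c ∈ F → q ∈ F → E1 ≤ F := by
    intro F hcF hqF e he
    have hBF : B ≤ F := by
      intro b hb
      rcases (hB1 b).mp hb with rfl | rfl
      · exact one_mem _
      · exact hcF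
    rcases hE1c e he with h | h
    · exact hBF h
    · have := mul_mem (hBF h) (inv_mem hqF)
      rwa [mul_inv_cancel_right] at this
  have hE1Z : ∀ e ∈ E1, Fixes e Z := by
    intro e he
    exact (hE1g (fix ⊤ Z) ⟨mem_top _, T'.fixes_a⟩ ⟨mem_top _, hqZ⟩ he).2
  have hE1q : ∀ e ∈ E1, e * q = q * e := by
    intro e he
    exact comm_c (hE1g (centralizer ({q} : Set G)) (mem_c hqc.symm) (mem_c rfl) he)
  have hE1u : ∀ e ∈ E1, e * u = u * e := by
    intro e he
    exact comm_c (hE1g (centralizer ({u} : Set G)) (mem_c huc.symm) (mem_c huq.symm) he)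
  have huE1 : u ∉ E1 := by
    intro h1
    rw [(M.fixes_iff huZ).mpr (hE1Z u h1), Perm.sign_one] at hsg
    exact absurd hsg (by decide)
  obtain ⟨E2, hE12, huE2, hE2c, hE2sq, -⟩ := Mu.exists_adjoin hE1sq huu huE1 hE1u
  have hE2q : E2 ≤ centralizer ({q} : Set G) := by
    intro e he
    rcases hE2c e he with h | h
    · exact mem_c (hE1q e h)
    · have := mul_mem (mem_c (hE1q _ h) : e * u ∈ centralizer ({q} : Set G)) (inv_mem (mem_c huq))
      rwa [mul_inv_cancel_right] at this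
  obtain ⟨S, hS, hES⟩ := exists_isSyl (Mu.isPGroup_of_sq hE2sq) hE2q
  have hSp : Special x q N := ⟨hN.tri, Or.inr (by rw [hN.ax]; exact hxN)⟩
  have hE1f : E1 ≤ fix S N := fun e he => ⟨hES (hE12 he), hfix e (hE1Z e he) (hE1q e he)⟩
  rcases Star.betaRank hP hB x q N S MN hSp hS with hbr | ⟨hQ4, hQsq⟩
  · rcases hbr c (hE1f hcE1) hcc with h | h
    · exact hc1 h
    · exact hqa h.symm
  have hfixE : E1 = fix S N := Subgroup.eq_of_le_of_card_ge hE1f (by rw [hQ4, hE1card, hB2])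
  obtain ⟨p, hp, i, j, hij, hpφ, hpr⟩ := exists_w hCnN hN.tri.comp.le MN hS (hES huE2) hsgN
  have hpS : p ∈ S := hp.1
  refine Star.star hP hB x q N S MN hSp hS hQ4 hQsq (p * u) (mul_mem hpS (hES huE2)) i j hij hpφ hpr ?_
  intro r hr
  have hru : r * u = u * r := hE1u r (hfixE ▸ hr)
  have hrp : r * p = p * r := by
    rw [← commutatorElement_eq_one_iff_mul_comm]
    obtain ⟨n, hn⟩ := hS.two ⟨⁅r, p⁆, by
      rw [commutatorElement_def]
      exact mul_mem (mul_mem (mul_mem hr.1 hpS) (inv_mem hr.1)) (inv_mem hpS)⟩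
    exact eq_one_of_mem_core (hr.2.2 p hp.2) (n := n) (congrArg Subtype.val hn)
  rw [mul_assoc, ← hru, ← mul_assoc, ← hrp, mul_assoc]

theorem world (hW : W7 G) (hP : A7.Pump7 G) (hB : BetaP G) (x : G) : Dg.World x where
  center := fun _ _ T => center_bot hW T
  pump := fun _ _ _ _ T h1 h2 h3 h4 h5 h6 h7 => pump_five hW T h1 h2 h3 h4 h5 h6 h7
  norm := by
    intro c Z T h7
    obtain ⟨M⟩ := h7.mod_of_card (S := (Finset.univ : Finset (Fin 7))) (by simp) le_rfl
    exact Star.normal7 hP hB x c Z M T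
  w4 := fun _ _ _ _ T h7 _ hhc hhZ hxh huu huc hux _ hE => w4 hP hB T h7 hhc hhZ hxh huu huc hux hE

/-- the involutions of `C(a)` trivial on `L / O(L)` -/
theorem inv_fix {a : G} {L T : Subgroup G} (ha : orderOf a = 2) (haL : Fixes a L)
    (hCn : centralizer ({a} : Set G) ≤ normalizer (L : Set G)) (hT : IsSyl (centralizer ({a} : Set G)) T)
    (hcard : Nat.card (fix T L) = 2) {u : G} (huu : u * u = 1) (hua : u * a = a * u) (huL : Fixes u L) :
    u = 1 ∨ u = a := by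
  have haa := sq_of_order ha
  have ha1 := ne_one_of_order ha
  have hzp : ∀ {v : G}, v * v = 1 → IsPGroup 2 (zpowers v) := by
    intro v hv
    refine Mu.isPGroup_of_sq ?_
    intro e he
    obtain ⟨n, rfl⟩ := mem_zpowers_iff.mp he
    rw [← zpow_add, ← two_mul, zpow_mul, zpow_ofNat, pow_two, hv, one_zpow]
  -- `a ∈ T`
  have haT : a ∈ T := by
    have hn : T ≤ normalizer (zpowers a : Set G) := by
      intro e he
      rw [mem_normalizer_iff_cj]
      have : IntrinsicBasic.cj e (zpowers a) = zpowers (e * a * e⁻¹) := by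
        rw [IntrinsicBasic.cj_def]
        exact MonoidHom.map_zpowers _ _
      rw [this, comm_c (hT.le he), mul_inv_cancel_right]
    have h1 := hT.max (T ⊔ zpowers a) (IsPGroup.to_sup_of_normal_right' hT.two (hzp haa) hn)
      (sup_le hT.le (by rw [zpowers_le]; exact mem_c rfl)) le_sup_left
    rw [← h1]
    exact mem_sup_right (mem_zpowers a)
  obtain ⟨B, hB1, hB2⟩ := Mu.exists_two haa ha1
  have hBf : B = fix T L := Subgroup.eq_of_le_of_card_ge (by
    intro b hb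
    rcases (hB1 b).mp hb with rfl | rfl
    · exact one_mem _
    · exact ⟨haT, haL⟩) (by rw [hcard, hB2])
  obtain ⟨g, hg, hgu⟩ := hT.conj (hzp huu) (by rw [zpowers_le]; exact mem_c hua)
  have h1 : g⁻¹ * u * g ∈ T := by
    have := hgu (mem_zpowers u)
    rwa [mem_cj] at this
  have h2 : Fixes (g⁻¹ * u * g) L := by
    have := fixes_conj huL (inv_mem (hCn hg))
    rwa [inv_inv] at this
  have h3 : u = g * (g⁻¹ * u * g) * g⁻¹ := by group
  have h4 : g⁻¹ * u * g ∈ B := by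
    rw [hBf]
    exact ⟨h1, h2⟩
  rcases (hB1 _).mp h4 with h | h
  · left
    rw [h3, h, mul_one, mul_inv_cancel]
  · right
    rw [h3, h, comm_c hg, mul_inv_cancel_right]

/-- **(7.3)** -/
theorem seven3 (hW : W7 G) (hP : A7.Pump7 G) (hB : BetaP G) : A7.Seven3 G := by
  intro x a t L T N M i j k l hSp hT hcard hxT htT hij hik hil hjk hjl hkl hx ht htx htφ TN hne hd
  have Tr := hSp.1
  have hCn := Star.normal7 hP hB x a L M Tr
  have htC : t ∈ centralizer ({a} : Set G) := hT.le htT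
  have hta : t * a = a * t := comm_c htC
  have htt := sq_of_order ht
  have hxx := sq_of_order Tr.invx
  have htL := hCn htC
  have hxL := Tr.x_mem
  have T' := Star.T7.of_lab Tr M
  -- `s = t x`
  have hsφ : M.φ (t * x) = swap k l := by
    rw [M.mul _ _ htL hxL, htφ, hx, ← mul_assoc, swap_mul_self, one_mul]
  have hss : t * x * (t * x) = 1 := by
    calc t * x * (t * x) = t * (x * t) * x := by group
      _ = t * (t * x) * x := by rw [← htx]
      _ = (t * t) * (x * x) := by group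
      _ = 1 := by rw [htt, hxx, one_mul]
  have hs1 : t * x ≠ 1 := by
    intro h1
    rw [h1, M.one] at hsφ
    have h2 := congrArg (fun σ : Perm (Fin 7) => σ k) hsφ
    simp only [Perm.one_apply, swap_apply_left] at h2
    exact hkl h2
  have hs2 : orderOf (t * x) = 2 := orderOf_eq_prime (by rw [pow_two]; exact hss) hs1
  have hsa : t * x * a = a * (t * x) := by
    rw [mul_assoc, ← Tr.comm, ← mul_assoc, hta, mul_assoc]
  have hsx : t * x * x = x * (t * x) := by rw [htx, mul_assoc, ← htx]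
  have hsL : t * x ∈ normalizer (L : Set G) := mul_mem htL hxL
  have hx' : M.φ x = swap k l * swap i j := by
    have h6 : Perm.Disjoint (swap i j) (swap k l) := by
      intro r
      by_cases h7 : r = i
      · right; rw [h7]; exact swap_apply_of_ne_of_ne hik hil
      · by_cases h8 : r = j
        · right; rw [h8]; exact swap_apply_of_ne_of_ne hjk hjl
        · left; exact swap_apply_of_ne_of_ne h7 h8
    rw [hx, h6.commute.eq]
  obtain ⟨d, hd1, hd2, hd3, hd4, hd5, hd6⟩ := SevenZero.exists_d M Tr hx' hkl hik.symm hjk.symm hil.symm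
    hjl.symm hs2 hsa hsx hsL hsφ
  obtain ⟨y, hy1, hy2, hy3⟩ := SevenZero.exists_y M Tr hx' hkl hik.symm hjk.symm hil.symm
    hjl.symm hij hs2 hsa hsx hsL hsφ hd1 hd3 hd4 hd5 hd6
  have hs5 : (fixIn (Finset.univ : Finset (Fin 7)) (M.φ (t * x))).card = 5 := by
    rw [hsφ]
    exact SevenZero.card_fix_swap hkl
  have ht5 : (fixIn (Finset.univ : Finset (Fin 7)) (M.φ t)).card = 5 := by
    rw [htφ]
    exact SevenZero.card_fix_swap hij
  exact Dg.false_of_diag (world hW hP hB x) Tr M (by simp) hCn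
    (fun u h1 h2 h3 => inv_fix Tr.inva T'.fixes_a hCn hT hcard h1 h2 h3) htt hta htx ht5 hs5 TN.comp hne hd
    ⟨y, hy1, hy2, fun h => hy3 ((SevenZero.cmp_core_iff M hsL hss hs5 hy2).mpr h)⟩

end Cfsg.Agent.UGT.A7.Seven3
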