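import Cfsg.Agent.UGT.A7.Assembly
import Cfsg.Agent.UGT.A7.PumpPlug
import Cfsg.Agent.UGT.A7.SevenZero
import Cfsg.Agent.UGT.A7.Seven3
import Cfsg.Agent.UGT.A7.RankFrame
import Cfsg.Agent.UGT.Nodes
import Cfsg.Agent.UGT.InUList

/-!
# N6: no triple of type `A₇`

* `exitQ`: the case of `Q` with one involution and `|Q| ≥ 4`.
* `nodeA7_of_beta`: (beta') in the world `W7` gives the node `NodeA7'`.
-/

set_option autoImplicit false
set_option linter.unusedSectionVars false

open Cfsg Subgroup Equiv Equiv.Perm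
open Cfsg.Agent.UAlt
open Cfsg.Agent.SignalizersComponents Cfsg.Agent.Lib
open Cfsg.Agent.SignalizersComponents.IntrinsicBasic
open Cfsg.Agent.Intrinsic.Basic Cfsg.Agent.Intrinsic.Cen Cfsg.Agent.Intrinsic.Diag
open Cfsg.Agent.UGT.Triple Cfsg.Agent.UGT.TriBase
open Cfsg.Agent.UGT.Iface (Bar IsInner IsL2 IsAlt MinCex)
open Cfsg.Agent.UGT.InUList (PK4 Excl K4End)

namespace Cfsg.Agent.UGT.A7

universe u

variable {G : Type u} [Group G] [Finite G] {x a : G} {L : Subgroup G}

/-- the type of a labelled 2-component -/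
theorem isAlt_of_lab (M : Lab L) : IsAlt 7 (Bar L) :=
  ⟨M.quotEquiv.trans ((altEquiv _).trans (MulEquiv.subgroupCongr alt_univ))⟩

theorem center_bar (M : Lab L) : center (Bar L) = ⊥ := by
  obtain ⟨e⟩ := isAlt_of_lab M
  rw [eq_bot_iff]
  intro z hz
  have h1 : e z ∈ center (alternatingGroup (Fin 7)) := by
    rw [mem_center_iff] at hz ⊢
    intro g
    obtain ⟨y, rfl⟩ := e.surjective g
    rw [← map_mul, ← map_mul, hz y]
  rw [alternatingGroup.center_eq_bot (by rw [Nat.card_eq_fintype_card, Fintype.card_fin]; decide),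
    mem_bot] at h1
  rw [mem_bot]
  exact e.injective (by rw [h1, map_one])

/-- **`m₂(Q) = 1`, `|Q| ≥ 4`** -/
theorem exitQ (hG : MinCex G) (hr : ¬ SectionalPRankLE 2 4 ↥(generalizedFittingSubgroup G))
    (hNor : Normal7 G) : ExitQ G := by
  intro x a L T M hs hT h1 h4
  have hL := hs.1.comp
  have hn := hNor x a L M hs.1
  have hZ := center_bar M
  have hT' : Walter.SylowIn.SylIn 2 T (centralizer ({a} : Set G)) := hT.exists_sylow
  have hf : T ⊓ GH.L2Frame.fix L = fix T L := by
    ext q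
    rw [mem_inf, GH.L2Frame.mem_fix]
    exact mem_fix.symm
  obtain ⟨A, _, d, r, c, o1, o2, F⟩ := GH.L2One.HasData.frame hs.1.inva
    ⟨hL, RankFrame.not_evenCenter hZ, hT.le.trans hn, hT'⟩ hn
    (RankFrame.hasData hZ (Or.inr (isAlt_of_lab M)))
    (by rw [hf]; exact h1) (by rw [hf]; exact h4)
  exact RankFrame.rank_of_frame (RankFrame.odd_of_minCex hG hr) (RankFrame.center_of_minCex hG) F

/-- **N6 for one group** -/
theorem false_of_triple (hG : MinCex G) (hr : ¬ SectionalPRankLE 2 4 ↥(generalizedFittingSubgroup G))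
    (hW : W7 G) (hB : Mu.BetaP G) (M : Lab L) (hT : IsTriple x a L) : False := by
  have hP := PumpPlug.pump7_of hW
  have hNor := Star.normal7 hP hB
  exact hr (GH.Rank.of_subgroup (rank_of_triple hNor (Star.pumpNoDiag hP hB) (Star.nonSpecial hP hB)
    (Star.betaRank hP hB) (Star.star hP hB) (exitQ hG hr hNor) (SevenZero.seven0 hW)
    (Seven3.seven3 hW hP hB) M hT) _)

/-- **N6**: (beta') in the world `W7` gives the node. -/
theorem nodeA7_of_beta (k4 : PK4.{u}) (hE : Excl.{u} K4End)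
    (hB : ∀ (G : Type u) [Group G] [Finite G], MinCex G →
      ¬ SectionalPRankLE 2 4 ↥(generalizedFittingSubgroup G) → W7 G → Mu.BetaP G) :
    Nodes.NodeA7'.{u} := by
  intro G _ _ hG hW x a L hT hA
  have hr := InUList.rank_fs k4 hE hG
  obtain ⟨M⟩ := AltType.mod_of_card (K := L) (m := 7) hA (S := (Finset.univ : Finset (Fin 7)))
    (by rw [Finset.card_univ, Fintype.card_fin]) (by omega)
  exact false_of_triple hG hr hW (hB G hG hr hW) M hT

end Cfsg.Agent.UGT.A7
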