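import Cfsg.Agent.UGT.A7.MaxRank
import Cfsg.Agent.S1232
import Cfsg.Agent.S1235

/-!
# Lemma D, the abelian cases
-/

set_option autoImplicit false
set_option linter.unusedSectionVars false

namespace Cfsg.Agent.UGT.A7

open Subgroup Cfsg Cfsg.Agent.TwoFusion.SectionalRank
open Cfsg.Agent.UGT.TriBase

variable {G : Type*} [Group G] [Finite G] {T P R : Subgroup G} {z c : G}

/-- `T ∈ Syl₂(C(c))` with a self-centralizing `E₈` containing `c`. -/
theorem rank_of_E8 {E : Subgroup G} (hT : IsSyl (centralizer ({c} : Set G)) T) (hE : E ≤ T) (hcE : c ∈ E)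
    (hE8 : Nat.card E = 8) (hE2 : ∀ e ∈ E, e * e = 1) (hEc : ∀ t ∈ T, (∀ e ∈ E, t * e = e * t) → t ∈ E) :
    SectionalPRankLE 2 4 G := by
  have : Fact (Nat.Prime 2) := ⟨Nat.prime_two⟩
  obtain ⟨S, hTS⟩ := exists_sylow_ge hT.two
  apply sectionalPRankLE_of_sylow S
  have hES : E ≤ (S : Subgroup G) := hE.trans hTS
  have hcomm : ∀ e ∈ E, ∀ f ∈ E, e * f = f * e := by
    intro e he f hf
    have h1 := hE2 _ (E.mul_mem he hf)
    have h2 := hE2 e he
    have h3 := hE2 f hf
    have h4 : e⁻¹ = e := inv_eq_of_mul_eq_one_left h2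
    have h5 : f⁻¹ = f := inv_eq_of_mul_eq_one_left h3
    have h6 : (e * f)⁻¹ = e * f := inv_eq_of_mul_eq_one_left h1
    rw [mul_inv_rev, h4, h5] at h6
    exact h6.symm
  refine S1232.result S.isPGroup' (E.subgroupOf S) ⟨⟨⟨?_⟩⟩, ?_⟩ ?_ ?_
  · rintro ⟨⟨e, he⟩, he'⟩ ⟨⟨f, hf⟩, hf'⟩
    apply Subtype.ext
    apply Subtype.ext
    exact hcomm e he' f hf'
  · rintro ⟨e, he⟩ he'
    rw [pow_two]
    exact Subtype.ext (hE2 e he')
  · rw [Nat.card_congr (subgroupOfEquivOfLe hES).toEquiv, hE8]
  · apply le_antisymm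
    · rintro ⟨s, hs⟩ hs'
      rw [mem_centralizer_iff] at hs'
      have h1 : ∀ e ∈ E, s * e = e * s := fun e he =>
        (congrArg Subtype.val (hs' ⟨e, hES he⟩ he)).symm
      refine hEc s ?_ h1
      refine mem_of_fix hT S.isPGroup' hTS hs ?_
      rw [mem_centralizer_singleton_iff]
      exact h1 c hcE
    · rintro ⟨e, he⟩ he'
      rw [mem_centralizer_iff]
      rintro ⟨f, hf⟩ hf'
      exact Subtype.ext (hcomm f hf' e he')

/-- **Lemma D1**: `T = P × ⟨c⟩ ∈ Syl₂(C(c))`, `P` of order 8 with an involution `v ≠ z`. -/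
theorem rank_of_D1 (hT : IsSyl (centralizer ({c} : Set G)) T) (hP : EightS P z) (h : TwoP T P R)
    (hR : ∀ r ∈ R, r = 1 ∨ r = c) (hc : c ∈ R) (hcc : c * c = 1) (hc1 : c ≠ 1) {v : G} (hv : v ∈ P)
    (hvv : v * v = 1) (hv1 : v ≠ 1) (hvz : v ≠ z) : SectionalPRankLE 2 4 G := by
  have hcT : ∀ t ∈ T, c * t = t * c := fun t ht => (mem_centralizer_singleton_iff.1 (hT.le ht)).symm
  obtain ⟨w, hw, hvw⟩ : ∃ w ∈ P, v * w ≠ w * v := by
    by_contra hcon
    push Not at hcon
    rcases hP.cen' v hv hcon with h1 | h1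
    · exact hv1 h1
    · exact hvz h1
  -- `C_P(v) = {1, v, z, v z}`
  obtain ⟨V, hV⟩ : ∃ V : Subgroup G, V = P ⊓ centralizer ({v} : Set G) := ⟨_, rfl⟩
  have hVP : V ≤ P := hV ▸ inf_le_left
  have hVset : (V : Set G) = {1, v, z, v * z} := by
    symm
    apply Set.eq_of_subset_of_ncard_le
    · intro t ht
      simp only [Set.mem_insert_iff, Set.mem_singleton_iff] at ht
      rw [SetLike.mem_coe, hV, mem_inf, mem_centralizer_singleton_iff]
      rcases ht with rfl | rfl | rfl | rfl
      · exact ⟨P.one_mem, by rw [one_mul, mul_one]⟩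
      · exact ⟨hv, rfl⟩
      · exact ⟨hP.mem, hP.cen v hv⟩
      · exact ⟨P.mul_mem hv hP.mem, by rw [mul_assoc, hP.cen v hv]⟩
    · have h1 : (V : Set G).ncard = Nat.card V := rfl
      rw [h1]
      have h2 := card_cases hP.card hVP
      have h3 : Nat.card V ≠ 8 := by
        intro h8
        have h4 : V = P := eq_of_le_of_card_ge hVP (by rw [hP.card, h8])
        have h5 : w ∈ V := h4 ▸ hw
        rw [hV, mem_inf, mem_centralizer_singleton_iff] at h5
        exact hvw h5.2.symm
      have h4 : v * z ≠ 1 := fun h5 => hvz (by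
        rw [eq_inv_of_mul_eq_one_left h5, inv_eq_of_mul_eq_one_right hP.sq])
      have h5 : v * z ≠ v := fun h6 => hP.ne (mul_eq_left.1 h6)
      have h6 : v * z ≠ z := fun h6 => hv1 (mul_eq_right.1 h6)
      rw [Set.ncard_insert_of_notMem, Set.ncard_insert_of_notMem, Set.ncard_insert_of_notMem,
        Set.ncard_singleton]
      · omega
      · simpa using h6.symm
      · simp only [Set.mem_insert_iff, Set.mem_singleton_iff, not_or]
        exact ⟨hvz, h5.symm⟩
      · simp only [Set.mem_insert_iff, Set.mem_singleton_iff, not_or]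
        exact ⟨hv1.symm, hP.ne.symm, h4.symm⟩
    · exact Set.toFinite _
  have hVin : ∀ t ∈ P, t * v = v * t → t ∈ V := fun t ht h1 => by
    rw [hV, mem_inf, mem_centralizer_singleton_iff]
    exact ⟨ht, h1⟩
  have hV2 : ∀ e ∈ V, e * e = 1 := by
    intro e he
    have he' : e ∈ (V : Set G) := he
    rw [hVset] at he'
    simp only [Set.mem_insert_iff, Set.mem_singleton_iff] at he'
    rcases he' with rfl | rfl | rfl | rfl
    · exact mul_one 1
    · exact hvv
    · exact hP.sq
    · calc v * z * (v * z) = v * (z * v) * z := by group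
        _ = v * (v * z) * z := by rw [hP.cen v hv]
        _ = (v * v) * (z * z) := by group
        _ = 1 := by rw [hvv, hP.sq, one_mul]
  have hV4 : Nat.card V = 4 := by
    have h1 : (V : Set G).ncard = Nat.card V := rfl
    have h2 := card_cases hP.card hVP
    have h3 : Nat.card V ≠ 8 := by
      intro h8
      have h4 : V = P := eq_of_le_of_card_ge hVP (by rw [hP.card, h8])
      have h5 : w ∈ V := h4 ▸ hw
      rw [hV, mem_inf, mem_centralizer_singleton_iff] at h5
      exact hvw h5.2.symm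
    have h4 : v * z ≠ 1 := fun h5 => hvz (by
      rw [eq_inv_of_mul_eq_one_left h5, inv_eq_of_mul_eq_one_right hP.sq])
    have h5 : v * z ≠ v := fun h6 => hP.ne (mul_eq_left.1 h6)
    have h6 : v * z ≠ z := fun h6 => hv1 (mul_eq_right.1 h6)
    rw [hVset, Set.ncard_insert_of_notMem, Set.ncard_insert_of_notMem, Set.ncard_insert_of_notMem,
      Set.ncard_singleton] at h1
    · exact h1.symm
    · simpa using h6.symm
    · simp only [Set.mem_insert_iff, Set.mem_singleton_iff, not_or]
      exact ⟨hvz, h5.symm⟩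
    · simp only [Set.mem_insert_iff, Set.mem_singleton_iff, not_or]
      exact ⟨hv1.symm, hP.ne.symm, h4.symm⟩
  -- `E = V × R`
  have hVcomm : ∀ e ∈ V, ∀ f ∈ V, e * f = f * e := by
    intro e he f hf
    have h1 := hV2 _ (V.mul_mem he hf)
    have h4 : e⁻¹ = e := inv_eq_of_mul_eq_one_left (hV2 e he)
    have h5 : f⁻¹ = f := inv_eq_of_mul_eq_one_left (hV2 f hf)
    have h6 : (e * f)⁻¹ = e * f := inv_eq_of_mul_eq_one_left h1
    rw [mul_inv_rev, h4, h5] at h6
    exact h6.symm
  have hRcomm : ∀ e ∈ R, ∀ t ∈ T, e * t = t * e := by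
    intro e he t ht
    rcases hR e he with rfl | rfl
    · rw [one_mul, mul_one]
    · exact hcT t ht
  obtain ⟨E, hE⟩ : ∃ E : Subgroup G, ∀ g, g ∈ E ↔ ∃ e ∈ V, ∃ r ∈ R, g = e * r := by
    refine ⟨{ carrier := {g | ∃ e ∈ V, ∃ r ∈ R, g = e * r}
              mul_mem' := ?_
              one_mem' := ⟨1, V.one_mem, 1, R.one_mem, (mul_one 1).symm⟩
              inv_mem' := ?_ }, fun g => Iff.rfl⟩
    · rintro _ _ ⟨e, he, r, hr, rfl⟩ ⟨f, hf, s, hs, rfl⟩
      refine ⟨e * f, V.mul_mem he hf, r * s, R.mul_mem hr hs, ?_⟩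
      have h1 := hRcomm r hr f (h.PT (hVP hf))
      calc e * r * (f * s) = e * (r * f) * s := by group
        _ = e * (f * r) * s := by rw [h1]
        _ = _ := by group
    · rintro _ ⟨e, he, r, hr, rfl⟩
      refine ⟨e⁻¹, V.inv_mem he, r⁻¹, R.inv_mem hr, ?_⟩
      rw [mul_inv_rev]
      exact hRcomm r⁻¹ (R.inv_mem hr) e⁻¹ (h.PT (hVP (V.inv_mem he)))
  have hTwo : TwoP E V R :=
    { PT := fun e he => (hE e).2 ⟨e, he, 1, R.one_mem, (mul_one e).symm⟩
      RT := fun r hr => (hE r).2 ⟨1, V.one_mem, r, hr, (one_mul r).symm⟩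
      sup := fun t ht => (hE t).1 ht
      comm := fun e he r hr => h.comm e (hVP he) r hr
      inf := fun e he heR => h.inf e (hVP he) heR }
  have hR2 : Nat.card R = 2 := by
    have h1 : (R : Set G).ncard = Nat.card R := rfl
    have h2 : (R : Set G) = {1, c} := by
      ext r
      simp only [Set.mem_insert_iff, Set.mem_singleton_iff]
      constructor
      · exact hR r
      · rintro (rfl | rfl)
        · exact R.one_mem
        · exact hc
    rw [h2, Set.ncard_pair hc1.symm] at h1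
    exact h1.symm
  refine rank_of_E8 (E := E) hT ?_ (hTwo.RT hc) ?_ ?_ ?_
  · intro e he
    obtain ⟨f, hf, r, hr, rfl⟩ := (hE e).1 he
    exact T.mul_mem (h.PT (hVP hf)) (h.RT hr)
  · rw [hTwo.card, hV4, hR2]
  · intro e he
    obtain ⟨f, hf, r, hr, rfl⟩ := (hE e).1 he
    have h1 := hRcomm r hr f (h.PT (hVP hf))
    have h2 : r * r = 1 := by
      rcases hR r hr with rfl | rfl
      · exact mul_one 1
      · exact hcc
    calc f * r * (f * r) = f * (r * f) * r := by group
      _ = f * (f * r) * r := by rw [h1]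
      _ = (f * f) * (r * r) := by group
      _ = 1 := by rw [hV2 f hf, h2, one_mul]
  · intro t ht hte
    obtain ⟨p, hp, r, hr, rfl⟩ := h.sup t ht
    refine (hE _).2 ⟨p, ?_, r, hr, rfl⟩
    apply hVin p hp
    have h1 := hte v (hTwo.PT (hVin v hv rfl))
    have h2 := hRcomm r hr v (h.PT hv)
    have h3 : p * v * r = v * p * r := by
      calc p * v * r = p * (v * r) := by group
        _ = p * (r * v) := by rw [h2]
        _ = p * r * v := by group
        _ = v * (p * r) := h1
        _ = _ := by group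
    exact mul_right_cancel h3

/-- **Lemma D2**: `T = P × R ∈ Syl₂(C(c))`, `R` cyclic of order 4. -/
theorem rank_of_D2 (hT : IsSyl (centralizer ({c} : Set G)) T) (hP : EightS P z) (h : TwoP T P R)
    (hR4 : Nat.card R = 4) (hR : ∀ r ∈ R, r * r = 1 ∨ r * r = c) (hc1 : c ≠ 1) {w : G} (hw : w ∈ R)
    (hwc : w * w = c) : SectionalPRankLE 2 4 G := by
  have : Fact (Nat.Prime 2) := ⟨Nat.prime_two⟩
  have hRc : ∀ r ∈ R, ∀ s ∈ R, r * s = s * r := by
    have h1 : Nat.card R = 2 ^ 2 := by rw [hR4]; norm_num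
    have h2 := IsPGroup.isMulCommutative_of_card_eq_prime_sq (p := 2) h1
    intro r hr s hs
    exact congrArg Subtype.val (h2.is_comm.comm (⟨r, hr⟩ : ↥R) ⟨s, hs⟩)
  have hwT : ∀ t ∈ T, w * t = t * w := by
    intro t ht
    obtain ⟨p, hp, r, hr, rfl⟩ := h.sup t ht
    calc w * (p * r) = (w * p) * r := by group
      _ = (p * w) * r := by rw [h.comm p hp w hw]
      _ = p * (w * r) := by group
      _ = p * (r * w) := by rw [hRc w hw r hr]
      _ = _ := by group
  have hfix : ∀ g : G, (∀ t ∈ T, g * t * g⁻¹ ∈ T) → g * c * g⁻¹ = c := by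
    intro g hg
    have hgn : g ∈ normalizer (T : Set G) := mem_normalizer_fintype hg
    have h1 : ∀ t ∈ T, (g * w * g⁻¹) * t = t * (g * w * g⁻¹) := by
      intro t ht
      have h2 : g⁻¹ * t * g ∈ T := (mem_normalizer_iff''.1 hgn t).1 ht
      have h3 := hwT _ h2
      calc (g * w * g⁻¹) * t = g * (w * (g⁻¹ * t * g)) * g⁻¹ := by group
        _ = g * ((g⁻¹ * t * g) * w) * g⁻¹ := by rw [h3]
        _ = _ := by group
    obtain ⟨p, hp, r, hr, hpr⟩ := h.sup _ (hg w (h.RT hw))
    have h2 : p = 1 ∨ p = z := by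
      refine hP.cen' p hp fun q hq => ?_
      have h3 := h1 q (h.PT hq)
      rw [hpr] at h3
      have h4 : p * q * r = q * p * r := by
        calc p * q * r = p * (q * r) := by group
          _ = p * (r * q) := by rw [h.comm q hq r hr]
          _ = p * r * q := by group
          _ = q * (p * r) := h3
          _ = _ := by group
      exact mul_right_cancel h4
    have hpp : p * p = 1 := by
      rcases h2 with rfl | rfl
      · exact mul_one 1
      · exact hP.sq
    have h3 : g * c * g⁻¹ = r * r := by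
      calc g * c * g⁻¹ = (g * w * g⁻¹) * (g * w * g⁻¹) := by rw [← hwc]; group
        _ = (p * r) * (p * r) := by rw [hpr]
        _ = p * (r * p) * r := by group
        _ = p * (p * r) * r := by rw [h.comm p hp r hr]
        _ = (p * p) * (r * r) := by group
        _ = r * r := by rw [hpp, one_mul]
    rcases hR r hr with h4 | h4
    · exfalso
      apply hc1
      rw [h4] at h3
      have h6 : g * c = g := by
        calc g * c = (g * c * g⁻¹) * g := by group
          _ = g := by rw [h3, one_mul]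
      exact mul_eq_left.1 h6
    · rw [h3, h4]
  obtain ⟨S, hTS⟩ := exists_sylow_ge hT.two
  apply sectionalPRankLE_of_sylow S
  rw [sylow_of_fix hT hfix S hTS]
  exact h.rank (b := 2) hP.rank (sectionalPRankLE_of_card_le (by rw [hR4]; norm_num))

/-- the index of a maximal 2-subgroup is odd -/
theorem odd_relIndex_of_isSyl {E T : Subgroup G} (h : IsSyl E T) : Odd (T.relIndex E) := by
  have : Fact (Nat.Prime 2) := ⟨Nat.prime_two⟩
  obtain ⟨Q, hQ⟩ := h.exists_sylow
  have h1 : T.subgroupOf E = (Q : Subgroup ↥E) := by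
    rw [← hQ]
    exact comap_map_eq_self_of_injective E.subtype_injective _
  rw [relIndex, h1, ← Nat.not_even_iff_odd, even_iff_two_dvd]
  exact Q.not_dvd_index

/-- **`T = P × B`, `P` dihedral of order 8, `B` a four-group, `T ∈ Syl₂(C(b))` for `b ∈ B`, `b ≠ 1`.** -/
theorem rank_of_klein {B : Subgroup G} (h : TwoP T P B) (e : Nonempty (↥P ≃* DihedralGroup 4))
    (hB4 : Nat.card B = 4) (hB2 : ∀ b ∈ B, b * b = 1)
    (hT : ∀ b ∈ B, b ≠ 1 → IsSyl (centralizer ({b} : Set G)) T) : SectionalPRankLE 2 4 G := by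
  obtain ⟨b, hb, hb1⟩ : ∃ b ∈ B, b ≠ 1 := by
    by_contra hcon
    push Not at hcon
    have h1 : B = ⊥ := (eq_bot_iff_forall B).2 hcon
    rw [h1, card_bot] at hB4
    omega
  have hord : ∀ b ∈ B, b ≠ 1 → orderOf b = 2 := fun b hb hb1 =>
    orderOf_eq_prime (by rw [pow_two, hB2 b hb]) hb1
  have hTb := hT b hb hb1
  refine S1235.result b (hord b hb hb1) T P B hTb.two hTb.le (odd_relIndex_of_isSyl hTb) ?_
    (Or.inl ⟨4, by norm_num, e⟩) ?_ ?_
  · refine ⟨h.PT, h.RT, h.comm, ?_, ?_⟩
    · rw [eq_bot_iff]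
      intro p hp
      exact h.inf p hp.1 hp.2
    · apply le_antisymm (sup_le h.PT h.RT)
      intro t ht
      obtain ⟨p, hp, r, hr, rfl⟩ := h.sup t ht
      exact mul_mem (mem_sup_left hp) (mem_sup_right hr)
  · refine ⟨hB4, ?_⟩
    have hnt : Nontrivial ↥B := by
      rw [← Finite.one_lt_card_iff_nontrivial, hB4]; norm_num
    have h1 : Monoid.exponent ↥B ∣ 2 := by
      rw [Monoid.exponent_dvd_iff_forall_pow_eq_one]
      intro g
      rw [pow_two]
      exact Subtype.ext (hB2 g g.2)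
    rcases (Nat.dvd_prime Nat.prime_two).1 h1 with h2 | h2
    · exfalso
      have h3 := Monoid.exp_eq_one_iff.1 h2
      exact (not_subsingleton ↥B) h3
    · exact h2
  · intro b hb hb2
    have hb1 : b ≠ 1 := by
      rintro rfl
      rw [orderOf_one] at hb2
      omega
    exact ⟨(hT b hb hb1).le, odd_relIndex_of_isSyl (hT b hb hb1)⟩

end Cfsg.Agent.UGT.A7
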