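import Cfsg.Agent.UGT.A7.Frame7

/-!
# Sections (5) and (7), first part: `|C_T(L / O(L))| = 4`, and `T = P × ⟨a, w⟩` in the remaining case
-/

set_option autoImplicit false
set_option linter.unusedSectionVars false

open Cfsg Subgroup Equiv Equiv.Perm
open Cfsg.Agent.UAlt
open Cfsg.Agent.SignalizersComponents Cfsg.Agent.Lib
open Cfsg.Agent.SignalizersComponents.IntrinsicBasic
open Cfsg.Agent.Intrinsic.Basic Cfsg.Agent.Intrinsic.Cen Cfsg.Agent.Intrinsic.Diag
open Cfsg.Agent.UGT.Triple Cfsg.Agent.UGT.TriBase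

namespace Cfsg.Agent.UGT.A7

universe u

variable {G : Type u} [Group G]

/-- two cosets -/
theorem card_two [Finite G] {A B : Subgroup G} (hAB : A ≤ B) {w : G} (hw : w ∈ B) (hwA : w ∉ A)
    (h : ∀ b ∈ B, b ∉ A → b * w ∈ A) : Nat.card B = 2 * Nat.card A := by
  have h1 : (A.subgroupOf B).index = 2 := by
    rw [index_eq_two_iff]
    refine ⟨⟨w, hw⟩, ?_⟩
    rintro ⟨b, hb⟩
    by_cases hbA : b ∈ A
    · refine Or.inr ⟨hbA, fun h2 => hwA ?_⟩
      have h3 : b * w ∈ A := h2
      have h4 := A.mul_mem (A.inv_mem hbA) h3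
      rwa [inv_mul_cancel_left] at h4
    · exact Or.inl ⟨h b hb hbA, hbA⟩
  have h2 := (A.subgroupOf B).card_mul_index
  rw [h1, Nat.card_congr (subgroupOfEquivOfLe hAB).toEquiv] at h2
  omega

/-- a noncommuting pair -/
theorem exists_noncomm {P : Subgroup G} {z : G} (h : EightS P z) : ∃ p ∈ P, ∃ q ∈ P, p * q ≠ q * p := h.nab

variable [Finite G] {x a : G} {L T : Subgroup G} {M : Lab L}

namespace Fr7

variable (F : Fr7 a L T M)

include F

theorem w0w0 : w0 * w0 = 1 := by decide

/-- `Q* = Q` -/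
theorem Qs_eq (h : ∀ w ∈ Qs T L M F.TN, M.φ w ≠ w0) : Qs T L M F.TN = fix T L := by
  refine le_antisymm (fun w hw => ?_) F.fix_le_Qs
  obtain ⟨h1, h2⟩ := mem_Qs.1 hw
  rw [F.fix_iff h1]
  exact h2.resolve_right (h w hw)

/-- `|Q* : Q| = 2` -/
theorem card_Qs {w : G} (hw : w ∈ Qs T L M F.TN) (hφ : M.φ w = w0) :
    Nat.card ↥(Qs T L M F.TN) = 2 * Nat.card ↥(fix T L) := by
  have hww : w0 * w0 = 1 := by decide
  have hw1 : w0 ≠ 1 := by decide
  refine card_two F.fix_le_Qs hw ?_ ?_
  · rw [F.fix_iff (mem_Qs.1 hw).1, hφ]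
    exact hw1
  · intro b hb hbA
    obtain ⟨h1, h2⟩ := mem_Qs.1 hb
    rw [F.fix_iff h1] at hbA
    have h3 := (mem_Qs.1 hw).1
    rw [F.fix_iff (T.mul_mem h1 h3), M.mul _ _ (F.TN h1) (F.TN h3), h2.resolve_left hbA, hφ, hww]

theorem a_mem_fix : a ∈ fix T L := ⟨F.aT, F.fixes_a⟩

theorem a_mem_Qs : a ∈ Qs T L M F.TN := F.fix_le_Qs F.a_mem_fix

end Fr7

/-- labels for elements acting on both sides of a trivial pump-up -/
theorem fixes_up {c : G} {N : Subgroup G} (M : Lab L) (M' : Lab N) (hT : IsTriple x a L)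
    (hc : orderOf c = 2) (hca : c * a = a * c) (hcL : Fixes c L) (hN : IsTriple x c N)
    (hle : cen L c ≤ N) {q : G} (hq : Fixes q L) (hqc : q * c = c * q) : Fixes q N := by
  have hcc := sq_of_order hc
  exact Mu.fixes_of_triv hT.comp hcc hca hcL hN.comp (Mu.sup_of_le hT.comp hcc hca hcL hle M M') hq hqc

/-- (5), the pump-up: `T` is a Sylow 2-subgroup of `C(y)` or the rank is at most 4. -/
theorem pump_syl (hNor : Normal7 G) (hP : PumpNoDiag G) (F : Fr7 a L T M) (hT : IsTriple x a L)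
    (hQ : Qs T L M F.TN = fix T L) (hQ2 : ∀ q ∈ fix T L, q * q = 1)
    (hQ4 : Nat.card ↥(fix T L) = 4) {y : G} (hy : y ∈ fix T L) (hy1 : y ≠ 1) (hya : y ≠ a)
    (hyx : y * x = x * y) : IsSyl (centralizer ({y} : Set G)) T ∨ SectionalPRankLE 2 4 G := by
  obtain ⟨z, hz⟩ := F.exists_z
  have hTP := F.twoP
  rw [hQ] at hTP
  have hyy := hQ2 y hy
  have hyo : orderOf y = 2 := orderOf_eq_prime (by rw [pow_two, hyy]) hy1
  have hyT : y ∈ T := hy.1
  have hyL : Fixes y L := hy.2
  have hya' : y * a = a * y := F.a_comm hyT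
  -- `Q` is abelian
  have hQc : ∀ p ∈ fix T L, ∀ q ∈ fix T L, p * q = q * p := by
    intro p hp q hq
    have h1 := hQ2 _ (mul_mem hp hq)
    have h2 : p⁻¹ = p := inv_eq_of_mul_eq_one_left (hQ2 p hp)
    have h3 : q⁻¹ = q := inv_eq_of_mul_eq_one_left (hQ2 q hq)
    have h4 : (p * q)⁻¹ = p * q := inv_eq_of_mul_eq_one_left h1
    rw [mul_inv_rev, h2, h3] at h4
    exact h4.symm
  have hQform : ∀ q ∈ fix T L, q = 1 ∨ q = a ∨ q = y ∨ q = a * y := by
    have h1 : ({1, a, y, a * y} : Set G) ⊆ (fix T L : Set G) := by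
      intro g hg
      simp only [Set.mem_insert_iff, Set.mem_singleton_iff] at hg
      rcases hg with rfl | rfl | rfl | rfl
      · exact one_mem _
      · exact F.a_mem_fix
      · exact hy
      · exact mul_mem F.a_mem_fix hy
    have hay : a * y ≠ 1 := fun h => hya (by
      rw [← inv_eq_of_mul_eq_one_right h, inv_eq_of_mul_eq_one_right F.aa])
    have h2 : ({1, a, y, a * y} : Set G).ncard = 4 := by
      rw [Set.ncard_insert_of_notMem, Set.ncard_insert_of_notMem, Set.ncard_insert_of_notMem,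
        Set.ncard_singleton]
      · simp only [Set.mem_singleton_iff]
        intro h
        exact F.a1 (mul_eq_right.1 h.symm)
      · simp only [Set.mem_insert_iff, Set.mem_singleton_iff, not_or]
        exact ⟨hya.symm, fun h => hy1 (mul_eq_left.1 h.symm)⟩
      · simp only [Set.mem_insert_iff, Set.mem_singleton_iff, not_or]
        exact ⟨F.a1.symm, hy1.symm, hay.symm⟩
    have h3 : ({1, a, y, a * y} : Set G) = (fix T L : Set G) := by
      apply Set.eq_of_subset_of_ncard_le h1 _ (Set.toFinite _)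
      rw [h2]
      exact hQ4.le
    intro q hq
    have h4 : q ∈ ({1, a, y, a * y} : Set G) := by rw [h3]; exact hq
    simpa only [Set.mem_insert_iff, Set.mem_singleton_iff] using h4
  obtain ⟨N, M₁, hN, hlab, hfa, hle⟩ := hP x a y L M hT hyo hya' hyx hyL
  -- `T ≤ C(y)`
  have hTy : T ≤ centralizer ({y} : Set G) := by
    intro t ht
    obtain ⟨p, hp, r, hr, rfl⟩ := hTP.sup t ht
    rw [mem_centralizer_singleton_iff]
    calc p * r * y = p * (r * y) := by group
      _ = p * (y * r) := by rw [hQc r hr y hy]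
      _ = (p * y) * r := by group
      _ = (y * p) * r := by rw [hTP.comm p hp y hy]
      _ = _ := by group
  obtain ⟨T', hT', hTT'⟩ := exists_isSyl F.two hTy
  have hnN : centralizer ({y} : Set G) ≤ normalizer (N : Set G) := hNor x y N M₁ hN
  obtain ⟨M', -, -, F'⟩ := exists_fr7 M₁ hN.comp hnN hT' hyy hy1
  -- `T' ∩ C(a) = T`
  have hTa : ∀ t ∈ T', t * a = a * t → t ∈ T := fun t ht hta =>
    mem_of_fix F.syl hT'.two hTT' ht (mem_centralizer_singleton_iff.2 hta)
  -- `P = T' ∩ N`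
  have hPN : T ⊓ L ≤ T' ⊓ N := by
    refine le_inf (inf_le_left.trans hTT') fun p hp => hle ?_
    obtain ⟨n, hn⟩ := F.two ⟨p, hp.1⟩
    refine mem_cen hp.2 ?_ (n := n) (congrArg Subtype.val hn)
    exact mem_centralizer_singleton_iff.1 (hTy hp.1)
  have hPeq : T ⊓ L = T' ⊓ N := Subgroup.eq_of_le_of_card_ge hPN (by rw [F.P8, F'.P8])
  have hTP' := F'.twoP
  rw [← hPeq] at hTP'
  have hQle : fix T L ≤ Qs T' N M' F'.TN := by
    intro q hq
    refine F'.fix_le_Qs ⟨hTT' hq.1, ?_⟩
    exact fixes_up M M₁ hT hyo hya' hyL hN hle hq.2 (hQc q hq y hy)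
  have hcen : ∀ r ∈ Qs T' N M' F'.TN, r * a = a * r → r = 1 ∨ r = a ∨ r = y ∨ r = a * y := by
    intro r hr hra
    have hrT := hTa r (mem_Qs.1 hr).1 hra
    obtain ⟨p, hp, q, hq, hpq⟩ := hTP.sup r hrT
    have h1 : p ∈ Qs T' N M' F'.TN := by
      have h2 : p = r * q⁻¹ := by rw [hpq]; group
      rw [h2]
      exact mul_mem hr (inv_mem (hQle hq))
    have h2 : p = 1 := hTP'.inf p hp h1
    rw [h2, one_mul] at hpq
    rw [hpq]
    exact hQform q hq
  by_cases hab : ∀ r ∈ Qs T' N M' F'.TN, r * a = a * r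
  · left
    have h1 : T' = T := by
      refine le_antisymm (fun t ht => ?_) hTT'
      obtain ⟨p, hp, r, hr, rfl⟩ := hTP'.sup t ht
      exact T.mul_mem hp.1 (hTa r (mem_Qs.1 hr).1 (hab r hr))
    rwa [h1] at hT'
  · right
    push Not at hab
    exact rank_of_D3 hT' hz hTP' (hQle F.a_mem_fix) F.aa F.a1 (hQle hy) hyy hy1 hya hcen hab

/-- **(5)** -/
theorem four (hNor : Normal7 G) (hP : PumpNoDiag G) (hS : Star G) (F : Fr7 a L T M) (hT : Special x a L)
    (hxT : x ∈ T) (h2 : ∀ q ∈ fix T L, q * q = 1)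
    (h4 : Nat.card ↥(fix T L) = 4) : SectionalPRankLE 2 4 G := by
  obtain ⟨z, hz⟩ := F.exists_z
  have hTP := F.twoP
  by_cases hw : ∃ w ∈ Qs T L M F.TN, M.φ w = w0
  · obtain ⟨w, hw, hφ⟩ := hw
    have h8 : Nat.card ↥(Qs T L M F.TN) = 8 := by rw [F.card_Qs hw hφ, h4]
    by_cases hna : ∃ r ∈ Qs T L M F.TN, ∃ s ∈ Qs T L M F.TN, r * s ≠ s * r
    · obtain ⟨c, hc⟩ := exists_eightS h8 hna
      have h5 : a = c := by
        rcases hc.cen' a F.a_mem_Qs (fun q hq => (F.a_comm (mem_Qs.1 hq).1).symm) with h6 | h6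
        · exact absurd h6 F.a1
        · exact h6
      rw [← h5] at hc
      exact rank_of_eight hz hc hTP F.syl
    · push Not at hna
      exfalso
      refine hS x a L T M hT F.syl h4 h2 w (mem_Qs.1 hw).1 4 5 (by decide) hφ ?_ ?_
      · intro p hp
        exact (F.comm_PQ hp hw).symm
      · intro q hq
        exact hna w hw q (F.fix_le_Qs hq)
  · push Not at hw
    have hQ := F.Qs_eq hw
    rw [hQ] at hTP
    -- `x` commutes with `Q`
    have hxP : x ∈ T ⊓ L ∨ a * x ∈ T ⊓ L := by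
      rcases hT.2 with h1 | h1
      · exact Or.inl ⟨hxT, h1⟩
      · exact Or.inr ⟨T.mul_mem F.aT hxT, h1⟩
    have hyx : ∀ y ∈ fix T L, y * x = x * y := by
      intro y hy
      rcases hxP with h1 | h1
      · exact (hTP.comm x h1 y hy).symm
      · have h3 := hTP.comm _ h1 y hy
        have h5 := F.a_comm hy.1
        have h6 : a * (x * y) = a * (y * x) := by
          calc a * (x * y) = a * x * y := by group
            _ = y * (a * x) := h3
            _ = (y * a) * x := by group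
            _ = (a * y) * x := by rw [h5]
            _ = _ := by group
        exact (mul_left_cancel h6).symm
    by_cases hall : ∀ y ∈ fix T L, y ≠ 1 → IsSyl (centralizer ({y} : Set G)) T
    · exact rank_of_klein hTP F.equivP h4 h2 hall
    · push Not at hall
      obtain ⟨y, hy, hy1, hns⟩ := hall
      have hya : y ≠ a := fun h => hns (h ▸ F.syl)
      rcases pump_syl hNor hP F hT.1 hQ h2 h4 hy hy1 hya (hyx y hy) with h5 | h5
      · exact absurd h5 hns
      · exact h5

/-- the triples with given `a`, `L`: `x` may be conjugated by `C(a)` -/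
theorem Special.conj (hs : Special x a L) (hn : centralizer ({a} : Set G) ≤ normalizer (L : Set G)) {g : G}
    (hg : g ∈ centralizer ({a} : Set G)) : Special (g * x * g⁻¹) a L := by
  have hga : g * a * g⁻¹ = a := by
    rw [mem_centralizer_singleton_iff.1 hg, mul_inv_cancel_right]
  have hgL : cj g L = L := mem_normalizer_iff_cj.mp (hn hg)
  have h1 := hs.1.cj g
  rw [hga, hgL] at h1
  refine ⟨h1, ?_⟩
  have h2 : ∀ y ∈ L, g * y * g⁻¹ ∈ L := fun y hy => (mem_normalizer_iff.1 (hn hg) y).1 hy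
  rcases hs.2 with h | h
  · exact Or.inl (h2 x h)
  · right
    have h3 := h2 _ h
    have h4 : g * (a * x) * g⁻¹ = (g * a * g⁻¹) * (g * x * g⁻¹) := by group
    rwa [h4, hga] at h3

theorem exists_in_T (hNor : Normal7 G) (M : Lab L) (hs : Special x a L)
    (hT : IsSyl (centralizer ({a} : Set G)) T) : ∃ x' ∈ T, Special x' a L := by
  have hxC : x ∈ centralizer ({a} : Set G) := mem_centralizer_singleton_iff.2 hs.1.comm.symm
  have h1 : IsPGroup 2 ↥(zpowers x) := by
    refine IsPGroup.of_card (n := 1) ?_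
    rw [Nat.card_zpowers, hs.1.invx, pow_one]
  obtain ⟨g, hg, h2⟩ := hT.conj h1 (by rwa [zpowers_le])
  have h3 : x ∈ cj g T := h2 (mem_zpowers x)
  rw [mem_cj] at h3
  have hg' := inv_mem hg
  refine ⟨g⁻¹ * x * g⁻¹⁻¹, ?_, hs.conj (hNor x a L M hs.1) hg'⟩
  rwa [inv_inv]

variable (G) in
/-- the case of `Q` with one involution and `|Q| ≥ 4` -/
def ExitQ : Prop := ∀ (x a : G) (L T : Subgroup G) (_ : Lab L), Special x a L →
  IsSyl (centralizer ({a} : Set G)) T → (∀ q ∈ fix T L, q * q = 1 → q = 1 ∨ q = a) →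
  4 ≤ Nat.card ↥(fix T L) → SectionalPRankLE 2 4 G

/-- the remaining case: `T = P × ⟨a, w⟩` -/
structure Sm (a w : G) (L T : Subgroup G) (M : Lab L) : Prop extends Fr7 a L T M where
  fixT : ∀ q ∈ fix T L, q = 1 ∨ q = a
  wT : w ∈ T
  ww : w * w = 1
  φw : M.φ w = w0

namespace Sm

variable {w : G} (S : Sm a w L T M)

include S

theorem w_mem : w ∈ Qs T L M S.toFr7.TN := mem_Qs.2 ⟨S.wT, Or.inr S.φw⟩

theorem card_fix : Nat.card ↥(fix T L) = 2 := by
  have h1 : (fix T L : Set G) = {1, a} := by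
    ext q
    simp only [Set.mem_insert_iff, Set.mem_singleton_iff]
    constructor
    · exact S.fixT q
    · rintro (rfl | rfl)
      · exact one_mem _
      · exact S.toFr7.a_mem_fix
  have h2 : (fix T L : Set G).ncard = Nat.card ↥(fix T L) := rfl
  rw [← h2, h1, Set.ncard_pair S.a1.symm]

theorem card_Qs : Nat.card ↥(Qs T L M S.toFr7.TN) = 4 := by
  rw [S.toFr7.card_Qs S.w_mem S.φw, S.card_fix]

theorem Qs_form : ∀ q ∈ Qs T L M S.toFr7.TN, q = 1 ∨ q = a ∨ q = w ∨ q = a * w := by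
  have hw0 : w0 * w0 = 1 := by decide
  intro q hq
  obtain ⟨h1, h2⟩ := mem_Qs.1 hq
  rcases h2 with h2 | h2
  · rcases S.fixT q ((S.toFr7.fix_iff h1).2 h2 |> fun h => h) with h3 | h3
    · exact Or.inl h3
    · exact Or.inr (Or.inl h3)
  · have h3 : q * w ∈ fix T L := by
      rw [S.toFr7.fix_iff (T.mul_mem h1 S.wT), M.mul _ _ (S.toFr7.TN h1) (S.toFr7.TN S.wT), h2, S.φw, hw0]
    have h4 : q = (q * w) * w := by rw [mul_assoc, S.ww, mul_one]
    rcases S.fixT _ h3 with h5 | h5
    · rw [h5, one_mul] at h4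
      exact Or.inr (Or.inr (Or.inl h4))
    · rw [h5] at h4
      exact Or.inr (Or.inr (Or.inr h4))

theorem wa : w * a = a * w := S.toFr7.a_comm S.wT

theorem Qs_sq : ∀ q ∈ Qs T L M S.toFr7.TN, q * q = 1 := by
  intro q hq
  rcases S.Qs_form q hq with rfl | rfl | rfl | rfl
  · exact mul_one 1
  · exact S.aa
  · exact S.ww
  · calc a * w * (a * w) = a * (w * a) * w := by group
      _ = a * (a * w) * w := by rw [S.wa]
      _ = (a * a) * (w * w) := by group
      _ = 1 := by rw [S.aa, S.ww, one_mul]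

theorem Qs_comm : ∀ p ∈ Qs T L M S.toFr7.TN, ∀ q ∈ Qs T L M S.toFr7.TN, p * q = q * p := by
  intro p hp q hq
  have h1 := S.Qs_sq _ (mul_mem hp hq)
  have h2 : p⁻¹ = p := inv_eq_of_mul_eq_one_left (S.Qs_sq p hp)
  have h3 : q⁻¹ = q := inv_eq_of_mul_eq_one_left (S.Qs_sq q hq)
  have h4 : (p * q)⁻¹ = p * q := inv_eq_of_mul_eq_one_left h1
  rw [mul_inv_rev, h2, h3] at h4
  exact h4.symm

theorem Qs_central : ∀ q ∈ Qs T L M S.toFr7.TN, ∀ t ∈ T, t * q = q * t := by
  intro q hq t ht
  obtain ⟨p, hp, r, hr, rfl⟩ := S.toFr7.twoP.sup t ht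
  calc p * r * q = p * (r * q) := by group
    _ = p * (q * r) := by rw [S.Qs_comm r hr q hq]
    _ = (p * q) * r := by group
    _ = (q * p) * r := by rw [S.toFr7.comm_PQ hp hq]
    _ = _ := by group

theorem card_T : Nat.card ↥T = 32 := by
  rw [S.toFr7.twoP.card, S.card_Qs, S.toFr7.P8]

/-- `w` may be replaced by `a w` -/
theorem other : Sm a (a * w) L T M :=
  { S with
    wT := T.mul_mem S.toFr7.aT S.wT
    ww := by
      calc a * w * (a * w) = a * (w * a) * w := by group
        _ = a * (a * w) * w := by rw [S.wa]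
        _ = (a * a) * (w * w) := by group
        _ = 1 := by rw [S.aa, S.ww, one_mul]
    φw := by rw [M.mul _ _ (S.toFr7.TN S.toFr7.aT) (S.toFr7.TN S.wT), S.toFr7.φa, one_mul, S.φw] }

end Sm

/-- **LEMMA 7\*** -/
theorem small (hNor : Normal7 G) (hP : PumpNoDiag G) (hS : Star G) (hB : BetaRank G) (hE : ExitQ G)
    (F : Fr7 a L T M) (hs : Special x a L) (hxT : x ∈ T) :
    SectionalPRankLE 2 4 G ∨ ∃ w, Sm a w L T M := by
  obtain ⟨z, hz⟩ := F.exists_z
  have hTP := F.twoP
  rcases hB x a L T M hs F.syl with h1 | ⟨h1, h2⟩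
  · by_cases h4 : 4 ≤ Nat.card ↥(fix T L)
    · exact Or.inl (hE x a L T M hs F.syl h1 h4)
    · -- `Q = ⟨a⟩`
      have hfix : ∀ q ∈ fix T L, q = 1 ∨ q = a := by
        intro q hq
        have h2 : IsPGroup 2 ↥(fix T L) := F.two.to_le (fix_le T L)
        have hp : Fact (Nat.Prime 2) := ⟨Nat.prime_two⟩
        obtain ⟨n, hn⟩ := IsPGroup.iff_card.mp h2
        have h3 : n ≤ 1 := by
          by_contra hlt
          apply h4
          rw [hn]
          calc 4 = 2 ^ 2 := by norm_num
            _ ≤ 2 ^ n := Nat.pow_le_pow_right (by norm_num) (by omega)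
        have h5 : Nat.card ↥(fix T L) ∣ 2 := by
          rw [hn]
          calc 2 ^ n ∣ 2 ^ 1 := pow_dvd_pow 2 h3
            _ = 2 := by norm_num
        have h6 : (⟨q, hq⟩ : ↥(fix T L)) ^ 2 = 1 := by
          rw [← orderOf_dvd_iff_pow_eq_one]
          exact (_root_.orderOf_dvd_natCard _).trans h5
        have h7 : q ^ 2 = 1 := congrArg Subtype.val h6
        rw [pow_two] at h7
        exact h1 q hq h7
      obtain ⟨v, hv, hvv, hv1, hvz⟩ := F.exists_v hz
      by_cases hw : ∃ w ∈ Qs T L M F.TN, M.φ w = w0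
      · obtain ⟨w, hw, hφ⟩ := hw
        by_cases hww : w * w = 1
        · exact Or.inr ⟨w, { F with
            fixT := hfix
            wT := (mem_Qs.1 hw).1
            ww := hww
            φw := hφ }⟩
        · left
          have hw0 : w0 * w0 = 1 := by decide
          have hsq : ∀ r ∈ Qs T L M F.TN, r * r = 1 ∨ r * r = a := by
            intro r hr
            obtain ⟨h5, h6⟩ := mem_Qs.1 hr
            apply hfix
            rw [F.fix_iff (T.mul_mem h5 h5), M.mul _ _ (F.TN h5) (F.TN h5)]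
            rcases h6 with h6 | h6 <;> rw [h6]
            · exact mul_one 1
            · exact hw0
          have h2 : Nat.card ↥(fix T L) = 2 := by
            have h5 : (fix T L : Set G) = {1, a} := by
              ext q
              simp only [Set.mem_insert_iff, Set.mem_singleton_iff]
              constructor
              · exact hfix q
              · rintro (rfl | rfl)
                · exact one_mem _
                · exact F.a_mem_fix
            have h6 : (fix T L : Set G).ncard = Nat.card ↥(fix T L) := rfl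
            rw [← h6, h5, Set.ncard_pair F.a1.symm]
          exact rank_of_D2 F.syl hz hTP (by rw [F.card_Qs hw hφ, h2]) hsq F.a1 hw
            ((hsq w hw).resolve_left hww)
      · left
        push Not at hw
        have hQ := F.Qs_eq hw
        rw [hQ] at hTP
        exact rank_of_D1 F.syl hz hTP hfix F.a_mem_fix F.aa F.a1 hv hvv hv1 hvz
  · exact Or.inl (four hNor hP hS F hs hxT h2 h1)

end Cfsg.Agent.UGT.A7
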