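import Mathlib
import Cfsg.Agent.OddHalf.D3.Fus
import Cfsg.Agent.OddHalf.D4.Basic

/-!
# END2: two commuting parts, permuted by a Sylow 2-subgroup, with strongly closed union

`Two S P`: `P false`, `P true` are non-trivial subgroups of the Sylow 2-subgroup `S`, commuting, with trivial
intersection, permuted by `S`, and their union is strongly closed in `S`. `Ker S P` is the kernel of `S` on the parts.
* `isStronglyClosed`: if `2 < |P false|` then `Ker S P` is strongly closed in `S`;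
(`EndTwoS.lean`: `G` is not simple.)
-/

set_option autoImplicit false
set_option linter.style.haveILetI false

namespace Cfsg.Agent.UGT.A7.EndTwo

open Subgroup Cfsg.Agent.Lib.GoldschmidtFusion
open Cfsg.Agent.OddHalf.D3.Fus (exists_fix orderOf_eq_two_of_sq sq_of_orderOf ne_one_of_orderOf)
open Cfsg.Agent.OddHalf.D4.Basic

variable {G : Type*} [Group G]

/-! ### Elementary lemmas -/

/-- two involutions whose product is a 2-element generate a 2-group -/
theorem isPGroup_pair {t s : G} (ht : t * t = 1) (hs : s * s = 1) {l : ℕ} (h : (t * s) ^ 2 ^ l = 1) :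
    IsPGroup 2 (zpowers t ⊔ zpowers (t * s) : Subgroup G) := by
  have htinv : t⁻¹ = t := inv_eq_of_mul_eq_one_left ht
  have hsinv : s⁻¹ = s := inv_eq_of_mul_eq_one_left hs
  have hconj : t * (t * s) * t⁻¹ = (t * s)⁻¹ := by
    rw [mul_inv_rev, hsinv, htinv]
    calc t * (t * s) * t = (t * t) * s * t := by group
      _ = s * t := by rw [ht, one_mul]
  have h1 : IsPGroup 2 (zpowers (t * s)) := by
    rintro ⟨x, hx⟩
    obtain ⟨k, rfl⟩ := mem_zpowers_iff.mp hx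
    refine ⟨l, Subtype.ext ?_⟩
    change ((t * s) ^ k) ^ (2 ^ l) = 1
    rw [← zpow_natCast, ← zpow_mul, mul_comm, zpow_mul, zpow_natCast, h, one_zpow]
  have h2 : IsPGroup 2 (zpowers t) := by
    rintro ⟨x, hx⟩
    obtain ⟨k, rfl⟩ := mem_zpowers_iff.mp hx
    refine ⟨1, Subtype.ext ?_⟩
    change (t ^ k) ^ (2 ^ 1) = 1
    rw [← zpow_natCast, ← zpow_mul, mul_comm, zpow_mul, zpow_natCast, pow_one, pow_two, ht, one_zpow]
  refine IsPGroup.to_sup_of_normal_right' h2 h1 ?_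
  rw [zpowers_le, mem_normalizer_iff]
  intro x
  constructor
  · intro hx
    obtain ⟨k, rfl⟩ := mem_zpowers_iff.mp hx
    rw [← conj_zpow, hconj]
    exact zpow_mem (inv_mem (mem_zpowers _)) k
  · intro hx
    obtain ⟨k, hk⟩ := mem_zpowers_iff.mp hx
    have e : x = t * (t * x * t⁻¹) * t⁻¹ := by
      calc x = (t * t) * x * (t * t)⁻¹ := by rw [ht]; group
        _ = _ := by group
    rw [e, ← hk, ← conj_zpow, hconj]
    exact zpow_mem (inv_mem (mem_zpowers _)) k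

/-- Two involutions `v`, `w` with a 2-power of `v w` in `C`: a `C`-conjugate of `w` generates a 2-group with `v`. -/
theorem exists_conj_two [Finite G] {C : Subgroup G} {v w : G} (hv : v * v = 1) (hw : w * w = 1) {k : ℕ}
    (hk : (v * w) ^ 2 ^ k ∈ C) : ∃ c ∈ C, ∃ l : ℕ, (v * (c * w * c⁻¹)) ^ 2 ^ l = 1 := by
  have hvi : v⁻¹ = v := inv_eq_of_mul_eq_one_left hv
  have hwi : w⁻¹ = w := inv_eq_of_mul_eq_one_left hw
  obtain ⟨a, r, hr, hn⟩ := Nat.exists_eq_two_pow_mul_odd (n := orderOf (v * w)) (orderOf_pos _).ne'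
  have hcop : IsCoprime ((2 ^ (k + 1) : ℕ) : ℤ) ((r : ℕ) : ℤ) := by
    rw [Nat.isCoprime_iff_coprime]
    exact Nat.Coprime.pow_left _ (Nat.coprime_two_left.2 hr)
  obtain ⟨p, q, hpq⟩ := hcop
  set m : G := v * w with hm
  have hvm : v * m * v⁻¹ = m⁻¹ := by
    rw [hm, mul_inv_rev, hvi, hwi]
    calc v * (v * w) * v = (v * v) * w * v := by group
      _ = w * v := by rw [hv, one_mul]
  have hwm : w * m * w⁻¹ = m⁻¹ := by
    rw [hm, mul_inv_rev, hvi, hwi]
    calc w * (v * w) * w = w * v * (w * w) := by group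
      _ = w * v := by rw [hw, mul_one]
  set c : G := (m ^ 2 ^ k) ^ p with hc
  have hcm : c = m ^ ((2 ^ k : ℕ) * p : ℤ) := by
    rw [hc, zpow_mul, zpow_natCast]
  refine ⟨c, zpow_mem hk p, a, ?_⟩
  have hwc : w * c⁻¹ * w⁻¹ = c := by
    have h1 : w * c * w⁻¹ = c⁻¹ := by
      rw [hcm, ← conj_zpow, hwm, inv_zpow]
    have h2 := congrArg (fun t => t⁻¹) h1
    simp only [mul_inv_rev, inv_inv] at h2
    rw [← mul_assoc] at h2
    exact h2
  have hvc : v * (c * c) = (c * c)⁻¹ * v := by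
    have h1 : v * (c * c) * v⁻¹ = (c * c)⁻¹ := by
      have e : c * c = m ^ (((2 ^ k : ℕ) * p : ℤ) + ((2 ^ k : ℕ) * p : ℤ)) := by
        rw [zpow_add, ← hcm]
      rw [e, ← conj_zpow, hvm, inv_zpow]
    rw [← h1]; group
  have e1 : v * (c * w * c⁻¹) = m ^ ((r : ℤ) * q) := by
    calc v * (c * w * c⁻¹) = v * (c * (w * c⁻¹ * w⁻¹)) * w := by group
      _ = (v * (c * c)) * w := by rw [hwc]
      _ = (c * c)⁻¹ * m := by rw [hvc, hm]; group
      _ = m ^ ((r : ℤ) * q) := by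
        have e2 : (r : ℤ) * q = -(((2 ^ k : ℕ) * p : ℤ) + ((2 ^ k : ℕ) * p : ℤ)) + 1 := by
          have : p * ((2 ^ (k + 1) : ℕ) : ℤ) = ((2 ^ k : ℕ) * p : ℤ) + ((2 ^ k : ℕ) * p : ℤ) := by
            rw [pow_succ]; push_cast; ring
          linarith [mul_comm q (r : ℤ)]
        rw [e2, zpow_add, zpow_neg, zpow_add, ← hcm, zpow_one]
  rw [e1]
  have h3 : m ^ (2 ^ a * r) = 1 := by rw [← hn]; exact pow_orderOf_eq_one _
  have h4 : (m ^ ((r : ℤ) * q)) ^ 2 ^ a = (m ^ (2 ^ a * r)) ^ q := by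
    rw [← zpow_natCast, ← zpow_mul, ← zpow_natCast, ← zpow_mul]
    congr 1
    push_cast
    ring
  rw [h4, h3, one_zpow]

/-- an automorphism stabilising a chain of length three -/
theorem four {c z y x : G} (hz : z * z = 1) (hy : y * y = 1) (hzy : z * y = y * z) (cz : c * z * c⁻¹ = z)
    (cy : c * y * c⁻¹ = y ∨ c * y * c⁻¹ = z * y)
    (cx : c * x * c⁻¹ = x ∨ c * x * c⁻¹ = z * x ∨ c * x * c⁻¹ = y * x ∨ c * x * c⁻¹ = z * y * x) :
    c ^ 4 * x = x * c ^ 4 := by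
  obtain ⟨φ, hφ⟩ : ∃ φ : G → G, ∀ t, φ t = c * t * c⁻¹ := ⟨_, fun _ => rfl⟩
  have hmul : ∀ s t : G, φ (s * t) = φ s * φ t := fun s t => by rw [hφ, hφ, hφ]; group
  rw [← hφ] at cz
  rw [← hφ] at cy
  rw [← hφ] at cx
  have hzyzy : z * y * (z * y) = 1 := by
    calc z * y * (z * y) = (z * y) * (y * z) := by rw [hzy]
      _ = z * (y * y) * z := by group
      _ = 1 := by rw [hy, mul_one, hz]
  have h2 : φ (φ x) = x ∨ φ (φ x) = z * x := by
    rcases cx with cx | cx | cx | cx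
    · left
      rw [cx, cx]
    · left
      rw [cx, hmul, cz, cx, ← mul_assoc, hz, one_mul]
    · rw [cx, hmul, cx]
      rcases cy with cy | cy
      · left
        rw [cy, ← mul_assoc, hy, one_mul]
      · right
        rw [cy]
        calc z * y * (y * x) = z * (y * y) * x := by group
          _ = z * x := by rw [hy, mul_one]
    · rw [cx, hmul, hmul, cx, cz]
      rcases cy with cy | cy
      · left
        rw [cy]
        calc z * y * (z * y * x) = (z * y * (z * y)) * x := by group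
          _ = x := by rw [hzyzy, one_mul]
      · right
        rw [cy]
        calc z * (z * y) * (z * y * x) = z * (z * y * (z * y)) * x := by group
          _ = z * x := by rw [hzyzy, mul_one]
  have h4 : φ (φ (φ (φ x))) = x := by
    rcases h2 with h2 | h2
    · rw [h2, h2]
    · rw [h2, hmul, hmul, h2, cz, cz, ← mul_assoc, hz, one_mul]
  have e : φ (φ (φ (φ x))) = c ^ 4 * x * (c ^ 4)⁻¹ := by
    rw [hφ, hφ, hφ, hφ, show c ^ 4 = c * c * c * c by rw [pow_succ, pow_succ, pow_succ, pow_one]]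
    group
  rw [e] at h4
  calc c ^ 4 * x = (c ^ 4 * x * (c ^ 4)⁻¹) * c ^ 4 := by group
    _ = x * c ^ 4 := by rw [h4]

/-- the product of two elements acting as transvections on `X` -/
theorem four_of {X : Subgroup G} {a b z y : G} (hzX : z ∈ X) (hyX : y ∈ X) (hz : z * z = 1) (hy : y * y = 1)
    (hyc : ∀ x ∈ X, x * y = y * x)
    (ha : ∀ x ∈ X, a * x * a⁻¹ = x ∨ a * x * a⁻¹ = z * x) (hb : ∀ x ∈ X, b * x * b⁻¹ = x ∨ b * x * b⁻¹ = y * x)
    (haz : a * z * a⁻¹ = z) (hbz : b * z * b⁻¹ = z) (hby : b * y * b⁻¹ = y) :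
    ∀ x ∈ X, (a * b) ^ 4 * x = x * (a * b) ^ 4 := by
  intro x hx
  have hc : ∀ t : G, (a * b) * t * (a * b)⁻¹ = a * (b * t * b⁻¹) * a⁻¹ := fun t => by group
  refine four hz hy (hyc z hzX) ?_ ?_ ?_
  · rw [hc, hbz, haz]
  · rw [hc, hby]; exact ha y hyX
  · rw [hc]
    rcases hb x hx with h1 | h1
    · rw [h1]
      rcases ha x hx with h2 | h2
      · left; exact h2
      · right; left; exact h2
    · rw [h1]
      have e : a * (y * x) * a⁻¹ = (a * y * a⁻¹) * (a * x * a⁻¹) := by group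
      rw [e]
      have hzy : z * y = y * z := hyc z hzX
      rcases ha y hyX with h2 | h2 <;> rcases ha x hx with h3 | h3
      · right; right; left; rw [h2, h3]
      · right; right; right; rw [h2, h3, ← mul_assoc, hzy]
      · right; right; right; rw [h2, h3]
      · right; right; left
        rw [h2, h3]
        calc z * y * (z * x) = (z * y) * z * x := by group
          _ = (y * z) * z * x := by rw [hzy]
          _ = y * (z * z) * x := by group
          _ = y * x := by rw [hz, mul_one]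

theorem mem_norm [Finite G] {X : Subgroup G} {s : G} (h : ∀ x ∈ X, s * x * s⁻¹ ∈ X) : s ∈ normalizer (X : Set G) := by
  rw [mem_normalizer_iff_map_conj]
  refine map_conj_le_of_le_normalizer ?_
  rintro _ ⟨x, hx, rfl⟩
  exact h x hx

theorem isSyl_of_not_dvd {T M : Subgroup G} (hT : IsPGroup 2 T) (hTM : T ≤ M) (h : ¬ 2 ∣ T.relIndex M) :
    IsSyl T M := by
  haveI : Fact (Nat.Prime 2) := ⟨Nat.prime_two⟩
  have h1 : IsPGroup 2 (T.subgroupOf M) := hT.comap_of_injective M.subtype M.subtype_injective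
  have h2 := isSyl_of_sylow (h1.toSylow h)
  have h3 : ((h1.toSylow h : Sylow 2 ↥M) : Subgroup ↥M).map M.subtype = T := by
    exact map_subgroupOf_eq_of_le hTM
  rwa [h3] at h2

theorem isSyl_of_le {S : Sylow 2 G} {M : Subgroup G} (h : (S : Subgroup G) ≤ M) : IsSyl (S : Subgroup G) M :=
  ⟨S.2, h, fun _ hQ hle _ => (S.3 hQ hle).le⟩

/-! ### The frame -/

/-- two commuting subgroups of `S`, permuted by `S`, with strongly closed union -/
structure Two (S : Sylow 2 G) (P : Bool → Subgroup G) : Prop where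
  le : ∀ i, P i ≤ (S : Subgroup G)
  ne : ∀ i, P i ≠ ⊥
  comm : ∀ i, ∀ u ∈ P i, ∀ v ∈ P (!i), u * v = v * u
  inf : ∀ i, ∀ x ∈ P i, x ∈ P (!i) → x = 1
  perm : ∀ g ∈ (S : Subgroup G), (∀ i, ∀ u ∈ P i, g * u * g⁻¹ ∈ P i) ∨ (∀ i, ∀ u ∈ P i, g * u * g⁻¹ ∈ P (!i))
  closed : ∀ i, ∀ x ∈ P i, ∀ g : G, g * x * g⁻¹ ∈ (S : Subgroup G) → ∃ j, g * x * g⁻¹ ∈ P j

/-- the kernel of `S` on the parts -/
def Ker (S : Sylow 2 G) (P : Bool → Subgroup G) : Subgroup G :=
  (S : Subgroup G) ⊓ ⨅ i, normalizer (P i : Set G)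

namespace Two

variable {S : Sylow 2 G} {P : Bool → Subgroup G}

theorem ker_le : Ker S P ≤ (S : Subgroup G) := inf_le_left

theorem ker_conj {x : G} (hx : x ∈ Ker S P) (i : Bool) {u : G} (hu : u ∈ P i) : x * u * x⁻¹ ∈ P i :=
  (mem_normalizer_iff.1 ((mem_iInf.1 hx.2) i) u).1 hu

theorem mem_ker [Finite G] {x : G} (hx : x ∈ (S : Subgroup G)) (h : ∀ i, ∀ u ∈ P i, x * u * x⁻¹ ∈ P i) :
    x ∈ Ker S P :=
  ⟨hx, mem_iInf.2 fun i => mem_norm (h i)⟩

variable [Finite G] (h : Two S P)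
include h

theorem swap {x : G} (hx : x ∈ (S : Subgroup G)) (hxK : x ∉ Ker S P) (i : Bool) {u : G} (hu : u ∈ P i) :
    x * u * x⁻¹ ∈ P (!i) := by
  rcases h.perm x hx with h1 | h1
  · exact absurd (mem_ker hx h1) hxK
  · exact h1 i u hu

theorem mul_mem_ker {x y : G} (hx : x ∈ (S : Subgroup G)) (hy : y ∈ (S : Subgroup G)) (hxK : x ∉ Ker S P)
    (hyK : y ∉ Ker S P) : x * y ∈ Ker S P := by
  refine mem_ker (mul_mem hx hy) fun i u hu => ?_
  have h1 := h.swap hx hxK _ (h.swap hy hyK i hu)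
  rw [Bool.not_not] at h1
  have e : x * y * u * (x * y)⁻¹ = x * (y * u * y⁻¹) * x⁻¹ := by group
  rw [e]; exact h1

theorem conj_mem_ker {x s : G} (hx : x ∈ Ker S P) (hs : s ∈ (S : Subgroup G)) : s * x * s⁻¹ ∈ Ker S P := by
  by_cases hsK : s ∈ Ker S P
  · exact mul_mem (mul_mem hsK hx) (inv_mem hsK)
  · refine h.mul_mem_ker (mul_mem hs (ker_le hx)) (inv_mem hs) ?_ ?_
    · intro h1; exact hsK ((mul_mem_cancel_right hx).1 h1)
    · intro h1; exact hsK (inv_mem_iff.1 h1)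

theorem le_ker (i : Bool) : P i ≤ Ker S P := by
  intro x hx
  refine mem_ker (h.le i hx) fun j u hu => ?_
  by_cases hj : j = i
  · subst hj
    exact mul_mem (mul_mem hx hu) (inv_mem hx)
  · have hj' : j = !i := by cases i <;> cases j <;> simp_all
    subst hj'
    have := h.comm i x hx u hu
    rw [this]
    have e : u * x * x⁻¹ = u := by group
    rw [e]; exact hu

omit [Finite G] in
theorem eq_of_mul {i : Bool} {a a' b b' : G} (ha : a ∈ P i) (ha' : a' ∈ P i) (hb : b ∈ P (!i)) (hb' : b' ∈ P (!i))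
    (e : a * b = a' * b') : a = a' ∧ b = b' := by
  have e1 : a'⁻¹ * a = b' * b⁻¹ := by
    calc a'⁻¹ * a = a'⁻¹ * (a * b) * b⁻¹ := by group
      _ = a'⁻¹ * (a' * b') * b⁻¹ := by rw [e]
      _ = b' * b⁻¹ := by group
  have h1 : a'⁻¹ * a = 1 := h.inf i _ (mul_mem (inv_mem ha') ha) (by rw [e1]; exact mul_mem hb' (inv_mem hb))
  refine ⟨?_, ?_⟩
  · calc a = a' * (a'⁻¹ * a) := by group
      _ = a' := by rw [h1, mul_one]
  · rw [e1] at h1
    calc b = (b' * b⁻¹)⁻¹ * b' := by group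
      _ = b' := by rw [h1, inv_one, one_mul]

/-- (0) -/
theorem zero {i : Bool} {u x g : G} (hu : u ∈ P i) (hu1 : u ≠ 1) (hx : x ∈ Ker S P)
    (hgu : g * u * g⁻¹ ∈ (S : Subgroup G)) (hgx : g * x * g⁻¹ ∈ (S : Subgroup G)) : g * x * g⁻¹ ∈ Ker S P := by
  by_contra hn
  obtain ⟨j, hj⟩ := h.closed i u hu g hgu
  have h1 := h.swap hgx hn j hj
  have h2 := ker_conj hx i hu
  have hw : u * (x * u * x⁻¹) ∈ P i := mul_mem hu h2
  have e : g * (u * (x * u * x⁻¹)) * g⁻¹ =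
      g * u * g⁻¹ * (g * x * g⁻¹ * (g * u * g⁻¹) * (g * x * g⁻¹)⁻¹) := by group
  obtain ⟨k, hk⟩ := h.closed i _ hw g (by
    rw [e]; exact mul_mem (h.le _ hj) (h.le _ h1))
  rw [e] at hk
  have hu' : g * u * g⁻¹ ≠ 1 := by
    intro h3
    apply hu1
    have e : u = g⁻¹ * (g * u * g⁻¹) * g := by group
    rw [e, h3]; group
  by_cases hkj : k = j
  · subst hkj
    have h3 := (mul_mem_cancel_left hj).1 hk
    have h4 := h.inf k _ h3 h1
    apply hu'
    have e : g * u * g⁻¹ = (g * x * g⁻¹)⁻¹ * (g * x * g⁻¹ * (g * u * g⁻¹) * (g * x * g⁻¹)⁻¹) * (g * x * g⁻¹) := by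
      group
    rw [e, h4]; group
  · have hk' : k = !j := by cases k <;> cases j <;> simp_all
    subst hk'
    have h3 := (mul_mem_cancel_right h1).1 hk
    exact hu' (h.inf j _ hj h3)

/-- (0) -/
theorem zero_iff {i : Bool} {u x g : G} (hu : u ∈ P i) (hu1 : u ≠ 1) (hx : x ∈ (S : Subgroup G))
    (hgu : g * u * g⁻¹ ∈ (S : Subgroup G)) (hgx : g * x * g⁻¹ ∈ (S : Subgroup G)) :
    x ∈ Ker S P ↔ g * x * g⁻¹ ∈ Ker S P := by
  refine ⟨fun h1 => h.zero hu hu1 h1 hgu hgx, fun h1 => ?_⟩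
  obtain ⟨j, hj⟩ := h.closed i u hu g hgu
  have e1 : g⁻¹ * (g * u * g⁻¹) * g⁻¹⁻¹ = u := by group
  have e2 : g⁻¹ * (g * x * g⁻¹) * g⁻¹⁻¹ = x := by group
  have hu' : g * u * g⁻¹ ≠ 1 := by
    intro h3
    apply hu1
    rw [← e1, h3]; group
  have := h.zero hj hu' h1 (g := g⁻¹) (by rw [e1]; exact h.le i hu) (by rw [e2]; exact hx)
  rwa [e2] at this

end Two

/-! ### Bad pairs -/

/-- `(Q, g)` is bad -/
def Bad (S : Sylow 2 G) (P : Bool → Subgroup G) (Q : Subgroup G) (g : G) : Prop :=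
  Q ≤ (S : Subgroup G) ∧ (∀ x ∈ Q, g * x * g⁻¹ ∈ (S : Subgroup G)) ∧
    ∃ x ∈ Q, ¬ (x ∈ Ker S P ↔ g * x * g⁻¹ ∈ Ker S P)

/-- a bad pair of maximal order, normalised -/
structure Mx (S : Sylow 2 G) (P : Bool → Subgroup G) (X : Subgroup G) (g : G) : Prop where
  bad : Bad S P X g
  max : ∀ Q k, Bad S P Q k → Nat.card Q ≤ Nat.card X
  norm : g ∈ normalizer (X : Set G)
  syl : IsSyl ((S : Subgroup G) ⊓ normalizer (X : Set G)) (normalizer (X : Set G))

section

variable [Finite G] {S : Sylow 2 G} {P : Bool → Subgroup G} (h : Two S P)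
include h

theorem Bad.notMem {Q : Subgroup G} {g : G} (hb : Bad S P Q g) {i : Bool} {u : G} (hu : u ∈ P i) (huQ : u ∈ Q) :
    u = 1 := by
  by_contra hu1
  obtain ⟨h1, h2, x, hx, hx'⟩ := hb
  exact hx' (h.zero_iff hu hu1 (h1 hx) (h2 u huQ) (h2 x hx))

theorem exists_mx (hb : ∃ Q k, Bad S P Q k) : ∃ X g, Mx S P X g := by
  haveI : Fact (Nat.Prime 2) := ⟨Nat.prime_two⟩
  obtain ⟨Q₀, k₀, hb₀⟩ := hb
  obtain ⟨⟨Q, k⟩, hQ, hmax⟩ := Set.exists_max_image {q : Subgroup G × G | Bad S P q.1 q.2}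
    (fun q => Nat.card q.1) (Set.toFinite _) ⟨(Q₀, k₀), hb₀⟩
  change Bad S P Q k at hQ
  have hmax' : ∀ Q' k', Bad S P Q' k' → Nat.card Q' ≤ Nat.card Q := fun Q' k' hb => hmax (Q', k') hb
  -- `Q ≠ S`
  have hQS : Q < (S : Subgroup G) := by
    refine lt_of_le_of_ne hQ.1 fun e => ?_
    obtain ⟨⟨u, hu⟩, hu1⟩ := ne_bot_iff_exists_ne_one.1 (h.ne false)
    exact hu1 (Subtype.ext (hQ.notMem h hu (by rw [e]; exact h.le _ hu)))
  obtain ⟨k₁, hk₁, hfull⟩ := exists_fullyNormalized S hQS.le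
  set B : Subgroup G := Q.map (MulAut.conj k₁).toMonoidHom with hB
  have hcB : Nat.card B = Nat.card Q := card_map_conj Q k₁
  -- transport of a conjugate `Y`
  have key : ∀ (Y : Subgroup G) (a : G), Y < (S : Subgroup G) → Nat.card Y = Nat.card Q →
      Y.map (MulAut.conj a).toMonoidHom = B → ∃ b : G, (∀ x ∈ Y, b * x * b⁻¹ ∈ B) ∧
        ∀ x ∈ Y, (x ∈ Ker S P ↔ b * x * b⁻¹ ∈ Ker S P) := by
    intro Y a hY hcY hYB
    obtain ⟨b, hb1, hb2⟩ := exists_extension S hYB hfull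
    have hYb : ∀ x ∈ Y, b * x * b⁻¹ ∈ B := fun x hx => by rw [← hb1]; exact conj_mem_map_conj hx b
    refine ⟨b, hYb, ?_⟩
    by_contra hcon
    push Not at hcon
    obtain ⟨x, hx, hx'⟩ := hcon
    have h1 := lt_inf_normalizer S.isPGroup' hY
    have h2 : Nat.card Y < Nat.card ((S : Subgroup G) ⊓ normalizer (Y : Set G) : Subgroup G) :=
      Set.ncard_lt_ncard (by exact_mod_cast h1) (Set.toFinite _)
    have h3 := hmax' ((S : Subgroup G) ⊓ normalizer (Y : Set G)) b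
      ⟨inf_le_left, fun y hy => (hb2 (conj_mem_map_conj hy b)).1, x, h1.le hx, by tauto⟩
    omega
  obtain ⟨b₁, hb₁, hb₁'⟩ := key Q k₁ hQS rfl rfl
  have hcQ2 : Nat.card (Q.map (MulAut.conj k).toMonoidHom : Subgroup G) = Nat.card Q := card_map_conj Q k
  have hQ2 : Q.map (MulAut.conj k).toMonoidHom ≤ (S : Subgroup G) := by
    rintro _ ⟨x, hx, rfl⟩
    exact hQ.2.1 x hx
  have hQ2S : Q.map (MulAut.conj k).toMonoidHom < (S : Subgroup G) := by
    refine lt_of_le_of_ne hQ2 fun e => ?_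
    rw [e] at hcQ2
    have h1 : Nat.card Q < Nat.card (S : Subgroup G) :=
      Set.ncard_lt_ncard (by exact_mod_cast hQS) (Set.toFinite _)
    omega
  obtain ⟨b₂, hb₂, hb₂'⟩ := key _ (k₁ * k⁻¹) hQ2S hcQ2 (by
    rw [map_conj_map_conj]
    have e : k₁ * k⁻¹ * k = k₁ := by group
    rw [e])
  have hnorm : ∀ x ∈ B, (b₂ * k * b₁⁻¹) * x * (b₂ * k * b₁⁻¹)⁻¹ ∈ B := by
    intro x hx
    -- `b₁` maps `Q` onto `B`
    have h1 : Q.map (MulAut.conj b₁).toMonoidHom = B := by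
      refine Subgroup.eq_of_le_of_card_ge ?_ (hcB.trans (card_map_conj Q b₁).symm).le
      rintro _ ⟨y, hy, rfl⟩
      exact hb₁ y hy
    rw [← h1] at hx
    obtain ⟨y, hy, rfl⟩ := hx
    have e : (b₂ * k * b₁⁻¹) * ((MulAut.conj b₁).toMonoidHom y) * (b₂ * k * b₁⁻¹)⁻¹ = b₂ * (k * y * k⁻¹) * b₂⁻¹ := by
      change (b₂ * k * b₁⁻¹) * (b₁ * y * b₁⁻¹) * (b₂ * k * b₁⁻¹)⁻¹ = _
      group
    rw [e]
    exact hb₂ _ (conj_mem_map_conj hy k)
  refine ⟨B, b₂ * k * b₁⁻¹, ⟨hk₁, fun x hx => hk₁ (hnorm x hx), ?_⟩, ?_, mem_norm hnorm, ?_⟩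
  · obtain ⟨-, -, x, hx, hx'⟩ := hQ
    refine ⟨b₁ * x * b₁⁻¹, hb₁ x hx, ?_⟩
    have e : (b₂ * k * b₁⁻¹) * (b₁ * x * b₁⁻¹) * (b₂ * k * b₁⁻¹)⁻¹ = b₂ * (k * x * k⁻¹) * b₂⁻¹ := by group
    rw [e, ← hb₁' x hx, ← hb₂' _ (conj_mem_map_conj hx k)]
    exact hx'
  · intro Q' k' hb
    rw [hcB]; exact hmax' Q' k' hb
  · exact isSyl_of_not_dvd (S.isPGroup'.to_le inf_le_left) inf_le_right hfull

end

section

variable [Finite G] {S : Sylow 2 G} {P : Bool → Subgroup G} (h : Two S P) {X : Subgroup G} {g : G}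
  (m : Mx S P X g)
include h m

namespace Mx

omit [Finite G] h in
theorem le : X ≤ (S : Subgroup G) := m.bad.1

omit [Finite G] h in
theorem conj {x : G} (hx : x ∈ X) : g * x * g⁻¹ ∈ X := (mem_normalizer_iff.1 m.norm x).1 hx

omit [Finite G] h in
theorem conj' {x : G} (hx : x ∈ X) : g⁻¹ * x * g ∈ X := by
  have := (mem_normalizer_iff.1 (inv_mem m.norm) x).1 hx
  rwa [inv_inv] at this

omit [Finite G] h in
/-- (2) -/
theorem cent_aux [Finite G] {x : G} (hx : x ∈ (S : Subgroup G)) (hxX : x ∈ centralizer (X : Set G)) : x ∈ X := by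
  set N : Subgroup G := normalizer (X : Set G) with hN
  set C : Subgroup G := centralizer (X : Set G) with hC
  set T : Subgroup G := (S : Subgroup G) ⊓ N with hT
  have hCN : C ≤ N := centralizer_le_normalizer _
  have hCn : ∀ n ∈ N, ∀ c ∈ C, n * c * n⁻¹ ∈ C := by
    intro n hn c hc
    rw [hC, mem_centralizer_iff]
    intro y hy
    have h1 : n⁻¹ * y * n ∈ X := by
      have := (mem_normalizer_iff.1 (inv_mem hn) y).1 hy
      rwa [inv_inv] at this
    have h2 := (mem_centralizer_iff.1 hc) _ h1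
    calc y * (n * c * n⁻¹) = n * (n⁻¹ * y * n * c) * n⁻¹ := by group
      _ = n * (c * (n⁻¹ * y * n)) * n⁻¹ := by rw [h2]
      _ = n * c * n⁻¹ * y := by group
  have hTC : IsSyl (T ⊓ C) C := by
    refine m.syl.inf hCN fun t ht => mem_norm fun c hc => hCn t ht.2 c hc
  have h2g : IsPGroup 2 ((T ⊓ C).map (MulAut.conj g).toMonoidHom : Subgroup G) := hTC.two.map _
  obtain ⟨c, hc, hcT⟩ := hTC.conj_into h2g (by
    rintro _ ⟨t, ht, rfl⟩
    exact hCn g m.norm t ht.2)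
  -- `n = c g`
  have hX : ∀ y ∈ X, (c * g) * y * (c * g)⁻¹ = g * y * g⁻¹ := by
    intro y hy
    have e : (c * g) * y * (c * g)⁻¹ = c * (g * y * g⁻¹) * c⁻¹ := by group
    rw [e]
    exact conj_eq_of_mem_centralizer hc (m.conj hy)
  have hle : (X ⊔ (T ⊓ C)).map (MulAut.conj (c * g)).toMonoidHom ≤ X ⊔ (T ⊓ C) := by
    rw [Subgroup.map_sup]
    refine sup_le_sup ?_ ?_
    · rintro _ ⟨y, hy, rfl⟩
      change (c * g) * y * (c * g)⁻¹ ∈ X
      rw [hX y hy]; exact m.conj hy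
    · rintro _ ⟨t, ht, rfl⟩
      change (c * g) * t * (c * g)⁻¹ ∈ T ⊓ C
      have e : (c * g) * t * (c * g)⁻¹ = c * (g * t * g⁻¹) * c⁻¹ := by group
      rw [e]
      exact hcT _ ⟨t, ht, rfl⟩
  have hQS : X ⊔ (T ⊓ C) ≤ (S : Subgroup G) := sup_le m.le (inf_le_left.trans inf_le_left)
  obtain ⟨-, -, y, hy, hy'⟩ := m.bad
  have h3 := m.max (X ⊔ (T ⊓ C)) (c * g) ⟨hQS, fun q hq => hQS (hle (conj_mem_map_conj hq _)), y,
    mem_sup_left hy, by rw [hX y hy]; exact hy'⟩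
  have h4 : X = X ⊔ (T ⊓ C) := Subgroup.eq_of_le_of_card_ge le_sup_left h3
  rw [h4]
  exact mem_sup_right ⟨⟨hx, hCN hxX⟩, hxX⟩

/-- (3') -/
theorem no_pow {i j : Bool} {v v' : G} (hv' : v' ∈ P i) (hv : v ∈ P j) (ov' : v' * v' = 1) (ov : v * v = 1)
    (hv'1 : v' ≠ 1) (hv1 : v ≠ 1) (hv'N : v' ∈ normalizer (X : Set G)) (hvN : v ∈ normalizer (X : Set G)) (k : ℕ)
    (hk : (v' * (g * v * g⁻¹)) ^ 2 ^ k ∈ centralizer (X : Set G)) : False := by
  have ow : (g * v * g⁻¹) * (g * v * g⁻¹) = 1 := by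
    calc (g * v * g⁻¹) * (g * v * g⁻¹) = g * (v * v) * g⁻¹ := by group
      _ = 1 := by rw [ov]; group
  obtain ⟨c, hc, l, hl⟩ := exists_conj_two ov' ow hk
  set w : G := c * (g * v * g⁻¹) * c⁻¹ with hw
  have oww : w * w = 1 := by
    calc w * w = c * ((g * v * g⁻¹) * (g * v * g⁻¹)) * c⁻¹ := by rw [hw]; group
      _ = 1 := by rw [ow]; group
  have hcN : c ∈ normalizer (X : Set G) := centralizer_le_normalizer _ hc
  have hwN : w ∈ normalizer (X : Set G) :=
    mul_mem (mul_mem hcN (mul_mem (mul_mem m.norm hvN) (inv_mem m.norm))) (inv_mem hcN)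
  have hD := isPGroup_pair ov' oww hl
  set D : Subgroup G := zpowers v' ⊔ zpowers (v' * w) with hDdef
  have hDN : D ≤ normalizer (X : Set G) := by
    refine sup_le ?_ ?_
    · rw [zpowers_le]; exact hv'N
    · rw [zpowers_le]; exact mul_mem hv'N hwN
  have hT2 : IsPGroup 2 (D ⊔ X : Subgroup G) :=
    IsPGroup.to_sup_of_normal_right' hD (S.isPGroup'.to_le m.le) hDN
  obtain ⟨d, hd, hdT⟩ := m.syl.conj_into hT2 (sup_le hDN le_normalizer)
  have hv'D : v' ∈ D := mem_sup_left (mem_zpowers _)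
  have hwD : w ∈ D := by
    have h1 : v' * w ∈ D := mem_sup_right (mem_zpowers _)
    have := mul_mem (inv_mem hv'D) h1
    rwa [inv_mul_cancel_left] at this
  have hdX : ∀ x ∈ X, d * x * d⁻¹ ∈ (S : Subgroup G) := fun x hx => (hdT x (mem_sup_right hx)).1
  have hA : ∀ x ∈ X, (x ∈ Ker S P ↔ d * x * d⁻¹ ∈ Ker S P) := fun x hx =>
    h.zero_iff hv' hv'1 (m.le hx) (hdT v' (mem_sup_left hv'D)).1 (hdX x hx)
  have hB : ∀ x ∈ X, (x ∈ Ker S P ↔ d * (g * x * g⁻¹) * d⁻¹ ∈ Ker S P) := by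
    intro x hx
    have e1 : (d * c * g) * x * (d * c * g)⁻¹ = d * (g * x * g⁻¹) * d⁻¹ := by
      have := conj_eq_of_mem_centralizer hc (m.conj hx)
      calc (d * c * g) * x * (d * c * g)⁻¹ = d * (c * (g * x * g⁻¹) * c⁻¹) * d⁻¹ := by group
        _ = _ := by rw [this]
    have e2 : (d * c * g) * v * (d * c * g)⁻¹ = d * w * d⁻¹ := by rw [hw]; group
    have h1 := h.zero_iff hv hv1 (m.le hx) (g := d * c * g)
      (by rw [e2]; exact (hdT w (mem_sup_left hwD)).1) (by rw [e1]; exact hdX _ (m.conj hx))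
    rwa [e1] at h1
  obtain ⟨-, -, x, hx, hx'⟩ := m.bad
  exact hx' ((hB x hx).trans (hA _ (m.conj hx)).symm)

end Mx

end

/-! ### The main argument -/

section

variable [Finite G] {S : Sylow 2 G} {P : Bool → Subgroup G} (h : Two S P)
include h

/-- the action of `S` on a central involution of `Ker S P` in a part -/
theorem flip {e s : G} (hc : ∀ x ∈ Ker S P, x * e = e * x) (hs : s ∈ (S : Subgroup G))
    (hsK : s ∉ Ker S P) {x : G} (hx : x ∈ (S : Subgroup G)) :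
    (x ∈ Ker S P → x * e * x⁻¹ = e ∧ x * (s * e * s⁻¹) * x⁻¹ = s * e * s⁻¹) ∧
    (x ∉ Ker S P → x * e * x⁻¹ = s * e * s⁻¹ ∧ x * (s * e * s⁻¹) * x⁻¹ = e) := by
  have hc' : ∀ x ∈ Ker S P, x * e * x⁻¹ = e := fun x hx => by rw [hc x hx]; group
  constructor
  · intro hxK
    refine ⟨hc' x hxK, ?_⟩
    have h1 : s⁻¹ * x * s⁻¹⁻¹ ∈ Ker S P := h.conj_mem_ker hxK (inv_mem hs)
    rw [inv_inv] at h1
    calc x * (s * e * s⁻¹) * x⁻¹ = s * ((s⁻¹ * x * s) * e * (s⁻¹ * x * s)⁻¹) * s⁻¹ := by group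
      _ = s * e * s⁻¹ := by rw [hc' _ h1]
  · intro hxK
    have h1 : s⁻¹ * x ∈ Ker S P := h.mul_mem_ker (inv_mem hs) hx (fun h2 => hsK (inv_mem_iff.1 h2)) hxK
    have h2 : x * s ∈ Ker S P := h.mul_mem_ker hx hs hxK hsK
    constructor
    · calc x * e * x⁻¹ = s * ((s⁻¹ * x) * e * (s⁻¹ * x)⁻¹) * s⁻¹ := by group
        _ = s * e * s⁻¹ := by rw [hc' _ h1]
    · calc x * (s * e * s⁻¹) * x⁻¹ = (x * s) * e * (x * s)⁻¹ := by group
        _ = e := hc' _ h2

/-- the configuration obtained from a maximal bad pair -/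
structure Conf (S : Sylow 2 G) (P : Bool → Subgroup G) (X : Subgroup G) (g e z : G) : Prop where
  e_mem : e ∈ P false
  ee : e * e = 1
  e_ne : e ≠ 1
  e_norm : e ∈ normalizer (X : Set G)
  z_cent : ∀ x ∈ (S : Subgroup G), x * z = z * x
  zX : z ∈ X
  zz : z * z = 1
  zK : z ∈ Ker S P
  act0 : ∀ x ∈ X, x ∈ Ker S P → e * x * e⁻¹ = x
  act1 : ∀ x ∈ X, x ∉ Ker S P → e * x * e⁻¹ = z * x
  /-- (4) -/
  yK : g * z * g⁻¹ ∉ Ker S P
  zK' : g⁻¹ * z * g ∉ Ker S P

theorem exists_conf {X : Subgroup G} {g : G} (m : Mx S P X g) : ∃ e z : G, Conf S P X g e z := by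
  -- an element of `S` swapping the parts
  obtain ⟨s, hs, hsK⟩ : ∃ s ∈ (S : Subgroup G), s ∉ Ker S P := by
    obtain ⟨h1, h2, x, hx, hx'⟩ := m.bad
    by_contra hcon
    push Not at hcon
    exact hx' ⟨fun _ => hcon _ (h2 x hx), fun _ => hcon _ (h1 hx)⟩
  obtain ⟨e, he, oe, hec⟩ := exists_fix (S := (S : Subgroup G)) (X := Ker S P) (D := P false) S.isPGroup'
    Two.ker_le (h.le false) (h.ne false) (fun x hx d hd => Two.ker_conj hx false hd)
  have hee : e * e = 1 := sq_of_orderOf oe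
  have he1 : e ≠ 1 := ne_one_of_orderOf oe
  have hei : e⁻¹ = e := inv_eq_of_mul_eq_one_left hee
  have he2 : s * e * s⁻¹ ∈ P (!false) := h.swap hs hsK false he
  set e2 : G := s * e * s⁻¹ with he2d
  have hcomm : e * e2 = e2 * e := h.comm false e he e2 he2
  have he22 : e2 * e2 = 1 := by
    calc e2 * e2 = s * (e * e) * s⁻¹ := by rw [he2d]; group
      _ = 1 := by rw [hee]; group
  have he2i : e2⁻¹ = e2 := inv_eq_of_mul_eq_one_left he22
  have hfl := fun x (hx : x ∈ (S : Subgroup G)) => flip h (e := e) hec hs hsK hx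
  obtain ⟨z, hz⟩ : ∃ z : G, z = e * e2 := ⟨_, rfl⟩
  have hzS : ∀ x ∈ (S : Subgroup G), x * z = z * x := by
    intro x hx
    have h1 : x * z * x⁻¹ = z := by
      have e1 : x * z * x⁻¹ = (x * e * x⁻¹) * (x * e2 * x⁻¹) := by rw [hz]; group
      rw [e1]
      by_cases hxK : x ∈ Ker S P
      · rw [((hfl x hx).1 hxK).1, ((hfl x hx).1 hxK).2]
        exact hz.symm
      · rw [((hfl x hx).2 hxK).1, ((hfl x hx).2 hxK).2, hz]
        exact hcomm.symm
    calc x * z = (x * z * x⁻¹) * x := by group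
      _ = z * x := by rw [h1]
  have hzz : z * z = 1 := by
    calc z * z = e * (e2 * e) * e2 := by rw [hz]; group
      _ = e * (e * e2) * e2 := by rw [← hcomm]
      _ = (e * e) * (e2 * e2) := by group
      _ = 1 := by rw [hee, he22, one_mul]
  have hzK : z ∈ Ker S P := by rw [hz]; exact mul_mem (h.le_ker _ he) (h.le_ker _ he2)
  have hzSm : z ∈ (S : Subgroup G) := Two.ker_le hzK
  have hzX : z ∈ X := m.cent_aux hzSm (mem_centralizer_iff.2 fun x hx => hzS x (m.le hx))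
  have hact0 : ∀ x ∈ X, x ∈ Ker S P → e * x * e⁻¹ = x := by
    intro x hx hxK
    rw [← hec x hxK]; group
  have hact1 : ∀ x ∈ X, x ∉ Ker S P → e * x * e⁻¹ = z * x := by
    intro x hx hxK
    have h1 := ((hfl x (m.le hx)).2 hxK).1
    calc e * x * e⁻¹ = e * (x * e * x⁻¹)⁻¹ * x := by group
      _ = e * e2⁻¹ * x := by rw [h1]
      _ = z * x := by rw [he2i, hz]
  have heN : e ∈ normalizer (X : Set G) := by
    refine mem_norm fun x hx => ?_
    by_cases hxK : x ∈ Ker S P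
    · rw [hact0 x hx hxK]; exact hx
    · rw [hact1 x hx hxK]; exact mul_mem hzX hx
  -- the second transvection
  set f : G := g * e * g⁻¹ with hf
  set y : G := g * z * g⁻¹ with hy
  have hyX : y ∈ X := m.conj hzX
  have hyy : y * y = 1 := by
    calc y * y = g * (z * z) * g⁻¹ := by rw [hy]; group
      _ = 1 := by rw [hzz]; group
  have hzc : ∀ x ∈ X, x * z = z * x := fun x hx => hzS x (m.le hx)
  have hyc : ∀ x ∈ X, x * y = y * x := by
    intro x hx
    have h1 := hzc _ (m.conj' hx)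
    calc x * y = g * ((g⁻¹ * x * g) * z) * g⁻¹ := by rw [hy]; group
      _ = g * (z * (g⁻¹ * x * g)) * g⁻¹ := by rw [h1]
      _ = y * x := by rw [hy]; group
  have hB0 : ∀ x ∈ X, g⁻¹ * x * g ∈ Ker S P → f * x * f⁻¹ = x := by
    intro x hx hxK
    calc f * x * f⁻¹ = g * (e * (g⁻¹ * x * g) * e⁻¹) * g⁻¹ := by rw [hf]; group
      _ = x := by rw [hact0 _ (m.conj' hx) hxK]; group
  have hB1 : ∀ x ∈ X, g⁻¹ * x * g ∉ Ker S P → f * x * f⁻¹ = y * x := by
    intro x hx hxK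
    calc f * x * f⁻¹ = g * (e * (g⁻¹ * x * g) * e⁻¹) * g⁻¹ := by rw [hf]; group
      _ = y * x := by rw [hact1 _ (m.conj' hx) hxK, hy]; group
  have hA : ∀ x ∈ X, e * x * e⁻¹ = x ∨ e * x * e⁻¹ = z * x := fun x hx => by
    by_cases hxK : x ∈ Ker S P
    · exact Or.inl (hact0 x hx hxK)
    · exact Or.inr (hact1 x hx hxK)
  have hB : ∀ x ∈ X, f * x * f⁻¹ = x ∨ f * x * f⁻¹ = y * x := fun x hx => by
    by_cases hxK : g⁻¹ * x * g ∈ Ker S P
    · exact Or.inl (hB0 x hx hxK)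
    · exact Or.inr (hB1 x hx hxK)
  have hez : e * z * e⁻¹ = z := hact0 z hzX hzK
  have hgy : g⁻¹ * y * g = z := by rw [hy]; group
  have hfy : f * y * f⁻¹ = y := hB0 y hyX (by rw [hgy]; exact hzK)
  have hff : f * f = 1 := by
    calc f * f = g * (e * e) * g⁻¹ := by rw [hf]; group
      _ = 1 := by rw [hee]; group
  have hno : ¬ ∀ x ∈ X, (e * f) ^ 4 * x = x * (e * f) ^ 4 := fun hcon =>
    m.no_pow h he he hee hee he1 he1 heN heN 2 (by
      rw [mem_centralizer_iff]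
      intro x hx
      exact (hcon x hx).symm)
  refine ⟨e, z, he, hee, he1, heN, hzS, hzX, hzz, hzK, hact0, hact1, ?_, ?_⟩
  · intro hyK
    refine hno fun x hx => ?_
    have hey : e * y * e⁻¹ = y := hact0 y hyX hyK
    have h1 := four_of (a := f) (b := e) hyX hzX hyy hzz hzc hB hA hfy hey hez x hx
    have e1 : (e * f) ^ 4 = ((f * e) ^ 4)⁻¹ := by
      rw [← inv_pow, mul_inv_rev, hei, inv_eq_of_mul_eq_one_left hff]
    rw [e1]
    have h2 : Commute ((f * e) ^ 4) x := h1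
    exact h2.inv_left.eq
  · intro hzK'
    refine hno fun x hx => ?_
    have hfz : f * z * f⁻¹ = z := hB0 z hzX hzK'
    exact four_of (a := e) (b := f) hzX hyX hzz hyy hyc hA hB hez hfz hfy x hx

end

section

variable [Finite G] {S : Sylow 2 G} {P : Bool → Subgroup G} (h : Two S P) {X : Subgroup G} {g e z : G}
  (m : Mx S P X g) (c : Conf S P X g e z)
include h m c

namespace Conf

omit [Finite G] h in
theorem yX : g * z * g⁻¹ ∈ X := m.conj c.zX

omit [Finite G] h m in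
theorem yy : (g * z * g⁻¹) * (g * z * g⁻¹) = 1 := by
  calc (g * z * g⁻¹) * (g * z * g⁻¹) = g * (z * z) * g⁻¹ := by group
    _ = 1 := by rw [c.zz]; group

omit [Finite G] h in
theorem yc : ∀ x ∈ X, x * (g * z * g⁻¹) = (g * z * g⁻¹) * x := by
  intro x hx
  have h1 := c.z_cent _ (m.le (m.conj' hx))
  calc x * (g * z * g⁻¹) = g * ((g⁻¹ * x * g) * z) * g⁻¹ := by group
    _ = g * (z * (g⁻¹ * x * g)) * g⁻¹ := by rw [h1]
    _ = (g * z * g⁻¹) * x := by group

omit [Finite G] h in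
theorem f0 : ∀ x ∈ X, g⁻¹ * x * g ∈ Ker S P → (g * e * g⁻¹) * x * (g * e * g⁻¹)⁻¹ = x := by
  intro x hx hxK
  calc (g * e * g⁻¹) * x * (g * e * g⁻¹)⁻¹ = g * (e * (g⁻¹ * x * g) * e⁻¹) * g⁻¹ := by group
    _ = x := by rw [c.act0 _ (m.conj' hx) hxK]; group

omit [Finite G] h in
theorem f1 : ∀ x ∈ X, g⁻¹ * x * g ∉ Ker S P → (g * e * g⁻¹) * x * (g * e * g⁻¹)⁻¹ = (g * z * g⁻¹) * x := by
  intro x hx hxK
  calc (g * e * g⁻¹) * x * (g * e * g⁻¹)⁻¹ = g * (e * (g⁻¹ * x * g) * e⁻¹) * g⁻¹ := by group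
    _ = (g * z * g⁻¹) * x := by rw [c.act1 _ (m.conj' hx) hxK]; group

omit h in
/-- (6) -/
theorem cent_y {x : G} (hx : x ∈ (S : Subgroup G)) (hxy : x * (g * z * g⁻¹) = (g * z * g⁻¹) * x) : x ∈ X := by
  set y : G := g * z * g⁻¹ with hy
  set f : G := g * e * g⁻¹ with hf
  have hyX : y ∈ X := c.yX m
  have hyS : y ∈ (S : Subgroup G) := m.le hyX
  have hzS : z ∈ (S : Subgroup G) := m.le c.zX
  have hyy : y * y = 1 := c.yy
  have hgy : g⁻¹ * y * g = z := by rw [hy]; group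
  have hfy : f * y * f⁻¹ = y := c.f0 m y hyX (by rw [hgy]; exact c.zK)
  have hfz : f * z * f⁻¹ = y * z := c.f1 m z c.zX c.zK'
  have hey : e * y * e⁻¹ = z * y := c.act1 y hyX c.yK
  have hez : e * z * e⁻¹ = z := c.act0 z c.zX c.zK
  have hzy : z * y = y * z := (c.z_cent y hyS).symm
  -- `k = e f`
  have hkz : (e * f) * z * (e * f)⁻¹ = y := by
    calc (e * f) * z * (e * f)⁻¹ = e * (f * z * f⁻¹) * e⁻¹ := by group
      _ = (e * y * e⁻¹) * (e * z * e⁻¹) := by rw [hfz]; group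
      _ = (y * z) * z := by rw [hey, hez, hzy]
      _ = y := by rw [mul_assoc, c.zz, mul_one]
  have hky : (e * f) * y * (e * f)⁻¹ = z * y := by
    calc (e * f) * y * (e * f)⁻¹ = e * (f * y * f⁻¹) * e⁻¹ := by group
      _ = z * y := by rw [hfy, hey]
  set Y : Subgroup G := (S : Subgroup G) ⊓ centralizer ({y} : Set G) with hYdef
  have hYmem : ∀ t : G, t ∈ Y ↔ t ∈ (S : Subgroup G) ∧ t * y = y * t := by
    intro t
    rw [hYdef, mem_inf, mem_centralizer_singleton_iff]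
  have hXY : X ≤ Y := fun t ht => (hYmem t).2 ⟨m.le ht, c.yc m t ht⟩
  by_contra hxX
  have hcard : Nat.card X < Nat.card Y := by
    have hlt : X < Y := lt_of_le_of_ne hXY fun e1 => hxX (by rw [e1]; exact (hYmem x).2 ⟨hx, hxy⟩)
    exact Set.ncard_lt_ncard (by exact_mod_cast hlt) (Set.toFinite _)
  set V : Subgroup G := centralizer ({z, y} : Set G) with hV
  have hVmem : ∀ t : G, t ∈ V ↔ t * z = z * t ∧ t * y = y * t := by
    intro t
    rw [hV, mem_centralizer_iff]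
    constructor
    · intro h1
      exact ⟨(h1 z (by simp)).symm, (h1 y (by simp)).symm⟩
    · rintro ⟨h1, h2⟩ w hw
      rcases hw with rfl | hw
      · exact h1.symm
      · rw [Set.mem_singleton_iff] at hw
        rw [hw]; exact h2.symm
  have hYV : Y ≤ V := fun t ht => (hVmem t).2 ⟨c.z_cent t ((hYmem t).1 ht).1, ((hYmem t).1 ht).2⟩
  obtain ⟨T, hT, hYT⟩ := exists_isSyl (M := V) (Q := Y) (S.isPGroup'.to_le inf_le_left) hYV
  have hzT : z ∈ T := hYT ((hYmem z).2 ⟨hzS, hzy⟩)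
  -- conjugate `T` into `S`
  have hSz : IsSyl (S : Subgroup G) (centralizer ({z} : Set G)) := isSyl_of_le fun t ht =>
    mem_centralizer_singleton_iff.2 (c.z_cent t ht)
  obtain ⟨d, hd, hdT⟩ := hSz.conj_into hT.two (fun t ht =>
    mem_centralizer_singleton_iff.2 ((hVmem t).1 (hT.le ht)).1)
  have hdz : d * z * d⁻¹ = z := by
    rw [mem_centralizer_singleton_iff.1 hd]; group
  have hdy : d * y * d⁻¹ ∉ Ker S P := by
    intro h1
    have h2 := m.max Y d
    have h3 : Bad S P Y d := ⟨inf_le_left, fun t ht => hdT t (hYT ht), y, hXY hyX, fun h4 => c.yK (h4.2 h1)⟩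
    have := h2 h3
    omega
  -- Frattini
  have hkV : ∀ t ∈ V, (e * f) * t * (e * f)⁻¹ ∈ V := by
    intro t ht
    obtain ⟨h1, h2⟩ := (hVmem t).1 ht
    have h3 : (e * f) * t * (e * f)⁻¹ * y = y * ((e * f) * t * (e * f)⁻¹) := by
      have := congrArg (fun w => (e * f) * w * (e * f)⁻¹) h1
      calc (e * f) * t * (e * f)⁻¹ * y = (e * f) * t * (e * f)⁻¹ * ((e * f) * z * (e * f)⁻¹) := by rw [hkz]
        _ = (e * f) * (t * z) * (e * f)⁻¹ := by group
        _ = (e * f) * (z * t) * (e * f)⁻¹ := by rw [h1]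
        _ = ((e * f) * z * (e * f)⁻¹) * ((e * f) * t * (e * f)⁻¹) := by group
        _ = _ := by rw [hkz]
    have h4 : (e * f) * t * (e * f)⁻¹ * (z * y) = (z * y) * ((e * f) * t * (e * f)⁻¹) := by
      calc (e * f) * t * (e * f)⁻¹ * (z * y) = (e * f) * t * (e * f)⁻¹ * ((e * f) * y * (e * f)⁻¹) := by rw [hky]
        _ = (e * f) * (t * y) * (e * f)⁻¹ := by group
        _ = (e * f) * (y * t) * (e * f)⁻¹ := by rw [h2]
        _ = ((e * f) * y * (e * f)⁻¹) * ((e * f) * t * (e * f)⁻¹) := by group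
        _ = _ := by rw [hky]
    refine (hVmem _).2 ⟨?_, h3⟩
    have h5 : Commute ((e * f) * t * (e * f)⁻¹) y := h3
    have h6 : Commute ((e * f) * t * (e * f)⁻¹) (z * y) := h4
    have h7 := h6.mul_right h5
    have e1 : z * y * y = z := by rw [mul_assoc, hyy, mul_one]
    rw [e1] at h7
    exact h7.eq
  obtain ⟨c₁, hc₁, hc₁T⟩ := hT.conj_into (Q := T.map (MulAut.conj (e * f)).toMonoidHom) (hT.two.map _) (by
    rintro _ ⟨t, ht, rfl⟩
    exact hkV t (hT.le ht))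
  have hk1 : ∀ t ∈ T, (c₁ * (e * f)) * t * (c₁ * (e * f))⁻¹ ∈ T := by
    intro t ht
    have := hc₁T _ (conj_mem_map_conj ht (e * f))
    have e1 : (c₁ * (e * f)) * t * (c₁ * (e * f))⁻¹ = c₁ * (e * f * t * (e * f)⁻¹) * c₁⁻¹ := by group
    rw [e1]; exact this
  have hk1z : (c₁ * (e * f)) * z * (c₁ * (e * f))⁻¹ = y := by
    calc (c₁ * (e * f)) * z * (c₁ * (e * f))⁻¹ = c₁ * ((e * f) * z * (e * f)⁻¹) * c₁⁻¹ := by group
      _ = c₁ * y * c₁⁻¹ := by rw [hkz]
      _ = y := by rw [((hVmem c₁).1 hc₁).2]; group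
  set k : G := c₁ * (e * f) with hk
  have hbad : Bad S P (T.map (MulAut.conj d).toMonoidHom) (d * k * d⁻¹) := by
    refine ⟨?_, ?_, z, ?_, ?_⟩
    · rintro _ ⟨t, ht, rfl⟩
      exact hdT t ht
    · rintro _ ⟨t, ht, rfl⟩
      change (d * k * d⁻¹) * (d * t * d⁻¹) * (d * k * d⁻¹)⁻¹ ∈ (S : Subgroup G)
      have e1 : (d * k * d⁻¹) * (d * t * d⁻¹) * (d * k * d⁻¹)⁻¹ = d * (k * t * k⁻¹) * d⁻¹ := by group
      rw [e1]
      exact hdT _ (hk1 t ht)
    · have := conj_mem_map_conj hzT d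
      rwa [hdz] at this
    · intro h1
      have e1 : (d * k * d⁻¹) * z * (d * k * d⁻¹)⁻¹ = d * y * d⁻¹ := by
        have h2 : d⁻¹ * z * d = z := by
          calc d⁻¹ * z * d = d⁻¹ * (d * z * d⁻¹) * d := by rw [hdz]
            _ = z := by group
        calc (d * k * d⁻¹) * z * (d * k * d⁻¹)⁻¹ = d * (k * (d⁻¹ * z * d) * k⁻¹) * d⁻¹ := by group
          _ = d * y * d⁻¹ := by rw [h2, hk1z]
      rw [e1] at h1
      exact hdy (h1.1 c.zK)
  have h1 := m.max _ _ hbad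
  rw [card_map_conj] at h1
  have h2 : Nat.card Y ≤ Nat.card T := Subgroup.card_le_of_le hYT
  omega

omit m in
/-- the diagonal -/
theorem delta_mem (hc : ∀ x ∈ (S : Subgroup G), x * (g * z * g⁻¹) = (g * z * g⁻¹) * x → x ∈ X)
    (hyS : g * z * g⁻¹ ∈ (S : Subgroup G)) {u : G} (hu : u ∈ P false) :
    u * ((g * z * g⁻¹) * u * (g * z * g⁻¹)⁻¹) ∈ X := by
  set y : G := g * z * g⁻¹ with hy
  have hyy : y * y = 1 := c.yy
  have hyi : y⁻¹ = y := inv_eq_of_mul_eq_one_left hyy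
  have h1 : y * u * y⁻¹ ∈ P (!false) := h.swap hyS c.yK false hu
  have h2 := h.comm false u hu _ h1
  refine hc _ (mul_mem (h.le _ hu) (h.le _ h1)) ?_
  rw [hyi] at h2 ⊢
  calc u * (y * u * y) * y = u * y * u * (y * y) := by group
    _ = u * y * u := by rw [hyy, mul_one]
    _ = (y * y) * (u * y * u) := by rw [hyy, one_mul]
    _ = y * ((y * u * y) * u) := by group
    _ = y * (u * (y * u * y)) := by rw [h2]

/-- (8) -/
theorem card_le : Nat.card (P false) ≤ 2 := by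
  set y : G := g * z * g⁻¹ with hy
  set f : G := g * e * g⁻¹ with hf
  have hyX : y ∈ X := c.yX m
  have hyS : y ∈ (S : Subgroup G) := m.le hyX
  have hyy : y * y = 1 := c.yy
  have hyi : y⁻¹ = y := inv_eq_of_mul_eq_one_left hyy
  have hcX : ∀ x ∈ (S : Subgroup G), x * y = y * x → x ∈ X := fun x hx hxy => c.cent_y m hx hxy
  have hyP : ∀ i, ∀ u ∈ P i, y * u * y⁻¹ ∈ P (!i) := fun i u hu => h.swap hyS c.yK i hu
  -- the diagonal
  let D : Subgroup G :=
    { carrier := {w | ∃ u ∈ P false, w = u * (y * u * y⁻¹)}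
      one_mem' := ⟨1, one_mem _, by group⟩
      mul_mem' := by
        rintro _ _ ⟨u, hu, rfl⟩ ⟨v, hv, rfl⟩
        refine ⟨u * v, mul_mem hu hv, ?_⟩
        have h1 := h.comm false v hv _ (hyP false u hu)
        calc u * (y * u * y⁻¹) * (v * (y * v * y⁻¹)) = u * ((y * u * y⁻¹) * v) * (y * v * y⁻¹) := by group
          _ = u * (v * (y * u * y⁻¹)) * (y * v * y⁻¹) := by rw [h1]
          _ = u * v * (y * (u * v) * y⁻¹) := by group
      inv_mem' := by
        rintro _ ⟨u, hu, rfl⟩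
        refine ⟨u⁻¹, inv_mem hu, ?_⟩
        have h1 := h.comm false u hu _ (hyP false u hu)
        rw [h1]; group }
  have hDmem : ∀ w, w ∈ D ↔ ∃ u ∈ P false, w = u * (y * u * y⁻¹) := fun w => Iff.rfl
  have hDX : D ≤ X := by
    rintro _ ⟨u, hu, rfl⟩
    exact c.delta_mem h hcX hyS hu
  have hDn : ∀ x ∈ X, ∀ w ∈ D, x * w * x⁻¹ ∈ D := by
    rintro x hx _ ⟨u, hu, rfl⟩
    have hxy := c.yc m x hx
    rw [← hy] at hxy
    have e1 : x * (u * (y * u * y⁻¹)) * x⁻¹ = (x * u * x⁻¹) * (y * (x * u * x⁻¹) * y⁻¹) := by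
      calc x * (u * (y * u * y⁻¹)) * x⁻¹ = (x * u * x⁻¹) * ((x * y) * u * (x * y)⁻¹) := by group
        _ = (x * u * x⁻¹) * ((y * x) * u * (y * x)⁻¹) := by rw [hxy]
        _ = _ := by group
    rw [e1]
    by_cases hxK : x ∈ Ker S P
    · exact ⟨_, Two.ker_conj hxK false hu, rfl⟩
    · have h1 : x * u * x⁻¹ ∈ P (!false) := h.swap (m.le hx) hxK false hu
      have h2 : y * (x * u * x⁻¹) * y⁻¹ ∈ P (!(!false)) := hyP _ _ h1
      rw [Bool.not_not] at h2
      refine ⟨_, h2, ?_⟩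
      have e2 : y * (y * (x * u * x⁻¹) * y⁻¹) * y⁻¹ = x * u * x⁻¹ := by
        calc y * (y * (x * u * x⁻¹) * y⁻¹) * y⁻¹ = (y * y) * (x * u * x⁻¹) * (y * y)⁻¹ := by group
          _ = _ := by rw [hyy]; group
      rw [e2]
      exact (h.comm false _ h2 _ h1).symm
  set D3 : Subgroup G := D ⊓ (Ker S P).map (MulAut.conj g).toMonoidHom with hD3
  have hD3n : ∀ x ∈ X, ∀ w ∈ D3, x * w * x⁻¹ ∈ D3 := by
    rintro x hx w ⟨hw1, hw2⟩
    refine ⟨hDn x hx w hw1, ?_⟩
    have hw2' := mem_map_conj.1 hw2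
    refine mem_map_conj.2 ?_
    have e1 : g⁻¹ * (x * w * x⁻¹) * g = (g⁻¹ * x * g) * (g⁻¹ * w * g) * (g⁻¹ * x * g)⁻¹ := by group
    rw [e1]
    exact h.conj_mem_ker hw2' (m.le (m.conj' hx))
  have hD3X : D3 ≤ X := inf_le_left.trans hDX
  by_cases hne : D3 = ⊥
  · -- `|D| ≤ 2`
    have key : ∀ u ∈ P false, u ≠ 1 → g⁻¹ * (u * (y * u * y⁻¹)) * g ∉ Ker S P := by
      intro u hu hu1 h1
      have h2 : u * (y * u * y⁻¹) ∈ D3 := ⟨⟨u, hu, rfl⟩, mem_map_conj.2 h1⟩
      rw [hne, mem_bot] at h2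
      have h3 := h.eq_of_mul (i := false) hu (one_mem _) (hyP false u hu) (one_mem _) (by rw [h2, one_mul])
      exact hu1 h3.1
    have key2 : ∀ u ∈ P false, ∀ v ∈ P false, u ≠ 1 → v ≠ 1 → u = v := by
      intro u hu v hv hu1 hv1
      by_contra huv
      have hv1' : v⁻¹ ≠ 1 := fun e => hv1 (inv_eq_one.1 e)
      have hX1 := m.le (m.conj' (hDX ⟨u, hu, rfl⟩))
      have hX2 := m.le (m.conj' (hDX ⟨v⁻¹, inv_mem hv, rfl⟩))
      have h1 := h.mul_mem_ker hX1 hX2 (key u hu hu1) (key _ (inv_mem hv) hv1')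
      refine key (u * v⁻¹) (mul_mem hu (inv_mem hv)) (fun e => huv (mul_inv_eq_one.1 e)) ?_
      have h2 := h.comm false _ (inv_mem hv) _ (hyP false u hu)
      have e1 : u * v⁻¹ * (y * (u * v⁻¹) * y⁻¹) = (u * (y * u * y⁻¹)) * (v⁻¹ * (y * v⁻¹ * y⁻¹)) := by
        calc u * v⁻¹ * (y * (u * v⁻¹) * y⁻¹) = u * (v⁻¹ * (y * u * y⁻¹)) * (y * v⁻¹ * y⁻¹) := by group
          _ = u * ((y * u * y⁻¹) * v⁻¹) * (y * v⁻¹ * y⁻¹) := by rw [h2]
          _ = _ := by group
      have e2 : g⁻¹ * (u * v⁻¹ * (y * (u * v⁻¹) * y⁻¹)) * g =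
          (g⁻¹ * (u * (y * u * y⁻¹)) * g) * (g⁻¹ * (v⁻¹ * (y * v⁻¹ * y⁻¹)) * g) := by
        rw [e1]; group
      rw [e2]; exact h1
    by_cases hex : ∃ u ∈ P false, u ≠ 1
    · obtain ⟨u, hu, hu1⟩ := hex
      have hsub : ((P false : Subgroup G) : Set G) ⊆ {1, u} := by
        intro v hv
        by_cases hv1 : v = 1
        · left; exact hv1
        · right; exact key2 v hv u hu hv1 hu1
      have h1 := Set.ncard_le_ncard hsub (Set.toFinite _)
      have h2 : ({1, u} : Set G).ncard ≤ 2 := (Set.ncard_insert_le _ _).trans (by rw [Set.ncard_singleton])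
      exact h1.trans h2
    · push Not at hex
      exact absurd ((eq_bot_iff_forall _).2 hex) (h.ne false)
  · exfalso
    obtain ⟨w, hw, ow, hwc⟩ := exists_fix (S := (S : Subgroup G)) S.isPGroup' m.le (hD3X.trans m.le) hne hD3n
    obtain ⟨s, hs, hws⟩ := (hDmem w).1 hw.1
    have hww : w * w = 1 := sq_of_orderOf ow
    have hw1 : w ≠ 1 := ne_one_of_orderOf ow
    have hsy := hyP false s hs
    have hcs := h.comm false s hs _ hsy
    set s' : G := y * s * y⁻¹ with hs'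
    have hss : s * s = 1 := by
      have e1 : (s * s) * (s' * s') = 1 * 1 := by
        calc (s * s) * (s' * s') = s * (s * s') * s' := by group
          _ = s * (s' * s) * s' := by rw [hcs]
          _ = w * w := by rw [hws]; group
          _ = 1 * 1 := by rw [hww, one_mul]
      exact (h.eq_of_mul (i := false) (mul_mem hs hs) (one_mem _) (mul_mem hsy hsy) (one_mem _) e1).1
    have hs1 : s ≠ 1 := by
      rintro rfl
      apply hw1
      rw [hws, hs']; group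
    have hsi : s⁻¹ = s := inv_eq_of_mul_eq_one_left hss
    have hs's' : s' * s' = 1 := by
      calc s' * s' = y * (s * s) * y⁻¹ := by rw [hs']; group
        _ = 1 := by rw [hss]; group
    have hwX : w ∈ X := hD3X hw
    have hwK : w ∈ Ker S P := by
      rw [hws]; exact mul_mem (h.le_ker _ hs) (h.le_ker _ hsy)
    have hwK' : g⁻¹ * w * g ∈ Ker S P := mem_map_conj.1 hw.2
    have hsa : ∀ x ∈ X, s * x * s⁻¹ = x ∨ s * x * s⁻¹ = w * x := by
      intro x hx
      have h1 : (x * s * x⁻¹) * (x * s' * x⁻¹) = s * s' := by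
        calc (x * s * x⁻¹) * (x * s' * x⁻¹) = x * (s * s') * x⁻¹ := by group
          _ = s * s' := by rw [← hws, hwc x hx]; group
      by_cases hxK : x ∈ Ker S P
      · left
        have h2 := (h.eq_of_mul (Two.ker_conj hxK false hs) hs (Two.ker_conj hxK _ hsy) hsy h1).1
        calc s * x * s⁻¹ = (x * s * x⁻¹) * x * s⁻¹ := by rw [h2]
          _ = x := by group
      · right
        have h3 : x * s * x⁻¹ ∈ P (!false) := h.swap (m.le hx) hxK false hs
        have h4 : x * s' * x⁻¹ ∈ P (!(!false)) := h.swap (m.le hx) hxK _ hsy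
        rw [Bool.not_not] at h4
        have h5 : (x * s' * x⁻¹) * (x * s * x⁻¹) = s * s' := by
          rw [h.comm false _ h4 _ h3]; exact h1
        have h6 := (h.eq_of_mul h4 hs h3 hsy h5).2
        calc s * x * s⁻¹ = s * (x * s * x⁻¹)⁻¹ * x := by group
          _ = s * s'⁻¹ * x := by rw [h6]
          _ = w * x := by rw [inv_eq_of_mul_eq_one_left hs's', hws]
    have hsN : s ∈ normalizer (X : Set G) := by
      refine mem_norm fun x hx => ?_
      rcases hsa x hx with h1 | h1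
      · rw [h1]; exact hx
      · rw [h1]; exact mul_mem hwX hx
    have hsw : s * w * s⁻¹ = w := by
      rw [hws]
      calc s * (s * s') * s⁻¹ = s * (s' * s) * s⁻¹ := by rw [hcs]
        _ = s * s' := by group
    have hfa : ∀ x ∈ X, f * x * f⁻¹ = x ∨ f * x * f⁻¹ = y * x := fun x hx => by
      by_cases hxK : g⁻¹ * x * g ∈ Ker S P
      · exact Or.inl (c.f0 m x hx hxK)
      · exact Or.inr (c.f1 m x hx hxK)
    have hfw : f * w * f⁻¹ = w := c.f0 m w hwX hwK'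
    have hgy : g⁻¹ * y * g = z := by rw [hy]; group
    have hfy : f * y * f⁻¹ = y := c.f0 m y hyX (by rw [hgy]; exact c.zK)
    refine m.no_pow h hs c.e_mem hss c.ee hs1 c.e_ne hsN c.e_norm 2 ?_
    rw [mem_centralizer_iff]
    intro x hx
    exact (four_of (a := s) (b := f) hwX hyX hww hyy (c.yc m) hsa hfa hsw hfw hfy x hx).symm

end Conf

end

/-- **END2, fusion form.** -/
theorem mem_ker_of_conj [Finite G] {S : Sylow 2 G} {P : Bool → Subgroup G} (h : Two S P)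
    (h2 : 2 < Nat.card (P false)) {x g : G} (hx : x ∈ Ker S P) (hg : g * x * g⁻¹ ∈ (S : Subgroup G)) :
    g * x * g⁻¹ ∈ Ker S P := by
  by_contra hcon
  have hbad : Bad S P (zpowers x) g := by
    refine ⟨by rw [zpowers_le]; exact Two.ker_le hx, ?_, x, mem_zpowers x, fun h1 => hcon (h1.1 hx)⟩
    intro t ht
    obtain ⟨n, rfl⟩ := mem_zpowers_iff.1 ht
    rw [← conj_zpow]
    exact zpow_mem hg n
  obtain ⟨X, k, m⟩ := exists_mx h ⟨_, _, hbad⟩
  obtain ⟨e, z, c⟩ := exists_conf h m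
  have := c.card_le h m
  omega

theorem isStronglyClosed [Finite G] {S : Sylow 2 G} {P : Bool → Subgroup G} (h : Two S P)
    (h2 : 2 < Nat.card (P false)) : Cfsg.IsStronglyClosed (Ker S P) (S : Subgroup G) :=
  ⟨Two.ker_le, fun _ hx _ hg => mem_ker_of_conj h h2 hx hg⟩

end Cfsg.Agent.UGT.A7.EndTwo
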