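import Mathlib
import Cfsg.Agent.UGT.A7.EndTwo
import Cfsg.Agent.PermParts.Consumer
import Cfsg.Agent.SignalizersComponents.IntrinsicBasic

/-!
# END2, simple form

A simple group has no two commuting parts, permuted by a Sylow 2-subgroup, with strongly closed union, such that every
involution of a part lies in a four-subgroup of the part.
-/

set_option autoImplicit false
set_option linter.style.haveILetI false

namespace Cfsg.Agent.UGT.A7.EndTwoS

open Subgroup Cfsg Cfsg.Agent.UGT.A7.EndTwo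
open Cfsg.Agent.SignalizersComponents.IntrinsicBasic (cj conj_mem_cj)
open Cfsg.Agent.OddHalf.D3.Fus (exists_fix orderOf_eq_two_of_sq sq_of_orderOf ne_one_of_orderOf)

universe u

variable {G : Type u} [Group G] [Finite G]

theorem bool_eq_not {i j : Bool} (h : j ≠ i) : j = !i := by cases i <;> cases j <;> simp_all

/-- **END2.** -/
theorem false_of_two [IsSimpleGroup G] {S : Sylow 2 G} {P : Bool → Subgroup G} (h : Two S P)
    (hr : ∀ i, ∀ x ∈ P i, orderOf x = 2 → ∃ y ∈ P i, orderOf y = 2 ∧ y ≠ x ∧ x * y = y * x) : False := by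
  haveI : Fact (Nat.Prime 2) := ⟨Nat.prime_two⟩
  -- `2 < |P false|`
  have hcard : 2 < Nat.card (P false) := by
    obtain ⟨e, he, oe, -⟩ := exists_fix (S := (S : Subgroup G)) (X := P false) (D := P false) S.isPGroup'
      (h.le false) (h.le false) (h.ne false) (fun x hx d hd => mul_mem (mul_mem hx hd) (inv_mem hx))
    obtain ⟨y, hy, oy, hye, -⟩ := hr false e he oe
    have hsub : ({1, e, y} : Set G) ⊆ ((P false : Subgroup G) : Set G) := by
      rintro x (rfl | rfl | hx)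
      · exact one_mem _
      · exact he
      · rw [Set.mem_singleton_iff] at hx; rw [hx]; exact hy
    have h1 := Set.ncard_le_ncard hsub (Set.toFinite _)
    have h2 : ({1, e, y} : Set G).ncard = 3 := by
      rw [Set.ncard_eq_three]
      exact ⟨1, e, y, (ne_one_of_orderOf oe).symm, (ne_one_of_orderOf oy).symm, hye.symm, rfl⟩
    have h3 : ((P false : Subgroup G) : Set G).ncard = Nat.card (P false) := rfl
    omega
  have hcl := EndTwo.isStronglyClosed h hcard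
  have hfam := Cfsg.Agent.TwoFusion.ClosedFam.isClosedFam_of_isStronglyClosed S _ hcl
  have hdata : Cfsg.Agent.PermParts.OfProd.Data {x : G | ∃ g : G, g * x * g⁻¹ ∈ Ker S P} S P := by
    refine ⟨hfam, ?_, ?_, ?_, ?_⟩
    · intro i x hx
      exact ⟨⟨1, by simpa using h.le_ker i hx⟩, h.le i hx⟩
    · rintro i x hx q hq ⟨g, hg⟩
      have hqK : q ∈ Ker S P := by
        have e : g⁻¹ * (g * q * g⁻¹) * g⁻¹⁻¹ = q := by group
        have := hcl.2 _ hg g⁻¹ (by rw [e]; exact hq)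
        rwa [e] at this
      exact Two.ker_conj hqK i hx
    · intro i x hx hx'
      refine h.inf i x hx ?_
      have hle : (⨆ j : {j // j ≠ i}, P j : Subgroup G) ≤ P (!i) := by
        refine iSup_le fun j => ?_
        rw [bool_eq_not j.2]
      exact hle hx'
    · intro i x hx g hg
      exact h.closed i x hx g hg
  have h1 := Cfsg.Agent.PermParts.Consumer.eq_of_data hdata hr (i := false) (j := true) (h.ne false) (h.ne true)
  exact Bool.false_ne_true h1

/-- **END2**, explicit form. -/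
theorem false_of_pair [IsSimpleGroup G] (S : Sylow 2 G) {P₁ P₂ : Subgroup G} (le₁ : P₁ ≤ (S : Subgroup G))
    (le₂ : P₂ ≤ (S : Subgroup G)) (ne₁ : P₁ ≠ ⊥) (ne₂ : P₂ ≠ ⊥) (comm : ∀ u ∈ P₁, ∀ v ∈ P₂, u * v = v * u)
    (inf : ∀ x ∈ P₁, x ∈ P₂ → x = 1)
    (perm : ∀ g ∈ (S : Subgroup G),
      ((∀ u ∈ P₁, g * u * g⁻¹ ∈ P₁) ∧ ∀ u ∈ P₂, g * u * g⁻¹ ∈ P₂) ∨
      ((∀ u ∈ P₁, g * u * g⁻¹ ∈ P₂) ∧ ∀ u ∈ P₂, g * u * g⁻¹ ∈ P₁))
    (closed₁ : ∀ x ∈ P₁, ∀ g : G, g * x * g⁻¹ ∈ (S : Subgroup G) → g * x * g⁻¹ ∈ P₁ ∨ g * x * g⁻¹ ∈ P₂)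
    (closed₂ : ∀ x ∈ P₂, ∀ g : G, g * x * g⁻¹ ∈ (S : Subgroup G) → g * x * g⁻¹ ∈ P₁ ∨ g * x * g⁻¹ ∈ P₂)
    (rich₁ : ∀ x ∈ P₁, orderOf x = 2 → ∃ y ∈ P₁, orderOf y = 2 ∧ y ≠ x ∧ x * y = y * x)
    (rich₂ : ∀ x ∈ P₂, orderOf x = 2 → ∃ y ∈ P₂, orderOf y = 2 ∧ y ≠ x ∧ x * y = y * x) : False := by
  have h : Two S (fun b : Bool => cond b P₂ P₁) := by
    refine ⟨?_, ?_, ?_, ?_, ?_, ?_⟩
    · rintro (_ | _)
      · exact le₁
      · exact le₂
    · rintro (_ | _)
      · exact ne₁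
      · exact ne₂
    · rintro (_ | _) u hu v hv
      · exact comm u hu v hv
      · exact (comm v hv u hu).symm
    · rintro (_ | _) x hx hx'
      · exact inf x hx hx'
      · exact inf x hx' hx
    · intro g hg
      rcases perm g hg with ⟨h1, h2⟩ | ⟨h1, h2⟩
      · left
        rintro (_ | _) u hu
        · exact h1 u hu
        · exact h2 u hu
      · right
        rintro (_ | _) u hu
        · exact h1 u hu
        · exact h2 u hu
    · rintro (_ | _) x hx g hg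
      · rcases closed₁ x hx g hg with h1 | h1
        · exact ⟨false, h1⟩
        · exact ⟨true, h1⟩
      · rcases closed₂ x hx g hg with h1 | h1
        · exact ⟨false, h1⟩
        · exact ⟨true, h1⟩
  refine false_of_two h ?_
  rintro (_ | _)
  · exact rich₁
  · exact rich₂

/-! ### Parts isomorphic to the dihedral group of order 8 -/

/-- two commuting involutions of a copy of the dihedral group of order 8 -/
theorem exists_pair_of_dihedral {P : Subgroup G} (φ : ↥P ≃* DihedralGroup 4) :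
    ∃ a ∈ P, ∃ b ∈ P, orderOf a = 2 ∧ orderOf b = 2 ∧ a ≠ b := by
  have ha : orderOf (DihedralGroup.sr (0 : ZMod 4)) = 2 := DihedralGroup.orderOf_sr 0
  have hb : orderOf (DihedralGroup.sr (1 : ZMod 4)) = 2 := DihedralGroup.orderOf_sr 1
  refine ⟨φ.symm (DihedralGroup.sr 0), (φ.symm _).2, φ.symm (DihedralGroup.sr 1), (φ.symm _).2, ?_, ?_, ?_⟩
  · rw [Subgroup.orderOf_coe, MulEquiv.orderOf_eq, ha]
  · rw [Subgroup.orderOf_coe, MulEquiv.orderOf_eq, hb]
  · intro h1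
    have h2 := φ.symm.injective (Subtype.ext h1)
    rw [DihedralGroup.sr.injEq] at h2
    exact absurd h2 (by decide)

/-- every involution of a 2-group with two involutions commutes with another involution -/
theorem exists_partner {P : Subgroup G} (hP : IsPGroup 2 P) {a b : G} (ha : a ∈ P) (hb : b ∈ P)
    (oa : orderOf a = 2) (ob : orderOf b = 2) (hne : a ≠ b) {x : G} (hx : x ∈ P)
    (ox : orderOf x = 2) : ∃ y ∈ P, orderOf y = 2 ∧ y ≠ x ∧ x * y = y * x := by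
  have hPne : P ≠ ⊥ := by
    intro h
    rw [h, mem_bot] at hx
    exact ne_one_of_orderOf ox hx
  obtain ⟨z, hz, oz, hzc⟩ := exists_fix hP le_rfl le_rfl hPne (fun x hx d hd =>
    mul_mem (mul_mem hx hd) (inv_mem hx))
  by_cases hxz : z = x
  · subst hxz
    by_cases haz : a = z
    · refine ⟨b, hb, ob, ?_, (hzc b hb).symm⟩
      rintro rfl
      exact hne haz
    · exact ⟨a, ha, oa, haz, (hzc a ha).symm⟩
  · exact ⟨z, hz, oz, hxz, hzc x hx⟩

theorem ne_bot_of_dihedral {P : Subgroup G} (φ : ↥P ≃* DihedralGroup 4) : P ≠ ⊥ := by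
  obtain ⟨a, ha, -, -, oa, -, -⟩ := exists_pair_of_dihedral φ
  rintro rfl
  rw [mem_bot] at ha
  exact ne_one_of_orderOf oa ha

theorem rich_of_dihedral {P : Subgroup G} (hP : IsPGroup 2 P) (φ : ↥P ≃* DihedralGroup 4) :
    ∀ x ∈ P, orderOf x = 2 → ∃ y ∈ P, orderOf y = 2 ∧ y ≠ x ∧ x * y = y * x := by
  obtain ⟨a, ha, b, hb, oa, ob, hab⟩ := exists_pair_of_dihedral φ
  intro x hx ox
  exact exists_partner hP ha hb oa ob hab hx ox

/-- **END2 of World 2**: the parts are dihedral of order 8; `S` is any Sylow 2-subgroup in the form `IsSyl`. -/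
theorem false_of_dihedral [IsSimpleGroup G] (S : Sylow 2 G) {P₁ P₂ : Subgroup G} (le₁ : P₁ ≤ (S : Subgroup G))
    (le₂ : P₂ ≤ (S : Subgroup G)) (comm : ∀ x ∈ P₁, ∀ y ∈ P₂, x * y = y * x) (inf : P₁ ⊓ P₂ = ⊥)
    (perm : ∀ s ∈ (S : Subgroup G), (cj s P₁ = P₁ ∧ cj s P₂ = P₂) ∨ (cj s P₁ = P₂ ∧ cj s P₂ = P₁))
    (closed : ∀ x, (x ∈ P₁ ∨ x ∈ P₂) → ∀ g : G, g * x * g⁻¹ ∈ (S : Subgroup G) → g * x * g⁻¹ ∈ P₁ ∨ g * x * g⁻¹ ∈ P₂)
    (d₁ : Nonempty (↥P₁ ≃* DihedralGroup 4)) (d₂ : Nonempty (↥P₂ ≃* DihedralGroup 4)) : False := by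
  obtain ⟨d₁⟩ := d₁
  obtain ⟨d₂⟩ := d₂
  refine false_of_pair S le₁ le₂ (ne_bot_of_dihedral d₁) (ne_bot_of_dihedral d₂) comm ?_ ?_ ?_ ?_
    (rich_of_dihedral (S.isPGroup'.to_le le₁) d₁) (rich_of_dihedral (S.isPGroup'.to_le le₂) d₂)
  · intro x hx hx'
    have h1 : x ∈ P₁ ⊓ P₂ := ⟨hx, hx'⟩
    rwa [inf, mem_bot] at h1
  · intro s hs
    rcases perm s hs with ⟨h1, h2⟩ | ⟨h1, h2⟩
    · left
      exact ⟨fun u hu => by rw [← h1]; exact conj_mem_cj hu, fun u hu => by rw [← h2]; exact conj_mem_cj hu⟩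
    · right
      exact ⟨fun u hu => by rw [← h1]; exact conj_mem_cj hu, fun u hu => by rw [← h2]; exact conj_mem_cj hu⟩
  · exact fun x hx g hg => closed x (Or.inl hx) g hg
  · exact fun x hx g hg => closed x (Or.inr hx) g hg

end Cfsg.Agent.UGT.A7.EndTwoS
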