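import Cfsg.Agent.UGT.A7.BFour
import Cfsg.Agent.UAlt.CaseDA

/-!
# Case I of (β'): `m₂(C(a) ∩ C(L / O(L))) = 1` for all `(l, a, L)`, `l ∈ L`, implies (β')

* `Max G m`: elementary subgroups of the groups `FF x a L` have order at most `m`.
* `exists_special`: a special triple of maximal rank.
* `pump_triv`, `noMoved`: trivial pump-ups along the involutions of an elementary group of maximal order.
* `core_caseI`: special triples of maximal rank.
* `betaP`: **(β')**.
-/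

set_option autoImplicit false
set_option linter.unusedSectionVars false

open Cfsg Subgroup Equiv Equiv.Perm
open Cfsg.Agent.UAlt
open Cfsg.Agent.SignalizersComponents Cfsg.Agent.Lib
open Cfsg.Agent.SignalizersComponents.IntrinsicBasic
open Cfsg.Agent.SignalizersComponents.IntrinsicIntr
open Cfsg.Agent.Intrinsic.Basic Cfsg.Agent.Intrinsic.Cen Cfsg.Agent.Intrinsic.Diag
open Cfsg.Agent.McLLyComp.Act
open Cfsg.Agent.UGT.Triple Cfsg.Agent.UGT.PumpGen Cfsg.Agent.UGT.TriBase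
open Cfsg.Agent.UGT.A7.Mu Cfsg.Agent.UGT.A7.BPerm
open Cfsg.Agent.UGT.Iface (Bar IsL2 IsAlt IsInner)
open scoped commutatorElement

namespace Cfsg.Agent.UGT.A7.BCaseI

section defs

variable (G : Type*) [Group G]

/-- elementary subgroups of the groups `FF x a L` have order at most `m` -/
def Max (m : ℕ) : Prop := ∀ (x a : G) (L E : Subgroup G), T7 x a L → E ≤ FF x a L →
  (∀ e ∈ E, e * e = 1) → Nat.card E ≤ m

/-- `m₂(C(a) ∩ C(L / O(L))) = 1` for the triples `(l, a, L)`, `l ∈ L` -/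
def One : Prop := ∀ (l a : G) (L : Subgroup G), T7 l a L → l ∈ L → ∀ q, q * q = 1 → q * a = a * q →
  Fixes q L → q = 1 ∨ q = a

end defs

variable {G : Type*} [Group G] [Finite G] {x a l y : G} {L E Q K : Subgroup G} {m : ℕ}

/-- elementary groups of order `≥ 3` have elements outside `{1, a}` -/
theorem exists_ne (h : 3 ≤ Nat.card E) (a : G) : ∃ e ∈ E, e ≠ 1 ∧ e ≠ a := by
  by_contra hcon
  push Not at hcon
  have h1 : (E : Set G) ⊆ {1, a} := by
    intro e he
    by_cases h : e = 1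
    · exact Or.inl h
    · exact Or.inr (hcon e he h)
  have h2 := Set.ncard_le_ncard h1 (Set.toFinite _)
  have h3 : ({1, a} : Set G).ncard ≤ 2 := (Set.ncard_insert_le _ _).trans (by
    rw [Set.ncard_singleton])
  rw [← Nat.card_coe_set_eq] at h2
  have h4 : Nat.card (E : Set G) = Nat.card E := rfl
  omega

/-- no triple `(l, a, L)`, `l ∈ L`, if `FF` contains an elementary group of order `≥ 3` -/
theorem not_inner (h1 : One G) (hE : ∀ e ∈ E, e * e = 1 ∧ e * a = a * e ∧ Fixes e L)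
    (h3 : 3 ≤ Nat.card E) (T : T7 l a L) (hl : l ∈ L) : False := by
  obtain ⟨e, he, he1, hea⟩ := exists_ne h3 a
  obtain ⟨h2, h4, h5⟩ := hE e he
  rcases h1 l a L T hl e h2 h4 h5 with h | h
  · exact he1 h
  · exact hea h

/-- `a ∈ E` for `E` of maximal order -/
theorem mem_of_max (hmax : Max G m) (T : T7 x a L) (hE : E ≤ FF x a L) (hsq : ∀ e ∈ E, e * e = 1)
    (hm : Nat.card E = m) {u : G} (hu : u ∈ FF x a L) (huu : u * u = 1)
    (huE : ∀ e ∈ E, e * u = u * e) : u ∈ E := by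
  by_contra hn
  obtain ⟨E', h1, h2, h3, h5, h6⟩ := exists_adjoin hsq huu hn huE
  have h7 := hmax x a L E' T (fun g hg => by
    rcases h3 g hg with h | h
    · exact hE h
    · have := mul_mem (hE h) (inv_mem hu)
      rwa [mul_inv_cancel_right] at this) h5
  have h8 : 0 < Nat.card E := Nat.card_pos
  omega

/-- **a special triple of maximal rank** -/
theorem exists_special (hP : Mu.Pump7 G) (h1 : One G) (hmax : Max G m) (h4 : 3 ≤ m) (T : T7 x a L)
    (hE : E ≤ FF x a L) (hsq : ∀ e ∈ E, e * e = 1) (hm : Nat.card E = m) :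
    ∃ (b : G) (N : Subgroup G), T7 x b N ∧ x * b ∈ N ∧ b ∈ E ∧ E ≤ FF x b N := by
  have haE := mem_of_max hmax T hE hsq hm T.a_mem T.aa fun e he => (hE he).1
  obtain ⟨M⟩ := T.a7
  obtain ⟨l, hl, hll, hlx, hlE, hφ⟩ := T.exists_l M (isPGroup_of_sq hsq)
    (fun e he => (hE he).2.2.1) fun e he => (hE he).2.1
  obtain ⟨hqF, hqq⟩ := T.q_mem M hl hll hlx hφ
  have hqE' : ∀ e ∈ E, e * (x * l) = (x * l) * e := by
    intro e he
    rw [← mul_assoc, (hE he).2.1, mul_assoc, ← hlE e he, mul_assoc]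
  have hqE := mem_of_max hmax T hE hsq hm hqF hqq hqE'
  by_cases hq1 : x * l = 1
  · exfalso
    have hx : x ∈ L := by
      have h1 : x = l⁻¹ := mul_eq_one_iff_eq_inv.mp hq1
      rw [h1]; exact inv_mem hl
    exact not_inner h1 (fun e he => ⟨hsq e he, (hE he).1, (hE he).2.2⟩) (by omega) T hx
  by_cases hqa : x * l = a
  · exact ⟨a, L, T, by rw [← hqa, ← mul_assoc, T.xx, one_mul]; exact hl, haE, hE⟩
  have hq2 : orderOf (x * l) = 2 := orderOf_eq_prime (by rw [pow_two]; exact hqq) hq1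
  obtain ⟨N, hN, h⟩ := T.pump hP hq2 hqF.1 hqF.2.1 hqF.2.2
  rcases h with ⟨hs, hfix⟩ | ⟨hne, hd⟩
  · have hlN : l ∈ N := by
      rw [← hs]
      refine mem_sup_left (mem_cen_of_sq hl ?_ hll)
      rw [← mul_assoc, hlx, mul_assoc]
    refine ⟨x * l, N, hN, ?_, hqE, fun e he =>
      ⟨hqE' e he, (hE he).2.1, hfix e (hE he).2.2 (hqE' e he)⟩⟩
    rw [← mul_assoc, T.xx, one_mul]; exact hlN
  · exfalso
    obtain ⟨E', e1, e2, e3⟩ := grow_diag T hq2 hE hsq haE hqE hN hne hd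
    have := hmax _ _ _ _ hN e1 e2
    have h5 : 0 < Nat.card E := Nat.card_pos
    omega

/-- **trivial pump-ups** -/
theorem pump_triv (hP : Mu.Pump7 G) (hmax : Max G m) (T : T7 x a L) (hE : E ≤ FF x a L)
    (hsq : ∀ e ∈ E, e * e = 1) (haE : a ∈ E) (hm : Nat.card E = m) {w : G} (hw : w ∈ E)
    (hw1 : w ≠ 1) : ∃ N, T7 x w N ∧ cen L w ≤ N ∧ Fixes a N := by
  by_cases hwa : w = a
  · subst hwa
    exact ⟨L, T, cen_le _ _, T.fixes_a⟩
  have hw2 : orderOf w = 2 := orderOf_eq_prime (by rw [pow_two]; exact hsq w hw) hw1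
  obtain ⟨N, hN, h⟩ := T.pump hP hw2 (hE hw).1 (hE hw).2.1 (hE hw).2.2
  rcases h with ⟨hs, hfix⟩ | ⟨hne, hd⟩
  · exact ⟨N, hN, le_sup_left.trans hs.le, hfix a T.fixes_a (hE hw).1.symm⟩
  · exfalso
    obtain ⟨E', e1, e2, e3⟩ := grow_diag T hw2 hE hsq haE hw hN hne hd
    have := hmax _ _ _ _ hN e1 e2
    have h5 : 0 < Nat.card E := Nat.card_pos
    omega

theorem card_label (M : M7 L) (hl : l ∈ L) (hll : l * l = 1) (hl1 : l ≠ 1) :
    (fixIn Finset.univ (M.φ l)).card = 3 := by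
  have h1 : M.φ l ≠ 1 := fun h => hl1 (eq_one_of_mem_core_sq ((M.core_iff l hl).mp h) hll)
  have h2 := M.mem_alt l hl
  rw [alt_univ] at h2
  exact BLem.card_of_isRoot (Star.isRoot_of_even (M.sq (le_normalizer hl) hll) h1 h2)

/-- **no 2-component of `C(l, w)` is moved by `y`** -/
theorem noMoved (hP : Mu.Pump7 G) (hmax : Max G m) (T : T7 x a L) (hE : E ≤ FF x a L)
    (hsq : ∀ e ∈ E, e * e = 1) (haE : a ∈ E) (hm : Nat.card E = m) (hl : l ∈ L) (hlo : orderOf l = 2)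
    (hlE : ∀ e ∈ E, l * e = e * l) (hy : ∀ e ∈ E, y ∈ cen L e)
    (hyl : y ∈ centralizer ({l} : Set G)) {w : G} (hw : w ∈ E) (hw1 : w ≠ 1) :
    ∀ J, IsComp (centralizer ({l} : Set G) ⊓ centralizer ({w} : Set G)) J → Fixes y J := by
  obtain ⟨N, hN, hle, hfa⟩ := pump_triv hP hmax T hE hsq haE hm hw hw1
  have hll := sq_of_order hlo
  have hlN : l ∈ N := hle (mem_cen_of_sq hl (hlE w hw) hll)
  obtain ⟨M'⟩ := hN.a7
  exact BLem.noMoved_of_pump (hE hw).1 T.aa hN.tri.comp (Or.inl hle) (hy w hw) hll (hlE w hw) hyl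
    ⟨le_normalizer hlN, M', by rw [card_label M' hlN hll (ne_one_of_order hlo)]; omega⟩
    fun h => absurd (mem_normalizer_iff_cj.mp hfa.1) h

/-! ### the elements `d`, `p`, `y = [d, p]` -/

/-- the situation of Case I: `x = l a`, `l ∈ L`, `Q` a 2-group of `FF x a L` -/
structure Sit (x a l y d p : G) (L Q P : Subgroup G) (M : M7 L) : Prop where
  T : T7 x a L
  hl : l ∈ L
  lx : l = x * a
  lo : orderOf l = 2
  lz : M.φ l = z0
  Q2 : IsPGroup 2 Q
  QF : Q ≤ FF x a L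
  PL : P ≤ L
  P2 : IsPGroup 2 P
  PQ : ∀ p ∈ P, ∀ q ∈ Q, p * q = q * p
  Pl : ∀ p ∈ P, p * l = l * p
  lP : l ∈ P
  Pφ : ∀ p ∈ P, M.φ p ∈ P0
  Ps : ∀ σ ∈ P0, ∃ p ∈ P, M.φ p = σ
  Pi : ∀ p ∈ P, M.φ p = 1 → p = 1
  pP : p ∈ P
  dx : d ∈ core (centralizer ({x} : Set G))
  dl : d ∈ centralizer ({l} : Set G)
  yeq : y = ⁅d, p⁆
  yx : y ∈ core (centralizer ({x} : Set G))
  ya : y ∈ centralizer ({a} : Set G)
  yl : y ∈ centralizer ({l} : Set G)
  ycen : ∀ q ∈ Q, y ∈ cen L q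
  yQ : ∀ q ∈ Q, q * y = y * q
  ymv : ¬ Fixes y L

theorem exists_sit (T : T7 x a L) (hxa : x * a ∈ L) (hQ2 : IsPGroup 2 Q) (hQF : Q ≤ FF x a L) :
    ∃ (l y d p : G) (P : Subgroup G) (M : M7 L), Sit x a l y d p L Q P M := by
  obtain ⟨M₀⟩ := T.a7
  obtain ⟨-, M, -, hx⟩ := BLem.exists_std T.tri M₀
  have hQx : ∀ r ∈ Q, r * x = x * r := fun r hr => (hQF hr).2.1
  have hQa : ∀ r ∈ Q, r * a = a * r := fun r hr => (hQF hr).1
  have hQL : ∀ r ∈ Q, Fixes r L := fun r hr => (hQF hr).2.2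
  obtain ⟨d, hd, hda, hdQ, hdf⟩ := BLem.exists_d T.tri hQ2 hQa hQx hQL
  obtain ⟨P, h1, h2, h3, h4, h5, h6, h7⟩ := BLem.exists_P T.tri M hx hQ2 hQx hQL
  obtain ⟨p, hp, hpφ⟩ := h6 _ BLem.p0_mem
  obtain ⟨l, hleq⟩ : ∃ l, l = x * a := ⟨_, rfl⟩
  have hl : l ∈ L := hleq ▸ hxa
  have hll : l * l = 1 := by
    rw [hleq]
    calc x * a * (x * a) = x * (a * x) * a := by group
      _ = x * (x * a) * a := by rw [T.ax]
      _ = (x * x) * (a * a) := by group
      _ = 1 := by rw [T.xx, T.aa, one_mul]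
  have hlx' : M.φ l = z0 := by
    rw [hleq, M.mul _ _ T.tri.x_mem T.fixes_a.1, (M.fixes_iff T.fixes_a.1).mpr T.fixes_a, mul_one, hx]
  have hl1 : l ≠ 1 := by
    rintro rfl
    rw [M.one] at hlx'
    exact absurd hlx' (by decide)
  have hlo : orderOf l = 2 := orderOf_eq_prime (by rw [pow_two, hll]) hl1
  have hcl : ∀ g, g * x = x * g → g * a = a * g → g * l = l * g := by
    intro g h8 h9
    rw [hleq, ← mul_assoc, h8, mul_assoc, h9, mul_assoc]
  have hPa : ∀ q ∈ P, q * a = a * q := fun q hq => comm_c (T.tri.comp.le (h1 hq))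
  have hPl : ∀ q ∈ P, q * l = l * q := fun q hq => hcl q (h4 q hq) (hPa q hq)
  have hlP : l ∈ P := by
    obtain ⟨r, hr, hrz⟩ := h6 z0 (by rw [mem_P0, mem_W0]; decide)
    have e1 : r * r = 1 := by
      apply h7 _ (mul_mem hr hr)
      rw [M.mul _ _ (le_normalizer (h1 hr)) (le_normalizer (h1 hr)), hrz]
      decide
    have e2 : l * r ∈ core L := by
      rw [← M.core_iff _ (mul_mem hl (h1 hr)), M.mul _ _ (le_normalizer hl) (le_normalizer (h1 hr)),
        hlx', hrz]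
      decide
    have e3 : l * r * (l * r) = 1 := by
      calc l * r * (l * r) = l * (r * l) * r := by group
        _ = l * (l * r) * r := by rw [hPl r hr]
        _ = (l * l) * (r * r) := by group
        _ = 1 := by rw [hll, e1, one_mul]
    have e4 := eq_one_of_mem_core_sq e2 e3
    have e5 : l = r⁻¹ := mul_eq_one_iff_eq_inv.mp e4
    rw [e5]
    exact inv_mem hr
  have hdN := T.tri.mem_normalizer_of_core hd hda
  have hpN := le_normalizer (h1 hp)
  have hlab := BLem.label_core T.tri M hx hd hda hdf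
  have hD1 : d * p * d⁻¹ ∈ L := (mem_normalizer_iff.mp hdN p).mp (h1 hp)
  obtain ⟨n, hn⟩ := h2 ⟨p, hp⟩
  have hpn : p ^ 2 ^ n = 1 := congrArg Subtype.val hn
  have hdpn : (d * p * d⁻¹) ^ 2 ^ n = 1 := by rw [conj_pow, hpn, mul_one, mul_inv_cancel]
  have hdx : d * x = x * d := comm_c (core_le _ hd)
  have hdl : d ∈ centralizer ({l} : Set G) := mem_c (hcl d hdx (comm_c hda))
  have hyQ : ∀ q ∈ Q, q * ⁅d, p⁆ = ⁅d, p⁆ * q := by
    intro q hq
    have e1 : Commute q d := hdQ q hq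
    have e2 : Commute q p := (h3 p hp q hq).symm
    rw [commutatorElement_def]
    exact ((e1.mul_right e2).mul_right e1.inv_right).mul_right e2.inv_right
  have hycore : ⁅d, p⁆ ∈ core (centralizer ({x} : Set G)) := by
    have h8 : ⁅d, p⁆ = d * (p * d⁻¹ * p⁻¹) := by rw [commutatorElement_def]; group
    rw [h8]
    exact mul_mem hd (conj_core (mem_c (h4 p hp)) (inv_mem hd))
  have hya : ⁅d, p⁆ ∈ centralizer ({a} : Set G) := by
    rw [commutatorElement_def]
    have hpb : p ∈ centralizer ({a} : Set G) := T.tri.comp.le (h1 hp)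
    exact mul_mem (mul_mem (mul_mem hda hpb) (inv_mem hda)) (inv_mem hpb)
  refine ⟨l, ⁅d, p⁆, d, p, P, M, T, hl, hleq, hlo, hlx', hQ2, hQF, h1, h2, h3, hPl, hlP, h5, h6, h7,
    hp, hd, hdl, rfl, hycore, hya, ?_, ?_, hyQ, BLem.comm_moved M hdN hpN hlab hpφ⟩
  · exact mem_c (hcl _ (comm_c (core_le _ hycore)) (comm_c hya))
  · intro q hq
    rw [commutatorElement_def]
    have e1 : Commute q d := hdQ q hq
    have e2 : Commute q p := (h3 p hp q hq).symm
    have e3 : Commute q (d * p * d⁻¹) := (e1.mul_right e2).mul_right e1.inv_right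
    exact mul_mem (mem_cen hD1 e3.symm.eq hdpn) (inv_mem (mem_cen (h1 hp) e2.symm.eq hpn))

/-! ### the 2-components of `C(l)` moved by `y` -/

section core

variable {d p : G} {P : Subgroup G} {M : M7 L}

theorem Sit.comm_l (S : Sit x a l y d p L Q P M) {g : G} (h1 : g * x = x * g) (h2 : g * a = a * g) :
    g * l = l * g := by
  rw [S.lx, ← mul_assoc, h1, mul_assoc, h2, mul_assoc]

theorem Sit.Ql (S : Sit x a l y d p L Q P M) {g : G} (h : g ∈ Q) : g * l = l * g :=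
  S.comm_l (S.QF h).2.1 (S.QF h).1

theorem Sit.xl (S : Sit x a l y d p L Q P M) : l * x = x * l := (S.comm_l rfl S.T.ax.symm).symm

theorem Sit.tri (S : Sit x a l y d p L Q P M) (hK : IsComp (centralizer ({l} : Set G)) K)
    (hf : ¬ Fixes y K) : IsTriple x l K := ⟨S.T.tri.invx, S.lo, S.xl, hK, y, S.yx, S.yl, hf⟩

theorem Sit.yK (S : Sit x a l y d p L Q P M) (hK : IsComp (centralizer ({l} : Set G)) K)
    (hf : ¬ Fixes y K) : y ∈ normalizer (K : Set G) :=
  (S.tri hK hf).mem_normalizer_of_core S.yx S.yl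

/-- `E` is faithful on `K / O(K)` -/
theorem Sit.faith (S : Sit x a l y d p L Q P M) (hP : Mu.Pump7 G) (hmax : Max G m) (hEQ : E ≤ Q)
    (hsq : ∀ e ∈ E, e * e = 1) (haE : a ∈ E) (hm : Nat.card E = m)
    (hK : IsComp (centralizer ({l} : Set G)) K) (hf : ¬ Fixes y K) :
    ∀ w ∈ E, w ≠ 1 → w ∈ normalizer (K : Set G) ∧ ¬ Fixes w K := fun w hw hw1 =>
  BLem.norm_of_no hK (hsq w hw) (S.Ql (hEQ hw)) (S.yQ w (hEQ hw)).symm S.yl (S.yK hK hf) hf
    (noMoved hP hmax S.T (hEQ.trans S.QF) hsq haE hm S.hl S.lo (fun e he => (S.Ql (hEQ he)).symm)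
      (fun e he => S.ycen e (hEQ he)) S.yl hw hw1)

/-- **`K` is not of type `PSL(2,q)`** -/
theorem Sit.not_L2 (S : Sit x a l y d p L Q P M) (hW : W7 G) (hP : Mu.Pump7 G) (hmax : Max G m)
    (h3 : 3 ≤ m) (hEQ : E ≤ Q) (hsq : ∀ e ∈ E, e * e = 1) (haE : a ∈ E) (hm : Nat.card E = m)
    (hK : IsComp (centralizer ({l} : Set G)) K) (hf : ¬ Fixes y K) : ¬ IsL2 (Bar K) := by
  intro hL
  have T' := S.tri hK hf
  have hA := S.faith hP hmax hEQ hsq haE hm hK hf
  have hEK : E ≤ normalizer (K : Set G) := by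
    intro e he
    by_cases h : e = 1
    · rw [h]; exact one_mem _
    · exact (hA e he h).1
  have hI : ¬ IsInner x K := by
    rcases hW x l K T' with h | h
    · exact h.2
    · exfalso
      obtain ⟨M'⟩ := BLem.isA7_of_isAlt (K := K) h
      exact A9.LTwo.l2_no_alt_self (J := K) hL (k := 7) le_rfl h
  obtain ⟨F, _, _, ⟨R⟩⟩ := A9.LTwo.exists_rep hL
  have hPK : P ≤ normalizer (K : Set G) := by
    refine BFour.lemmaP S.T.tri.comp M S.hl S.lo S.lz S.PL S.P2 S.Pl S.lP S.Pφ S.Ps S.Pi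
      (isPGroup_of_sq hsq) haE (fun q hq e he => S.PQ q hq e (hEQ he)) hK ?_ ?_ hEK
    · intro z hz hfz
      have h1 := (act_eq_one_iff (le_normalizer hz)).mpr hfz
      rw [act_of_mem hz] at h1
      rw [← mk_eq_one_iff hz]
      exact R.conj_injective (by rw [h1, map_one])
    · have h1 : Even (Nat.card (↥K ⧸ oddCore ↥K)) := L2Inner.WBAut.even_card R
      exact h1.two_dvd.trans (Subgroup.card_quotient_dvd_card _)
  have hdK : d ∈ normalizer (K : Set G) := T'.mem_normalizer_of_core S.dx S.dl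
  have hfld : ∀ (F : Type) [Field F] [Finite F] (R : GH.L2Aut.Rep F (↥K ⧸ oddCore ↥K)),
      R.fld (act K ⟨y, S.yK hK hf⟩) = 1 := by
    intro F _ _ R
    have h1 : act K ⟨y, S.yK hK hf⟩ = act K ⟨⁅d, p⁆, S.yeq ▸ S.yK hK hf⟩ :=
      act_congr _ S.yeq
    rw [h1]
    exact BFour.fld_comm hdK (hPK S.pP) _ R
  have := BFour.no_four_L2 T' hL hI (S.yK hK hf) (comm_c (core_le _ S.yx)) (BLem.odd_of_core S.yx) hf
    hfld hEK hsq (fun e he => S.yQ e (hEQ he)) fun e he h => by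
      by_contra h1
      exact (hA e he h1).2 h
  omega

/-- **`K` has type `A₇`** -/
theorem Sit.isA7 (S : Sit x a l y d p L Q P M) (hW : W7 G) (hP : Mu.Pump7 G) (hmax : Max G m)
    (h3 : 3 ≤ m) (hEQ : E ≤ Q) (hsq : ∀ e ∈ E, e * e = 1) (haE : a ∈ E) (hm : Nat.card E = m)
    (hK : IsComp (centralizer ({l} : Set G)) K) (hf : ¬ Fixes y K) : IsA7 K := by
  rcases hW x l K (S.tri hK hf) with h | h
  · exact absurd h.1 (S.not_L2 hW hP hmax h3 hEQ hsq haE hm hK hf)
  · exact BLem.isA7_of_isAlt h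

/-- `|E| = 4` -/
theorem Sit.card_four (S : Sit x a l y d p L Q P M) (hP : Mu.Pump7 G) (hmax : Max G m)
    (h3 : 3 ≤ m) (hEQ : E ≤ Q) (hsq : ∀ e ∈ E, e * e = 1) (haE : a ∈ E) (hm : Nat.card E = m)
    (hK : IsComp (centralizer ({l} : Set G)) K) (hf : ¬ Fixes y K) (hA7 : IsA7 K) : m = 4 := by
  have hA := S.faith hP hmax hEQ hsq haE hm hK hf
  obtain ⟨M'⟩ := hA7
  have h6 := BLem.card_le_six (R := E) (S.tri hK hf) M' S.yx S.yl hf (by
      intro e he
      by_cases h : e = 1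
      · rw [h]; exact one_mem _
      · exact (hA e he h).1) hsq (fun e he => S.yQ e (hEQ he)) (fun e he => (S.QF (hEQ he)).2.1)
    fun e he h => by
      by_contra h1
      exact (hA e he h1).2 h
  have hp : Fact (Nat.Prime 2) := ⟨Nat.prime_two⟩
  obtain ⟨k, hk⟩ := (isPGroup_of_sq hsq).exists_card_eq
  rw [hk] at hm h6
  subst hm
  have hk2 : k < 3 := by
    by_contra hcon
    have : 2 ^ 3 ≤ 2 ^ k := Nat.pow_le_pow_right (by norm_num) (by omega)
    omega
  interval_cases k <;> omega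

/-- uniqueness of `K` -/
theorem Sit.unique (S : Sit x a l y d p L Q P M) (hW : W7 G) (hP : Mu.Pump7 G) (hmax : Max G 4)
    (hEQ : E ≤ Q) (hsq : ∀ e ∈ E, e * e = 1) (haE : a ∈ E) (hm : Nat.card E = 4)
    (hK : IsComp (centralizer ({l} : Set G)) K) (hf : ¬ Fixes y K) {K' : Subgroup G}
    (hK' : IsComp (centralizer ({l} : Set G)) K') (hf' : ¬ Fixes y K') : K' = K := by
  by_contra hne
  have T := S.tri hK hf
  have T' := S.tri hK' hf'
  have h7 := S.isA7 hW hP hmax (by norm_num) hEQ hsq haE hm hK hf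
  have h7' := S.isA7 hW hP hmax (by norm_num) hEQ hsq haE hm hK' hf'
  obtain ⟨V, h1, h2, h3, h4, h5⟩ := exists_four h7' S.T.tri.invx T'.x_mem
  have hll := sq_of_order S.lo
  have hlV : l ∉ V := by
    intro h
    exact ne_one_of_order S.lo (h5 l h fun k hk => (comm_c (hK'.le hk)).symm)
  have hVl : ∀ v ∈ V, v * l = l * v := fun v hv => comm_c (hK'.le (h1 hv))
  obtain ⟨E', e1, e2, e3, e4, e5⟩ := exists_adjoin h3 hll hlV hVl
  obtain ⟨M'⟩ := h7
  have T7' : T7 x l K := Star.T7.of_lab T M'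
  have hlF : l ∈ FF x l K := T7'.a_mem
  have hVF : V ≤ FF x l K := fun v hv =>
    ⟨hVl v hv, h4 v hv, hK.fixes_of_mem hK' (Ne.symm hne) (h1 hv)⟩
  have h8 := hmax x l K E' T7' (fun g hg => by
    rcases e3 g hg with h | h
    · exact hVF h
    · have := mul_mem (hVF h) (inv_mem hlF)
      rwa [mul_inv_cancel_right] at this) e4
  omega

/-- `Q` normalizes `K` -/
theorem Sit.norm (S : Sit x a l y d p L Q P M) (hW : W7 G) (hP : Mu.Pump7 G) (hmax : Max G 4)
    (hEQ : E ≤ Q) (hsq : ∀ e ∈ E, e * e = 1) (haE : a ∈ E) (hm : Nat.card E = 4)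
    (hK : IsComp (centralizer ({l} : Set G)) K) (hf : ¬ Fixes y K) : Q ≤ normalizer (K : Set G) := by
  intro q hq
  rw [mem_normalizer_iff_cj]
  refine S.unique hW hP hmax hEQ hsq haE hm hK hf (isComp_cj_of_mem hK (mem_c (S.Ql hq))) fun h => hf ?_
  have h1 := h.cj q⁻¹
  rw [cj_inv_cj, inv_inv] at h1
  have h2 : q⁻¹ * y * q = y := by
    rw [mul_assoc, ← S.yQ q hq, inv_mul_cancel_left]
  rwa [h2] at h1

/-- the involutions of `Q` lie in elementary groups of order 4 with `a` -/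
theorem Sit.exists_elem (S : Sit x a l y d p L Q P M) (hEQ : E ≤ Q) (hsq : ∀ e ∈ E, e * e = 1)
    (haE : a ∈ E) (hm : Nat.card E = 4) {w : G} (hw : w ∈ Q) (hww : w * w = 1) (hw1 : w ≠ 1) :
    ∃ E' ≤ Q, (∀ e ∈ E', e * e = 1) ∧ a ∈ E' ∧ Nat.card E' = 4 ∧ w ∈ E' := by
  by_cases hwa : w = a
  · exact ⟨E, hEQ, hsq, haE, hm, hwa ▸ haE⟩
  obtain ⟨B, hB1, hB2⟩ := exists_two S.T.aa (ne_one_of_order S.T.tri.inva)
  have hBsq : ∀ b ∈ B, b * b = 1 := by
    intro b hb
    rcases (hB1 b).mp hb with rfl | rfl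
    · rw [one_mul]
    · exact S.T.aa
  have hBQ : B ≤ Q := by
    intro b hb
    rcases (hB1 b).mp hb with rfl | rfl
    · exact one_mem _
    · exact hEQ haE
  obtain ⟨E', h1, h2, h3, h4, h5⟩ := exists_adjoin hBsq hww
    (fun h => by
      rcases (hB1 w).mp h with h | h
      · exact hw1 h
      · exact hwa h)
    (fun b hb => by
      rcases (hB1 b).mp hb with rfl | rfl
      · rw [one_mul, mul_one]
      · exact (S.QF hw).1.symm)
  refine ⟨E', fun g hg => ?_, h4, h1 ((hB1 a).mpr (Or.inr rfl)), by rw [h5, hB2], h2⟩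
  rcases h3 g hg with h | h
  · exact hBQ h
  · have := mul_mem (hBQ h) (inv_mem hw)
    rwa [mul_inv_cancel_right] at this

end core

/-! ### labels -/

/-- `d0 b` is `1` or moves `0, 1, 2, 3` and has order 2 -/
def Good (b : DihedralGroup 4) : Prop :=
  d0 b * d0 b = 1 ∧ (d0 b ≠ 1 → ∀ i, d0 b i = i ↔ i ∈ ({4, 5, 6} : Finset (Fin 7)))

instance : DecidablePred Good := fun b => by
  unfold Good
  infer_instance

set_option maxRecDepth 20000 in
theorem good_or : ∀ b, Good b ∨ ∃ c, Good c ∧ d0 b * d0 c * (d0 b * d0 c) = 1 ∧ d0 b * d0 c ≠ 1 ∧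
    5 ≤ (fixIn Finset.univ (d0 b * d0 c)).card := by decide

set_option maxRecDepth 20000 in
theorem good_card : (Finset.univ.filter fun b => Good b).card = 4 := by decide

set_option maxRecDepth 20000 in
theorem good_of : ∀ b, d0 b * d0 b = 1 → (fixIn Finset.univ (d0 b)).card < 5 → Good b := by decide

theorem good_one : Good 1 ∧ d0 1 = 1 := by decide

/-! ### the end -/

section fin

variable {d p : G} {P : Subgroup G} {M : M7 L}

/-- the labels of the involutions of `Q` are not transpositions -/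
theorem Sit.no_transp (S : Sit x a l y d p L Q P M) (hP : Mu.Pump7 G)
    (hmax : Max G 4) (hEQ : E ≤ Q) (hsq : ∀ e ∈ E, e * e = 1) (haE : a ∈ E) (hm : Nat.card E = 4)
    (hK : IsComp (centralizer ({l} : Set G)) K) (hf : ¬ Fixes y K) (M' : M7 K) (hx : M'.φ x = z0)
    (hQK : Q ≤ normalizer (K : Set G)) {w : G} (hw : w ∈ Q) (hww : w * w = 1) (hw1 : w ≠ 1) :
    (fixIn Finset.univ (M'.φ w)).card < 5 := by
  obtain ⟨E', e1, e2, e3, e4, e5⟩ := S.exists_elem hEQ hsq haE hm hw hww hw1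
  by_contra hcon
  push Not at hcon
  have T := S.tri hK hf
  have hyK := S.yK hK hf
  have hwK := hQK hw
  have h1 := M'.isComp_cmp_of hK hwK hww hcon
  have h2 := noMoved hP hmax S.T (e1.trans S.QF) e2 e3 e4 S.hl S.lo
    (fun e he => (S.Ql (e1 he)).symm) (fun e he => S.ycen e (e1 he)) S.yl e5 hw1 _ h1
  have h3 := M'.apply_of_comm hyK (E := M'.cmp w) (fun k hk => le_normalizer (M'.cmp_le w hk))
    (F := fixIn Finset.univ (M'.φ w)) (by omega) (fun σ hσ => M'.cmp_lift hwK hww hcon hσ)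
    (fun e he => by
      have h4 := M'.core_cmp_le hwK hww hcon (h2.2 e he)
      exact (M'.core_iff _ (core_le _ h4)).mpr h4) (y := 4) (by
      rw [mem_fixIn]
      exact ⟨Finset.mem_univ _, BLem.label_fix T M' hx S.yx S.yl hf hwK (n := 1)
        (by rw [pow_one, pow_two, hww]) (S.yQ w hw) 4 (Or.inl rfl)⟩)
  rcases BLem.label_core T M' hx S.yx S.yl hf with h | h <;> rw [h] at h3 <;>
    exact absurd h3 (by decide)

/-- **special triples of maximal rank** -/
theorem core_caseI (hW : W7 G) (hP : Mu.Pump7 G) (h1 : One G) (hmax : Max G m) (h3 : 3 ≤ m)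
    (S : Sit x a l y d p L Q P M) (hEQ : E ≤ Q) (hsq : ∀ e ∈ E, e * e = 1) (haE : a ∈ E)
    (hm : Nat.card E = m) : Nat.card Q = 4 ∧ (∀ g ∈ Q, g * g = 1) ∧
      ∃ (K : Subgroup G) (M' : M7 K), T7 x l K ∧ ∀ g ∈ Q, g ≠ 1 → g ∈ normalizer (K : Set G) ∧
        ∀ i : Fin 7, M'.φ g i = i ↔ i ∈ ({4, 5, 6} : Finset (Fin 7)) := by
  have hn : y ∉ core (centralizer ({l} : Set G)) := by
    intro h
    have T' : IsTriple l a L := ⟨S.lo, S.T.tri.inva, (S.comm_l S.T.ax rfl),
      S.T.tri.comp, y, h, S.ya, S.ymv⟩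
    exact not_inner h1 (fun e he => ⟨hsq e he, (S.QF (hEQ he)).1, (S.QF (hEQ he)).2.2⟩) (by omega)
      (⟨T', S.T.a7, l, S.hl, by rw [mul_inv_cancel]; exact fixes_one L⟩ : T7 l a L) S.hl
  obtain ⟨K, T, hf⟩ := Res.Base.exists_triple S.T.tri.invx S.lo S.xl S.yx S.yl hn
  have hK := T.comp
  have h7 := S.isA7 hW hP hmax h3 hEQ hsq haE hm hK hf
  have hm4 := S.card_four hP hmax h3 hEQ hsq haE hm hK hf h7
  subst hm4
  have hQK := S.norm hW hP hmax hEQ hsq haE hm hK hf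
  obtain ⟨M₀⟩ := h7
  obtain ⟨-, M', -, hx⟩ := BLem.exists_std T M₀
  -- the labels
  have hlab : ∀ q ∈ Q, ∃ b, M'.φ q = d0 b := by
    intro q hq
    obtain ⟨n, hn⟩ := S.Q2 ⟨q, hq⟩
    exact BLem.label_d0 T M' hx S.yx S.yl hf (hQK hq) (n := n) (congrArg Subtype.val hn) (S.yQ q hq)
      (S.QF hq).2.1
  -- `Q` is faithful
  have hinv : ∀ w ∈ Q, w * w = 1 → M'.φ w = 1 → w = 1 := by
    intro w hw hww h
    by_contra hw1
    obtain ⟨E', e1, e2, e3, e4, e5⟩ := S.exists_elem hEQ hsq haE hm hw hww hw1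
    exact (S.faith hP hmax e1 e2 e3 e4 hK hf w e5 hw1).2 ((M'.fixes_iff (hQK hw)).mp h)
  have hfaith : ∀ q ∈ Q, M'.φ q = 1 → q = 1 := by
    intro q hq h
    obtain ⟨n, hn⟩ := S.Q2 ⟨q, hq⟩
    have hqn : q ^ 2 ^ n = 1 := congrArg Subtype.val hn
    have key : ∀ k : ℕ, q ^ 2 ^ k = 1 → q = 1 := by
      intro k
      induction k with
      | zero => intro h2; rwa [pow_zero, pow_one] at h2
      | succ k ih =>
        intro h2
        apply ih
        apply hinv _ (pow_mem hq _)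
        · rw [← pow_add, ← two_mul, ← pow_succ']
          exact h2
        · rw [M'.pow (hQK hq), h, one_pow]
    exact key n hqn
  have hinj : ∀ q ∈ Q, ∀ r ∈ Q, M'.φ q = M'.φ r → q = r := by
    intro q hq r hr h
    refine inv_mul_eq_one.mp (hfaith _ (mul_mem (inv_mem hq) hr) ?_)
    rw [M'.mul _ _ (inv_mem (hQK hq)) (hQK hr), M'.inv (hQK hq), h, inv_mul_cancel]
  have hsqQ : ∀ q ∈ Q, M'.φ q * M'.φ q = 1 → q * q = 1 := by
    intro q hq h
    apply hfaith _ (mul_mem hq hq)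
    rw [M'.mul _ _ (hQK hq) (hQK hq), h]
  choose! f hf' using hlab
  -- the labels of `E`
  have hEgood : ∀ e ∈ E, Good (f e) := by
    intro e he
    have he' := hEQ he
    by_cases h : e = 1
    · have h4 : d0 (f e) = d0 1 := by
        rw [← hf' e he', h, M'.one, good_one.2]
      rw [d0_inj h4]
      exact good_one.1
    · refine good_of _ ?_ ?_
      · rw [← hf' e he']
        exact M'.sq (hQK he') (hsq e he)
      · rw [← hf' e he']
        exact S.no_transp hP hmax hEQ hsq haE hm hK hf M' hx hQK he' (hsq e he) h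
  have hsurj : ∀ c, Good c → ∃ e ∈ E, M'.φ e = d0 c := by
    let F : Finset (DihedralGroup 4) := Finset.univ.filter fun b => Good b
    let g : E → F := fun e => ⟨f e, by
      rw [Finset.mem_filter]
      exact ⟨Finset.mem_univ _, hEgood e e.2⟩⟩
    have hg : Function.Injective g := by
      intro e e' h
      have h4 : f e = f e' := congrArg Subtype.val h
      exact Subtype.ext (hinj _ (hEQ e.2) _ (hEQ e'.2) (by
        rw [hf' _ (hEQ e.2), hf' _ (hEQ e'.2), h4]))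
    have hb : Function.Bijective g := by
      rw [Nat.bijective_iff_injective_and_card]
      refine ⟨hg, ?_⟩
      rw [hm, Nat.card_eq_fintype_card (α := ↥F), Fintype.card_coe]
      exact good_card.symm
    intro c hc
    obtain ⟨e, he⟩ := hb.2 ⟨c, by
      rw [Finset.mem_filter]
      exact ⟨Finset.mem_univ _, hc⟩⟩
    refine ⟨e, e.2, ?_⟩
    rw [hf' _ (hEQ e.2)]
    exact congrArg d0 (congrArg Subtype.val he)
  have hgood : ∀ q ∈ Q, Good (f q) := by
    intro q hq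
    rcases good_or (f q) with h | ⟨c, h4, h5, h6, h7⟩
    · exact h
    · exfalso
      obtain ⟨e, he, hec⟩ := hsurj c h4
      have he' := hEQ he
      have h8 : M'.φ (q * e) = d0 (f q) * d0 c := by
        rw [M'.mul _ _ (hQK hq) (hQK he'), hf' q hq, hec]
      have h9 := S.no_transp hP hmax hEQ hsq haE hm hK hf M' hx hQK (mul_mem hq he')
        (hsqQ _ (mul_mem hq he') (by rw [h8, h5])) (by
          intro h
          rw [h, M'.one] at h8
          exact h6 h8.symm)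
      rw [h8] at h9
      omega
  refine ⟨?_, fun g hg => ?_, K, M', Star.T7.of_lab T M', fun g hg hg1 => ⟨hQK hg, ?_⟩⟩
  · apply le_antisymm
    · let F : Finset (DihedralGroup 4) := Finset.univ.filter fun b => Good b
      let g : Q → F := fun e => ⟨f e, by
        rw [Finset.mem_filter]
        exact ⟨Finset.mem_univ _, hgood e e.2⟩⟩
      have hg : Function.Injective g := by
        intro e e' h
        have h4 : f e = f e' := congrArg Subtype.val h
        exact Subtype.ext (hinj _ e.2 _ e'.2 (by rw [hf' _ e.2, hf' _ e'.2, h4]))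
      have h4 := Nat.card_le_card_of_injective g hg
      rw [Nat.card_eq_fintype_card (α := ↥F), Fintype.card_coe, good_card] at h4
      exact h4
    · rw [← hm]
      exact Subgroup.card_le_of_le hEQ
  · apply hsqQ g hg
    rw [hf' g hg]
    exact (hgood g hg).1
  · rw [hf' g hg]
    refine (hgood g hg).2 ?_
    rw [← hf' g hg]
    exact fun h => hg1 (hfaith g hg h)

/-- maximal rank -/
theorem exists_max_rank (T : T7 x a L) (hE : E ≤ FF x a L) (hsq : ∀ e ∈ E, e * e = 1) :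
    ∃ m, Nat.card E ≤ m ∧ Max G m ∧ ∃ (x' a' : G) (L' E' : Subgroup G), T7 x' a' L' ∧
      E' ≤ FF x' a' L' ∧ (∀ e ∈ E', e * e = 1) ∧ Nat.card E' = m := by
  classical
  let p : ℕ → Prop := fun n => ∃ (x' a' : G) (L' E' : Subgroup G), T7 x' a' L' ∧
      E' ≤ FF x' a' L' ∧ (∀ e ∈ E', e * e = 1) ∧ Nat.card E' = n
  have h0 : p (Nat.card E) := ⟨x, a, L, E, T, hE, hsq, rfl⟩
  have hb : Nat.card E ≤ Nat.card G := Subgroup.card_le_card_group E
  have h1 := Nat.findGreatest_spec (P := p) hb h0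
  refine ⟨Nat.findGreatest p (Nat.card G), Nat.le_findGreatest hb h0, ?_, h1⟩
  intro x' a' L' E' T' h2 h3
  exact Nat.le_findGreatest (Subgroup.card_le_card_group E') ⟨x', a', L', E', T', h2, h3, rfl⟩

/-- four-groups of `Q` -/
theorem exists_fourgrp (haa : a * a = 1) (ha1 : a ≠ 1) (haQ : a ∈ Q) {w : G} (hw : w ∈ Q)
    (hww : w * w = 1) (hw1 : w ≠ 1) (hwa : w ≠ a) (hc : a * w = w * a) :
    ∃ E' ≤ Q, (∀ e ∈ E', e * e = 1) ∧ a ∈ E' ∧ Nat.card E' = 4 := by
  obtain ⟨B, hB1, hB2⟩ := exists_two haa ha1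
  have hBsq : ∀ b ∈ B, b * b = 1 := by
    intro b hb
    rcases (hB1 b).mp hb with rfl | rfl
    · rw [one_mul]
    · exact haa
  have hBQ : B ≤ Q := by
    intro b hb
    rcases (hB1 b).mp hb with rfl | rfl
    · exact one_mem _
    · exact haQ
  obtain ⟨E', h1, h2, h3, h4, h5⟩ := exists_adjoin hBsq hww
    (fun h => by
      rcases (hB1 w).mp h with h | h
      · exact hw1 h
      · exact hwa h)
    (fun b hb => by
      rcases (hB1 b).mp hb with rfl | rfl
      · rw [one_mul, mul_one]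
      · exact hc)
  refine ⟨E', fun g hg => ?_, h4, h1 ((hB1 a).mpr (Or.inr rfl)), by rw [h5, hB2]⟩
  rcases h3 g hg with h | h
  · exact hBQ h
  · have := mul_mem (hBQ h) (inv_mem hw)
    rwa [mul_inv_cancel_right] at this

/-- **(β')** in Case I -/
theorem betaP (hW : W7 G) (hP : A7.Pump7 G) (h1 : One G) : Mu.BetaP G := by
  intro x a L Q T hsp hQ2 hQF hmaxQ
  have hP' := Star.muPump hP
  by_cases hq : ∀ g ∈ Q, g * g = 1 → g = 1 ∨ g = a
  · exact Or.inl hq
  right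
  push Not at hq
  obtain ⟨g, hg, hgg, hg1, hga⟩ := hq
  have hxa : x * a ∈ L := by
    rcases hsp with h | h
    · exfalso
      obtain ⟨h2, -, h3⟩ := hQF hg
      rcases h1 x a L T h g hgg h2 h3 with h4 | h4
      · exact hg1 h4
      · exact hga h4
    · exact h
  -- `a ∈ Q`
  have haQ : a ∈ Q := by
    have hap : IsPGroup 2 (zpowers a) := BalanceAux.isPGroup_zpowers_of_orderOf (by
      rw [T.tri.inva])
    have hn : Q ≤ normalizer (zpowers a : Set G) := by
      intro e he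
      rw [mem_normalizer_iff_cj]
      have : IntrinsicBasic.cj e (zpowers a) = zpowers (e * a * e⁻¹) := by
        rw [IntrinsicBasic.cj_def]
        exact MonoidHom.map_zpowers _ _
      rw [this, (hQF he).1, mul_inv_cancel_right]
    have h2 : IsPGroup 2 (Q ⊔ zpowers a : Subgroup G) := IsPGroup.to_sup_of_normal_right' hQ2 hap hn
    have h3 := hmaxQ (Q ⊔ zpowers a) le_sup_left h2 (sup_le hQF (by
      rw [zpowers_le]
      exact T.a_mem))
    rw [← h3]
    exact mem_sup_right (mem_zpowers a)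
  obtain ⟨E₀, e1, e2, e3, e4⟩ := exists_fourgrp T.aa (ne_one_of_order T.tri.inva) haQ hg hgg hg1 hga
    (hQF hg).1.symm
  -- the maximal rank
  obtain ⟨m, hm4, hmax, x', a', L', E', T', h2, h3, h5⟩ := exists_max_rank T (e1.trans hQF) e2
  rw [e4] at hm4
  obtain ⟨b, N, TN, hxb, hbE, hEF⟩ := exists_special hP' h1 hmax (by omega) T' h2 h3 h5
  obtain ⟨l', y', d', p', P', M', S'⟩ := exists_sit TN hxb (isPGroup_of_sq h3) hEF
  obtain ⟨h6, -, -⟩ := core_caseI hW hP' h1 hmax (by omega) S' le_rfl h3 hbE h5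
  have hm : m = 4 := by rw [← h5, h6]
  subst hm
  obtain ⟨l, y, d, p, P, M, S⟩ := exists_sit T hxa hQ2 hQF
  obtain ⟨h7, h8, K, MK, h9, h10⟩ := core_caseI hW hP' h1 hmax (by omega) S e1 e2 e3 e4
  exact ⟨h7, h8, l, K, MK, ⟨a, haQ, S.lx⟩, h9, h10⟩

end fin

end Cfsg.Agent.UGT.A7.BCaseI
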