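import Cfsg.Agent.UGT.A7.End7

/-!
# Branch [A7]: the rank bound

`rank_of_triple`: (7.0), (7.3), (1), (4)(*), (beta') and the exit for `|Q| ≥ 4` give `r₂(G) ≤ 4`.
-/

set_option autoImplicit false
set_option linter.unusedSectionVars false

open Cfsg Subgroup Equiv Equiv.Perm
open Cfsg.Agent.UAlt
open Cfsg.Agent.SignalizersComponents Cfsg.Agent.Lib
open Cfsg.Agent.SignalizersComponents.IntrinsicBasic
open Cfsg.Agent.Intrinsic.Basic Cfsg.Agent.Intrinsic.Cen Cfsg.Agent.Intrinsic.Diag
open Cfsg.Agent.UGT.Triple Cfsg.Agent.UGT.TriBase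

namespace Cfsg.Agent.UGT.A7

universe u

variable {G : Type u} [Group G] [Finite G] {x a w : G} {L T : Subgroup G} {M : Lab L}

theorem Sm.w_syl (hNor : Normal7 G) (h0 : Seven0 G) (h3 : Seven3 G) (S : Sm a w L T M)
    (hs : Special x a L) : IsSyl (centralizer ({w} : Set G)) T ∨ SectionalPRankLE 2 4 G := by
  have F := S.toFr7
  -- an involution `g ∈ P` with label `(01)(45)`
  have hσ : (swap 4 5 * swap 0 1 : Perm (Fin 7)) ∈ P0 := by
    rw [mem_P0, mem_W0]
    exact ⟨⟨by decide, by decide⟩, by decide⟩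
  obtain ⟨g, hg, hφg⟩ := F.exists_P hσ
  have hgg : g * g = 1 := by
    refine F.P_inj (mul_mem hg hg) (one_mem _) ?_
    rw [M.mul _ _ (F.TN hg.1) (F.TN hg.1), hφg, M.one]
    decide
  have hg1 : g ≠ 1 := by
    intro h
    rw [h, M.one] at hφg
    exact absurd hφg (by decide)
  have hgw : g * w = w * g := F.comm_PQ hg S.w_mem
  have hga : g * a = a * g := F.a_comm hg.1
  have hxx := sq_of_order hs.1.invx
  have hx1 := ne_one_of_order hs.1.invx
  -- conjugate `x` to `g` or `a g`
  obtain ⟨x', hx', hx'T, hφx', hwx'⟩ : ∃ x', Special x' a L ∧ x' ∈ T ∧ M.φ x' = swap 4 5 * swap 0 1 ∧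
      w * x' = x' * w := by
    rcases hs.2 with h | h
    · obtain ⟨k, hk, hkx⟩ := Star.exists_conj_inv M h hg.2 hxx hgg hx1 hg1
      refine ⟨g, ?_, hg.1, hφg, hgw.symm⟩
      have := hs.conj F.nor (F.comp.le hk)
      rwa [hkx] at this
    · have h1 : a * x * (a * x) = 1 := by
        calc a * x * (a * x) = a * (x * a) * x := by group
          _ = a * (a * x) * x := by rw [hs.1.comm]
          _ = (a * a) * (x * x) := by group
          _ = 1 := by rw [F.aa, hxx, one_mul]
      have h2 : a * x ≠ 1 := by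
        intro h3
        apply hs.1.not_fixes
        have h4 : x = a := by
          rw [← inv_eq_of_mul_eq_one_right h3, inv_eq_of_mul_eq_one_right F.aa]
        rw [h4]
        exact F.fixes_a
      obtain ⟨k, hk, hkx⟩ := Star.exists_conj_inv M h hg.2 h1 hgg h2 hg1
      have hka : k * a = a * k := mem_centralizer_singleton_iff.1 (F.comp.le hk)
      refine ⟨a * g, ?_, T.mul_mem F.aT hg.1, ?_, ?_⟩
      · have h3 := hs.conj F.nor (F.comp.le hk)
        have h4 : k * x * k⁻¹ = a * g := by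
          calc k * x * k⁻¹ = (a * a) * (k * x * k⁻¹) := by rw [F.aa, one_mul]
            _ = a * (a * k) * x * k⁻¹ := by group
            _ = a * (k * a) * x * k⁻¹ := by rw [hka]
            _ = a * (k * (a * x) * k⁻¹) := by group
            _ = a * g := by rw [hkx]
        rwa [h4] at h3
      · rw [M.mul _ _ (F.TN F.aT) (F.TN hg.1), F.φa, one_mul, hφg]
      · calc w * (a * g) = (w * a) * g := by group
          _ = (a * w) * g := by rw [S.wa]
          _ = a * (w * g) := by group
          _ = a * (g * w) := by rw [hgw]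
          _ = _ := by group
  obtain ⟨N, hN, hcase⟩ := h0 x' a w L M 4 5 0 1 hx'.1 (by decide) (by decide) (by decide) (by decide)
    (by decide) (by decide) hφx' S.wo S.wa hwx' S.wN S.φw
  rcases hcase with ⟨h1, h2, M₁, h4⟩ | ⟨-, h2, M₁, h4, h5⟩ | ⟨h1, h2, -⟩
  · exact S.one_case hN h2 M₁ h4 h1
  · exact S.two_case hNor hN h2 M₁ h4 h5
  · exact (h3 x' a w L T N M 4 5 0 1 hx' S.syl S.card_fix hx'T S.wT (by decide) (by decide) (by decide)
      (by decide) (by decide) (by decide) hφx' S.wo hwx' S.φw hN h1 h2).elim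

/-- the end of the case `T = P × ⟨a, w⟩` -/
theorem Sm.rank (hNor : Normal7 G) (h0 : Seven0 G) (h3 : Seven3 G) (S : Sm a w L T M)
    (hs : Special x a L) : SectionalPRankLE 2 4 G := by
  rcases S.w_syl hNor h0 h3 hs with h1 | h1
  · rcases S.other.w_syl hNor h0 h3 hs with h2 | h2
    · refine rank_of_klein S.toFr7.twoP S.toFr7.equivP S.card_Qs S.Qs_sq fun b hb hb1 => ?_
      rcases S.Qs_form b hb with rfl | rfl | rfl | rfl
      · exact absurd rfl hb1
      · exact S.syl
      · exact h1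
      · exact h2
    · exact h2
  · exact h1

/-- **The rank bound**: a triple of type `A₇` gives sectional 2-rank at most 4. -/
theorem rank_of_triple (hNor : Normal7 G) (hP : PumpNoDiag G) (hNS : NonSpecial G) (hB : BetaRank G)
    (hS : Star G) (hE : ExitQ G) (h0 : Seven0 G) (h3 : Seven3 G) (M : Lab L) (hT : IsTriple x a L) :
    SectionalPRankLE 2 4 G := by
  obtain ⟨b, K, M₁, hs⟩ := hNS x a L M hT
  obtain ⟨T, hT1, -⟩ := exists_isSyl (E := centralizer ({b} : Set G)) (R₀ := ⊥) IsPGroup.of_bot bot_le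
  obtain ⟨x', hx'T, hs'⟩ := exists_in_T hNor M₁ hs hT1
  obtain ⟨M', -, -, F⟩ := exists_fr7 M₁ hs.1.comp (hNor x b K M₁ hs.1) hT1 (sq_of_order hs.1.inva)
    (ne_one_of_order hs.1.inva)
  rcases small hNor hP hS hB hE F hs' hx'T with h1 | ⟨w, hw⟩
  · exact h1
  · exact hw.rank hNor h0 h3 hs'

end Cfsg.Agent.UGT.A7
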