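import Cfsg.Agent.UGT.A7.BLem

/-!
# Elements `y ∈ O(C(x)) ∩ [D ∩ C(R)]^∞` moving `D`

`(x, b, D)` a triple of type `A₇`, `R` a 2-group centralizing `x`, `b`, `D / O(D)`.

* `exists_d`: `d ∈ O(C(x)) ∩ C(b) ∩ C(R)` moving `D`.
* `exists_P`: the lift of the group `P0` to `D ∩ C(R, x)`.
* `comm_moved`: `[d, p]` moves `D`, `φ p = (0 1)(4 5)`.
* `exists_y`.
-/

set_option autoImplicit false
set_option linter.unusedSectionVars false

open Cfsg Subgroup Equiv Equiv.Perm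
open Cfsg.Agent.UAlt
open Cfsg.Agent.SignalizersComponents Cfsg.Agent.Lib
open Cfsg.Agent.SignalizersComponents.IntrinsicBasic
open Cfsg.Agent.SignalizersComponents.IntrinsicIntr
open Cfsg.Agent.Intrinsic.Basic Cfsg.Agent.Intrinsic.Cen Cfsg.Agent.Intrinsic.Diag
open Cfsg.Agent.McLLyComp.Act
open Cfsg.Agent.UGT.Triple Cfsg.Agent.UGT.PumpGen Cfsg.Agent.UGT.TriBase
open Cfsg.Agent.UGT.A7.Mu Cfsg.Agent.UGT.A7.BPerm
open Cfsg.Agent.UGT.Iface (Bar IsL2 IsAlt IsInner)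
open scoped commutatorElement

namespace Cfsg.Agent.UGT.A7.BLem

variable {G : Type*} [Group G] [Finite G] {x b : G} {D R : Subgroup G}

theorem exists_d (T : IsTriple x b D) (hR : IsPGroup 2 R) (hRb : ∀ r ∈ R, r * b = b * r)
    (hRx : ∀ r ∈ R, r * x = x * r) (hRD : ∀ r ∈ R, Fixes r D) :
    ∃ d ∈ core (centralizer ({x} : Set G)), d ∈ centralizer ({b} : Set G) ∧ (∀ r ∈ R, r * d = d * r) ∧
      ¬ Fixes d D := by
  have : Fact (Nat.Prime 2) := ⟨Nat.prime_two⟩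
  obtain ⟨e, he, heb, hef⟩ := T.bad
  obtain ⟨F, hF⟩ : ∃ F : Subgroup G, ∀ e, e ∈ F ↔ e ∈ core (centralizer ({x} : Set G)) ∧
      e ∈ centralizer ({b} : Set G) ∧ Fixes e D := by
    refine ⟨{ carrier := {e | e ∈ core (centralizer ({x} : Set G)) ∧
        e ∈ centralizer ({b} : Set G) ∧ Fixes e D}
              mul_mem' := ?_
              one_mem' := ?_
              inv_mem' := ?_ }, fun e => Iff.rfl⟩
    · rintro e e' ⟨h1, h2, h3⟩ ⟨h1', h2', h3'⟩
      exact ⟨mul_mem h1 h1', mul_mem h2 h2', fixes_mul h3 h3'⟩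
    · exact ⟨one_mem _, one_mem _, fixes_one D⟩
    · rintro e ⟨h1, h2, h3⟩
      exact ⟨inv_mem h1, inv_mem h2, fixes_inv h3⟩
  obtain ⟨d, hd, hdR⟩ := CoprimeBasic.exists_fixed_in_coset R hR F (by
      have h1 : Odd (Nat.card (core (centralizer ({x} : Set G)))) := odd_card_core _
      have h3 := h1.of_dvd_nat (card_dvd_of_le (show F ≤ core (centralizer ({x} : Set G)) from
        fun e he => ((hF e).mp he).1))
      exact fun h => (Nat.not_even_iff_odd.mpr h3) (even_iff_two_dvd.mpr h)) (by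
      intro r hr d hd
      obtain ⟨h1, h2, h3⟩ := (hF d).mp hd
      refine (hF _).mpr ⟨conj_core (mem_c (hRx r hr)) h1, ?_, fixes_conj h3 (hRD r hr).1⟩
      exact mul_mem (mul_mem (mem_c (hRb r hr)) h2) (inv_mem (mem_c (hRb r hr)))) e (by
      intro r hr
      refine (hF _).mpr ⟨mul_mem (inv_mem he) (conj_core (mem_c (hRx r hr)) he), ?_, ?_⟩
      · exact mul_mem (inv_mem heb) (mul_mem (mul_mem (mem_c (hRb r hr)) heb)
          (inv_mem (mem_c (hRb r hr))))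
      · have h1 : Fixes (e⁻¹ * r * e⁻¹⁻¹) D :=
          fixes_conj (hRD r hr) (inv_mem (T.mem_normalizer_of_core he heb))
        have h2 := fixes_mul h1 (fixes_inv (hRD r hr))
        convert h2 using 1
        group)
  obtain ⟨h1, h2, h3⟩ := (hF d).mp hd
  refine ⟨e * d, mul_mem he h1, mul_mem heb h2, hdR, fun h => hef ?_⟩
  exact (fixes_mul_iff_left h3).mp h

/-- the lift of `P0` to `D ∩ C(R, x)`, `x ↦ z0` -/
theorem exists_P (T : IsTriple x b D) (M : M7 D) (hx : M.φ x = z0) (hR : IsPGroup 2 R)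
    (hRx : ∀ r ∈ R, r * x = x * r) (hRD : ∀ r ∈ R, Fixes r D) :
    ∃ P : Subgroup G, P ≤ D ∧ IsPGroup 2 P ∧ (∀ p ∈ P, ∀ r ∈ R, p * r = r * p) ∧
      (∀ p ∈ P, p * x = x * p) ∧ (∀ p ∈ P, M.φ p ∈ P0) ∧ (∀ σ ∈ P0, ∃ p ∈ P, M.φ p = σ) ∧
      (∀ p ∈ P, M.φ p = 1 → p = 1) := by
  have hxp : IsPGroup 2 (zpowers x) := BalanceAux.isPGroup_zpowers_of_orderOf (by rw [T.invx])
  have hn : R ≤ normalizer (zpowers x : Set G) := by
    intro e he
    rw [mem_normalizer_iff_cj]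
    have : IntrinsicBasic.cj e (zpowers x) = zpowers (e * x * e⁻¹) := by
      rw [IntrinsicBasic.cj_def]
      exact MonoidHom.map_zpowers _ _
    rw [this, hRx e he, mul_inv_cancel_right]
  have hP : IsPGroup 2 (R ⊔ zpowers x : Subgroup G) := IsPGroup.to_sup_of_normal_right' hR hxp hn
  have hPN : R ⊔ zpowers x ≤ normalizer (D : Set G) :=
    sup_le (fun r hr => (hRD r hr).1) (by rw [zpowers_le]; exact T.x_mem)
  have hc : ∀ p ∈ R ⊔ zpowers x, ∀ σ ∈ P0, M.φ p * σ = σ * M.φ p := by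
    intro p hp σ hσ
    have h1 : R ⊔ zpowers x ≤ fix (R ⊔ zpowers x) D ⊔ zpowers x := sup_le (fun r hr =>
      mem_sup_left (show r ∈ fix (R ⊔ zpowers x) D from mem_fix.mpr ⟨mem_sup_left hr, hRD r hr⟩))
      le_sup_right
    have h2 : (R : Set G) ∪ {x} ⊆ {g | g ∈ normalizer (D : Set G) ∧ M.φ g * σ = σ * M.φ g} := by
      rintro g (hg | hg)
      · refine ⟨(hRD g hg).1, ?_⟩
        rw [(M.fixes_iff (hRD g hg).1).mpr (hRD g hg), one_mul, mul_one]
      · rw [Set.mem_singleton_iff] at hg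
        subst hg
        exact ⟨T.x_mem, by rw [hx, (mem_W0.1 (mem_P0.1 hσ).1).1]⟩
    let C : Subgroup G :=
      { carrier := {g | g ∈ normalizer (D : Set G) ∧ M.φ g * σ = σ * M.φ g}
        mul_mem' := by
          rintro a b ⟨h1, h2⟩ ⟨h3, h4⟩
          refine ⟨mul_mem h1 h3, ?_⟩
          rw [M.mul _ _ h1 h3, mul_assoc, h4, ← mul_assoc, h2, mul_assoc]
        one_mem' := ⟨one_mem _, by rw [M.one, one_mul, mul_one]⟩
        inv_mem' := by
          rintro a ⟨h1, h2⟩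
          refine ⟨inv_mem h1, ?_⟩
          rw [M.inv h1, inv_mul_eq_iff_eq_mul, ← mul_assoc, h2, mul_inv_cancel_right] }
    have h3 : R ⊔ zpowers x ≤ C := sup_le (fun r hr => h2 (Or.inl hr))
      (by rw [zpowers_le]; exact h2 (Or.inr rfl))
    exact (h3 hp).2
  obtain ⟨P, h1, h2, h3, h4, h5, h6⟩ := M.exists_group_lift hP hPN (Q₀ := P0)
    (isPGroup_W0.to_le inf_le_left) (by
      intro σ hσ
      rw [alt_univ]
      exact hσ.2) hc
  exact ⟨P, h1, h2, fun p hp r hr => h3 p hp r (mem_sup_left hr),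
    fun p hp => h3 p hp x (mem_sup_right (mem_zpowers x)), h4, h5, h6⟩

theorem p0_mem : swap 0 1 * swap 4 5 ∈ P0 := g0_mem (.sr 0)

theorem c0_ne : c0 ≠ 1 ∧ c0 * c0 ≠ 1 ∧ c0 * c0 * (c0 * c0) ≠ 1 := by decide

/-- `φ y ∈ {c0, c0²}` ⟹ `φ [y, p] = φ y²` -/
theorem comm_moved (M : M7 D) {d p : G} (hd : d ∈ normalizer (D : Set G))
    (hp : p ∈ normalizer (D : Set G)) (h1 : M.φ d = c0 ∨ M.φ d = c0 * c0)
    (h2 : M.φ p = swap 0 1 * swap 4 5) : ¬ Fixes ⁅d, p⁆ D := by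
  intro hf
  have h3 := (M.fixes_iff (mul_mem (mul_mem (mul_mem hd hp) (inv_mem hd)) (inv_mem hp))).mpr hf
  rw [M.mul _ _ (mul_mem (mul_mem hd hp) (inv_mem hd)) (inv_mem hp),
    M.mul _ _ (mul_mem hd hp) (inv_mem hd), M.mul _ _ hd hp, M.inv hd, M.inv hp, h2] at h3
  rcases h1 with h1 | h1 <;> rw [h1] at h3 <;> revert h3 <;> decide

/-- **(F0)** -/
theorem exists_y (T : IsTriple x b D) (hA : IsA7 D) (hR : IsPGroup 2 R)
    (hRb : ∀ r ∈ R, r * b = b * r) (hRx : ∀ r ∈ R, r * x = x * r) (hRD : ∀ r ∈ R, Fixes r D) :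
    ∃ y ∈ core (centralizer ({x} : Set G)), y ∈ centralizer ({b} : Set G) ∧
      y ∈ PComponents.pElem 2 (D ⊓ centralizer (R : Set G)) ∧ (∀ r ∈ R, y ∈ cen D r) ∧
      (∀ r ∈ R, r * y = y * r) ∧ ¬ Fixes y D := by
  obtain ⟨M₀⟩ := hA
  obtain ⟨-, M, -, hx⟩ := exists_std T M₀
  obtain ⟨d, hd, hdb, hdR, hdf⟩ := exists_d T hR hRb hRx hRD
  obtain ⟨P, h1, h2, h3, h4, h5, h6, h7⟩ := exists_P T M hx hR hRx hRD
  obtain ⟨p, hp, hpφ⟩ := h6 _ p0_mem
  have hdN := T.mem_normalizer_of_core hd hdb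
  have hpN := le_normalizer (h1 hp)
  have hlab := label_core T M hx hd hdb hdf
  have hD1 : d * p * d⁻¹ ∈ D := (mem_normalizer_iff.mp hdN p).mp (h1 hp)
  have hCR : ∀ r ∈ R, ∀ g, g = d ∨ g = p → g * r = r * g := by
    rintro r hr g (rfl | rfl)
    · exact (hdR r hr).symm
    · exact h3 _ hp r hr
  obtain ⟨n, hn⟩ := h2 ⟨p, hp⟩
  have hpn : p ^ 2 ^ n = 1 := congrArg Subtype.val hn
  have hdpn : (d * p * d⁻¹) ^ 2 ^ n = 1 := by rw [conj_pow, hpn, mul_one, mul_inv_cancel]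
  have hpC : p ∈ centralizer (R : Set G) := mem_centralizer_iff.mpr fun r hr => (h3 p hp r hr).symm
  have hdC : d ∈ centralizer (R : Set G) := mem_centralizer_iff.mpr fun r hr => hdR r hr
  have hy1 : ⁅d, p⁆ ∈ PComponents.pElem 2 (D ⊓ centralizer (R : Set G)) := by
    rw [commutatorElement_def]
    have hq : d * p * d⁻¹ ∈ centralizer (R : Set G) := mul_mem (mul_mem hdC hpC) (inv_mem hdC)
    refine mul_mem ?_ (inv_mem ?_)
    · exact PComponents.mem_pElem (n := n) ⟨hD1, hq⟩ hdpn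
    · exact PComponents.mem_pElem (n := n) ⟨h1 hp, hpC⟩ hpn
  have hy2 : ⁅d, p⁆ ∈ centralizer (R : Set G) := by
    rw [commutatorElement_def]
    exact mul_mem (mul_mem (mul_mem hdC hpC) (inv_mem hdC)) (inv_mem hpC)
  refine ⟨⁅d, p⁆, ?_, ?_, hy1, ?_, ?_, comm_moved M hdN hpN hlab hpφ⟩
  · have h8 : ⁅d, p⁆ = d * (p * d⁻¹ * p⁻¹) := by rw [commutatorElement_def]; group
    rw [h8]
    exact mul_mem hd (conj_core (mem_c (h4 p hp)) (inv_mem hd))
  · rw [commutatorElement_def]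
    have hpb : p ∈ centralizer ({b} : Set G) := T.comp.le (h1 hp)
    exact mul_mem (mul_mem (mul_mem hdb hpb) (inv_mem hdb)) (inv_mem hpb)
  · intro r hr
    have h8 : PComponents.pElem 2 (D ⊓ centralizer (R : Set G)) ≤ cen D r := by
      rw [cen]
      exact PComponents.pElem_mono (inf_le_inf_left _ (centralizer_le
        (Set.singleton_subset_iff.mpr hr)))
    exact h8 hy1
  · intro r hr
    exact mem_centralizer_iff.mp hy2 r hr

end Cfsg.Agent.UGT.A7.BLem
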