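import Cfsg.Agent.UGT.A7.DiagPair

/-!
# (7.3) of #8889: inner and outer action

`Inn g K`: `g` induces an inner automorphism of `K / O(K)`.
-/

set_option autoImplicit false
set_option linter.unusedSectionVars false

namespace Cfsg.Agent.UGT.A7.Dg

open Cfsg Equiv Equiv.Perm Subgroup
open Cfsg.Agent.Intrinsic.Basic Cfsg.Agent.Intrinsic Cfsg.Agent.Intrinsic.Cen Cfsg.Agent.Intrinsic.Diag
open Cfsg.Agent.SignalizersComponents Cfsg.Agent.Lib
open Cfsg.Agent.SignalizersComponents.IntrinsicBasic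
open Cfsg.Agent.McLLyComp.Act
open Cfsg.Agent.UGT.Triple Cfsg.Agent.UGT.LemG Cfsg.Agent.UGT.PumpGen
open Cfsg.Agent.UAlt
open scoped commutatorElement

variable {G : Type*} [Group G]

/-- `g` induces an inner automorphism of `K / O(K)` -/
def Inn (g : G) (K : Subgroup G) : Prop := ∃ k ∈ K, Fixes (k⁻¹ * g) K

theorem Inn.mem {g : G} {K : Subgroup G} (h : Inn g K) : g ∈ normalizer (K : Set G) := by
  obtain ⟨k, hk, h⟩ := h
  have h1 := mul_mem (le_normalizer hk) h.1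
  rwa [mul_inv_cancel_left] at h1

theorem inn_iff {α : Type*} [Fintype α] [DecidableEq α] {S : Finset α} {K : Subgroup G} (M : Mod K S) {g : G}
    (hg : g ∈ normalizer (K : Set G)) : Inn g K ↔ M.φ g ∈ alt S := by
  constructor
  · rintro ⟨k, hk, h⟩
    have h1 := (M.fixes_iff h.1).mpr h
    rw [M.mul _ _ (inv_mem (le_normalizer hk)) hg, M.inv (le_normalizer hk), inv_mul_eq_one] at h1
    rw [← h1]
    exact M.mem_alt k hk
  · intro h
    obtain ⟨k, hk, e⟩ := M.lift _ h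
    refine ⟨k, hk, ?_⟩
    have hk' : k⁻¹ ∈ normalizer (K : Set G) := inv_mem (le_normalizer hk)
    rw [← M.fixes_iff (mul_mem hk' hg), M.mul _ _ hk' hg, M.inv (le_normalizer hk), e, inv_mul_cancel]

theorem inn_iff_sign {K : Subgroup G} (M : Mod K U5) {g : G}
    (hg : g ∈ normalizer (K : Set G)) : Inn g K ↔ sign (M.φ g) = 1 :=
  (inn_iff M hg).trans ⟨sign_of_mem, mem_alt_univ⟩

theorem Inn.conj {g v : G} {K : Subgroup G} (h : Inn g K) (hgv : g * v = v * g) : Inn g (cj v K) := by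
  obtain ⟨k, hk, h⟩ := h
  refine ⟨v * k * v⁻¹, conj_mem_cj hk, ?_⟩
  have h1 := h.cj v
  have e1 : v * (k⁻¹ * g) * v⁻¹ = (v * k * v⁻¹)⁻¹ * g := by
    calc v * (k⁻¹ * g) * v⁻¹ = (v * k * v⁻¹)⁻¹ * (v * g * v⁻¹) := by group
      _ = _ := by rw [conj_of_comm hgv.symm]
  rwa [e1] at h1

variable [Finite G]

theorem inn_iff_of_sup {X J Z : Subgroup G} (hJ : IsComp X J) (hs : Z ⊔ core J = J) {g : G}
    (hgZ : g ∈ normalizer (Z : Set G)) (hgJ : g ∈ normalizer (J : Set G)) : Inn g Z ↔ Inn g J := by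
  have hZJ : Z ≤ J := by rw [← hs]; exact le_sup_left
  constructor
  · rintro ⟨z, hz, h⟩
    exact ⟨z, hZJ hz, (fixes_iff_of_sup hs h.1 (mul_mem (inv_mem (le_normalizer (hZJ hz))) hgJ)).mp h⟩
  · rintro ⟨j, hj, h⟩
    obtain ⟨z, hz, hzj⟩ := exists_mul_of_sup hs hj
    have h1 : Fixes (z⁻¹ * j) J := hJ.fixes_of_core (hJ.core_le_core hzj)
    have h2 := fixes_mul h1 h
    rw [show z⁻¹ * j * (j⁻¹ * g) = z⁻¹ * g by group] at h2
    exact ⟨z, hz, (fixes_iff_of_sup hs (mul_mem (inv_mem (le_normalizer hz)) hgZ) h2.1).mpr h2⟩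

/-- members of the diagonal normalize `K` -/
theorem diag_mem_normalizer {X K : Subgroup G} {v m : G} (hK : IsComp X K) (hvX : v ∈ X) (hv : v * v = 1)
    (hne : cj v K ≠ K) (hm : m ∈ diag X K v) : m ∈ normalizer (K : Set G) := by
  obtain ⟨h1, h2, -⟩ := exists_diag hK hvX hv hne
  obtain ⟨k, hk, hmk⟩ := h2 m hm
  have h3 := fixes_inv_mul hK hvX hne hk (h1.le hm).1 hmk
  have h4 := mul_mem (le_normalizer hk) h3.1
  rwa [mul_inv_cancel_left] at h4

/-- conjugation by an element commuting with `g` -/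
theorem mem_normalizer_cj {K : Subgroup G} {g v : G} (hg : g ∈ normalizer (K : Set G)) (hgv : g * v = v * g) :
    g ∈ normalizer (cj v K : Set G) := by
  rw [mem_normalizer_iff_cj] at hg ⊢
  rw [← cj_mul, hgv, cj_mul, hg]

theorem fixes_cj {K : Subgroup G} {g v : G} (hg : Fixes g K) (hgv : g * v = v * g) :
    Fixes g (cj v K) := by
  have h := hg.cj v
  rwa [conj_of_comm hgv.symm] at h

/-- inner on `K` implies inner on the diagonal -/
theorem Inn.diag {c v g : G} {K : Subgroup G} (hK : IsComp (centralizer ({c} : Set G)) K) (hcv : c * v = v * c)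
    (hv : v * v = 1) (hne : cj v K ≠ K) (hgc : g * c = c * g) (hgv : g * v = v * g) (h : Inn g K) :
    Inn g (diag (centralizer ({c} : Set G)) K v) := by
  have hvX : v ∈ centralizer ({c} : Set G) := mem_c hcv.symm
  obtain ⟨k, hk, hf⟩ := h
  obtain ⟨h1, h2, h3, h4, -⟩ := exists_diag hK hvX hv hne
  obtain ⟨m, hm, hmk⟩ := h3 k hk
  refine ⟨m, hm, ?_⟩
  have hmX := (h1.le hm).1
  have hmv : m * v = v * m := comm_c (h1.le hm).2
  have h5 := fixes_inv_mul hK hvX hne hk hmX hmk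
  have h6 : Fixes (m⁻¹ * g) K := by
    have := fixes_mul (fixes_inv h5) hf
    rwa [show (k⁻¹ * m)⁻¹ * (k⁻¹ * g) = m⁻¹ * g by group] at this
  exact fixes_of_pump hv hcv h1 hK (mul_mem (inv_mem hmX) (mem_c hgc))
    (mem_c (comm_mul (Cfsg.Agent.UGT.A7.Dg.comm_inv hmv) hgv)) h6 (Or.inr ⟨hne, rfl⟩)

/-- inner on the diagonal implies inner on `K` -/
theorem inn_of_diag {c v g : G} {K : Subgroup G} (hK : IsComp (centralizer ({c} : Set G)) K) (hcv : c * v = v * c)
    (hv : v * v = 1) (hne : cj v K ≠ K) (hgc : g * c = c * g) (hgv : g * v = v * g)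
    (hgK : g ∈ normalizer (K : Set G)) (h : Inn g (diag (centralizer ({c} : Set G)) K v)) : Inn g K := by
  have hvX : v ∈ centralizer ({c} : Set G) := mem_c hcv.symm
  obtain ⟨m, hm, hf⟩ := h
  obtain ⟨h1, h2, h3, h4, -⟩ := exists_diag hK hvX hv hne
  obtain ⟨k, hk, hmk⟩ := h2 m hm
  have hmX := (h1.le hm).1
  have hmv : m * v = v * m := comm_c (h1.le hm).2
  have h5 := fixes_inv_mul hK hvX hne hk hmX hmk
  have hmK := diag_mem_normalizer hK hvX hv hne hm
  have hmgK : m⁻¹ * g ∈ normalizer (K : Set G) := mul_mem (inv_mem hmK) hgK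
  have hmgv : (m⁻¹ * g) * v = v * (m⁻¹ * g) := comm_mul (Cfsg.Agent.UGT.A7.Dg.comm_inv hmv) hgv
  have h6 : Fixes (m⁻¹ * g) K := by
    refine fixes_of_comm_diag hK hvX hv hne (mul_mem (inv_mem hmX) (mem_c hgc)) hmgK
      (mem_normalizer_cj hmgK hmgv) fun m' hm' => ?_
    have h7 := hf.2 m' hm'
    rw [h4] at h7
    exact h7.2
  refine ⟨k, hk, ?_⟩
  have := fixes_mul h5 h6
  rwa [show k⁻¹ * m * (m⁻¹ * g) = k⁻¹ * g by group] at this

end Cfsg.Agent.UGT.A7.Dg
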