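import Cfsg.Agent.UGT.A7.BPlug
import Cfsg.Agent.S1173

/-!
# (beta') without hypotheses

* `beta`: the field `beta` of `UGT.Final.Missing`.
-/

set_option autoImplicit false

open Cfsg Subgroup
open Cfsg.Agent.UGT.Iface (MinCex)

namespace Cfsg.Agent.UGT.A7.BFinal

universe u

theorem p1173 : SL.P1173.{u} := fun _ _ _ hO S T h => S1173.result hO S T h

/-- **(beta')** -/
theorem beta : ∀ (G : Type u) [Group G] [Finite G], MinCex G →
    ¬ SectionalPRankLE 2 4 ↥(generalizedFittingSubgroup G) → A7.W7 G → A7.Mu.BetaP G :=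
  fun _ _ _ hG hr hW => BPlug.beta_of p1173 hG hr hW

end Cfsg.Agent.UGT.A7.BFinal
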