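import Cfsg.Agent.UGT.A7.BExY
import Cfsg.Agent.UGT.Res.PGLFacts
import Cfsg.Agent.UGT.Res.L2Fact

/-!
# Case I of (β'): components of type `PSL(2,q)`; the normalizing lemma

* `no_four_L2`: `(x, v, K)` a triple of type `PSL(2,q)`, `x` not inner; `y` moves `K`, acts by `PGL(2,q)`; then a
  faithful elementary group commuting with `y` has order at most 2.
* `exists_inv_comm`: involutions of `K` commuting with a 2-group `E ≤ N(K)`.
* `lemmaP`: `P ≤ N(K)` for the 2-components `K` of `C(l)` with centre-free quotients.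
-/

set_option autoImplicit false
set_option linter.unusedSectionVars false

open Cfsg Subgroup Equiv Equiv.Perm
open Cfsg.Agent.UAlt
open Cfsg.Agent.SignalizersComponents Cfsg.Agent.Lib
open Cfsg.Agent.SignalizersComponents.IntrinsicBasic
open Cfsg.Agent.SignalizersComponents.IntrinsicIntr
open Cfsg.Agent.SignalizersComponents.PLayerAut
open Cfsg.Agent.Intrinsic.Basic Cfsg.Agent.Intrinsic.Cen Cfsg.Agent.Intrinsic.Diag
open Cfsg.Agent.McLLyComp.Act
open Cfsg.Agent.UGT.Triple Cfsg.Agent.UGT.PumpGen Cfsg.Agent.UGT.TriBase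
open Cfsg.Agent.UGT.A7.Mu Cfsg.Agent.UGT.A7.BPerm
open Cfsg.Agent.UGT.Iface (Bar IsL2 IsAlt IsInner)
open scoped commutatorElement

namespace Cfsg.Agent.UGT.A7.BFour

variable {G : Type*} [Group G] [Finite G]

/-- elementary groups faithful on `K / O(K) ≅ PSL(2,q)` commuting with `y`, `y` acting by `PGL(2,q)` -/
theorem no_four_L2 {x v y : G} {K E : Subgroup G} (T : IsTriple x v K) (hL : IsL2 (Bar K))
    (hI : ¬ IsInner x K) (hyK : y ∈ normalizer (K : Set G)) (hyx : y * x = x * y)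
    (hyo : Odd (orderOf y)) (hf : ¬ Fixes y K)
    (hyP : ∀ (F : Type) [Field F] [Finite F] (R : GH.L2Aut.Rep F (↥K ⧸ oddCore ↥K)),
      R.fld (act K ⟨y, hyK⟩) = 1)
    (hE : E ≤ normalizer (K : Set G)) (hE2 : ∀ e ∈ E, e * e = 1) (hEy : ∀ e ∈ E, e * y = y * e)
    (hEf : ∀ e ∈ E, Fixes e K → e = 1) : Nat.card E ≤ 2 := by
  obtain ⟨F, _, _, ⟨R⟩⟩ := A9.LTwo.exists_rep hL
  obtain ⟨α, hα⟩ : ∃ α, α = act K ⟨x, T.x_mem⟩ := ⟨_, rfl⟩
  obtain ⟨η, hη⟩ : ∃ η, η = act K ⟨y, hyK⟩ := ⟨_, rfl⟩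
  have hη1 : η ≠ 1 := fun h => hf ((act_eq_one_iff hyK).mp (hη ▸ h))
  have hηo : Odd (orderOf η) := by
    rw [hη]
    refine Odd.of_dvd_nat hyo ?_
    refine (orderOf_map_dvd (act K) _).trans ?_
    rw [Subgroup.orderOf_mk]
  have hηI : η ∈ (MulAut.conj : (↥K ⧸ oddCore ↥K) →* _).range := by
    rw [R.mem_inn_iff]
    exact ⟨hη ▸ hyP F R, Res.L2Fact.o1_of_odd R hηo⟩
  obtain ⟨k, hk⟩ := hηI
  have hαα : α * α = 1 := by
    rw [hα, ← act_mul, act_congr (mul_mem T.x_mem T.x_mem) (sq_of_order T.invx)]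
    exact map_one _
  have hαP : α ∈ R.PGL := hα ▸ L2Inner.WBTriple.mem_PGL T R
  have ho : R.o1 α = -1 := by
    apply Res.PGLFacts.units_neg
    intro h1
    have h2 : α ∈ (MulAut.conj : (↥K ⧸ oddCore ↥K) →* _).range :=
      R.mem_inn_iff.2 ⟨R.mem_PGL_iff_fld.1 hαP, h1⟩
    obtain ⟨r', hr'⟩ := h2
    obtain ⟨⟨r, hr⟩, rfl⟩ := QuotientGroup.mk_surjective r'
    apply hI
    refine ⟨r, hr, ?_⟩
    rw [← act_eq_one_iff (mul_mem T.x_mem (inv_mem (le_normalizer hr))), act_mul T.x_mem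
      (inv_mem (le_normalizer hr)), act_inv (le_normalizer hr), act_of_mem hr, ← hα, ← hr']
    exact mul_inv_cancel _
  have comm_of : ∀ {g : G} (hg : g ∈ normalizer (K : Set G)), g * y = y * g →
      act K ⟨g, hg⟩ k = k := by
    intro g hg hgy
    have h1 : act K ⟨g, hg⟩ * η = η * act K ⟨g, hg⟩ := by
      rw [hη, ← act_mul hg hyK, ← act_mul hyK hg]
      exact act_congr _ hgy
    rw [← hk] at h1
    apply R.conj_injective
    rw [← GH.L2Aut.Rep.conj_comm_iff]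
    exact h1.symm
  have hαk : α k = k := hα ▸ comm_of T.x_mem hyx.symm
  have hkk : k * k ≠ 1 := by
    intro h
    have h1 : η * η = 1 := by rw [← hk, ← map_mul, h, map_one]
    have h2 : orderOf η ∣ 2 := orderOf_dvd_of_pow_eq_one (by rw [pow_two, h1])
    have h3 : orderOf η = 1 := by
      rcases (Nat.dvd_prime Nat.prime_two).mp h2 with h | h
      · exact h
      · rw [h] at hηo
        exact absurd hηo (by decide)
    exact hη1 (orderOf_eq_one_iff.mp h3)
  -- `e ↦ [e acts trivially]` is injective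
  have key : ∀ e ∈ E, ∀ he : e ∈ normalizer (K : Set G), act K ⟨e, he⟩ = 1 ∨ act K ⟨e, he⟩ = α := by
    intro e heE he
    refine Res.PGLFacts.two_unique R hαα ho hkk hαk ⟨1, ?_⟩ (comm_of he (hEy e heE))
    rw [pow_one, pow_two, ← act_mul he he, act_congr (mul_mem he he) (hE2 e heE)]
    exact map_one _
  by_contra hcon
  push Not at hcon
  -- two different nontrivial elements
  have hex : ∃ e ∈ E, ∃ f ∈ E, e ≠ 1 ∧ f ≠ 1 ∧ e ≠ f := by
    by_contra hno
    push Not at hno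
    have h1 : ∃ e₀ ∈ E, e₀ ≠ 1 := by
      by_contra h
      push Not at h
      have : E = ⊥ := by rw [eq_bot_iff]; exact fun e he => h e he
      rw [this, Subgroup.card_bot] at hcon
      omega
    obtain ⟨e₀, he₀, h1⟩ := h1
    have h2 : (E : Set G) ⊆ {1, e₀} := by
      intro e he
      by_cases h : e = 1
      · exact Or.inl h
      · exact Or.inr (hno e he e₀ he₀ h h1)
    have h3 := Set.ncard_le_ncard h2 (Set.toFinite _)
    have h4 : ({1, e₀} : Set G).ncard ≤ 2 := (Set.ncard_insert_le _ _).trans (by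
      rw [Set.ncard_singleton])
    rw [← Nat.card_coe_set_eq] at h3
    have h5 : Nat.card (E : Set G) = Nat.card E := rfl
    omega
  obtain ⟨e, he, f, hf', h1, h2, h3⟩ := hex
  have he' := hE he
  have hf'' := hE hf'
  have h4 : act K ⟨e, he'⟩ = α := (key e he he').resolve_left fun h =>
    h1 (hEf e he ((act_eq_one_iff he').mp h))
  have h5 : act K ⟨f, hf''⟩ = α := (key f hf' hf'').resolve_left fun h =>
    h2 (hEf f hf' ((act_eq_one_iff hf'').mp h))
  apply h3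
  have h6 : Fixes (e * f⁻¹) K := (act_eq_iff he' hf'').mp (by rw [h4, h5])
  exact mul_inv_eq_one.mp (hEf _ (mul_mem he (inv_mem hf')) h6)

/-- `[d, p]` acts by `PGL(2,q)` -/
theorem fld_comm {K : Subgroup G} {d p : G} (hd : d ∈ normalizer (K : Set G))
    (hp : p ∈ normalizer (K : Set G)) (hy : ⁅d, p⁆ ∈ normalizer (K : Set G)) {F : Type} [Field F]
    [Finite F] (R : GH.L2Aut.Rep F (↥K ⧸ oddCore ↥K)) : R.fld (act K ⟨⁅d, p⁆, hy⟩) = 1 := by
  have h1 : (⟨⁅d, p⁆, hy⟩ : ↥(normalizer (K : Set G))) =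
      ⁅(⟨d, hd⟩ : ↥(normalizer (K : Set G))), ⟨p, hp⟩⁆ := Subtype.ext rfl
  rw [h1, map_commutatorElement, map_commutatorElement, commutatorElement_eq_one_iff_mul_comm]
  exact Cfsg.Agent.Lib.AutSL2Out.ringEquiv_comm _ _

/-- an involution of `K` commuting with the 2-group `E ≤ N(K)` -/
theorem exists_inv_comm {K E : Subgroup G} (hE : IsPGroup 2 E) (hEK : E ≤ normalizer (K : Set G))
    (hK : 2 ∣ Nat.card K) : ∃ t ∈ K, orderOf t = 2 ∧ ∀ e ∈ E, e * t = t * e := by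
  obtain ⟨R, hR, hER⟩ := exists_isSyl (E := K ⊔ E) hE le_sup_right
  have hn : K ⊔ E ≤ normalizer (K : Set G) := sup_le (fun k hk => le_normalizer hk) hEK
  have h1 := hR.inf (L := K) le_sup_left hn
  have h2 : (2 : ℕ) ^ 1 ∣ Nat.card ↥(R ⊓ K) := h1.dvd_card (by simpa using hK)
  have h3 : R ⊓ K ≠ ⊥ := by
    intro h
    rw [h, Subgroup.card_bot] at h2
    exact absurd (Nat.le_of_dvd one_pos h2) (by norm_num)
  have h4 : R ≤ normalizer ((R ⊓ K : Subgroup G) : Set G) := by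
    intro r hr
    rw [mem_normalizer_iff_cj, cj_inf, mem_normalizer_iff_cj.mp (le_normalizer hr),
      mem_normalizer_iff_cj.mp (hn (hR.le hr))]
  obtain ⟨t, ht, ho, hc⟩ := exists_central hR.two inf_le_left h4 h3
  exact ⟨t, ht.2, ho, fun e he => hc e (hER he)⟩

/-- 2-subgroups of `L`, `L / O(L) ≅ A₇`, have order at most 8 -/
theorem card_le_eight {L R : Subgroup G} (M : M7 L) (hR : IsPGroup 2 R) (hRL : R ≤ L) :
    Nat.card R ≤ 8 := by
  have hp : Fact (Nat.Prime 2) := ⟨Nat.prime_two⟩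
  let f : R →* alternatingGroup (Fin 7) :=
    { toFun := fun r => ⟨M.φ r, by
        have := M.mem_alt r (hRL r.2)
        rwa [alt_univ] at this⟩
      map_one' := Subtype.ext M.one
      map_mul' := fun r s => Subtype.ext (M.mul _ _ (le_normalizer (hRL r.2)) (le_normalizer (hRL s.2))) }
  have hf : Function.Injective f := by
    rw [injective_iff_map_eq_one]
    intro r hr
    have h1 : M.φ r = 1 := congrArg Subtype.val hr
    obtain ⟨n, hn⟩ := hR r
    exact Subtype.ext (eq_one_of_mem_core (n := n) ((M.core_iff r (hRL r.2)).mp h1)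
      (congrArg Subtype.val hn))
  obtain ⟨k, hk⟩ := hR.exists_card_eq
  refine Star.le_eight hk ?_
  rw [← Star.card_alt_seven]
  exact Subgroup.card_dvd_of_injective f hf

set_option maxRecDepth 20000 in
theorem g0_normal : ∀ b : DihedralGroup 4, b ≠ 1 → g0 b = z0 ∨ g0 b * g0 b = z0 ∨
    ∃ c : DihedralGroup 4, g0 b * (g0 c * (g0 b)⁻¹ * (g0 c)⁻¹) = z0 := by decide

/-- **`P` normalizes the 2-components of `C(l)` with centre-free quotients** -/
theorem lemmaP {a l : G} {L K P E : Subgroup G} (hL : IsComp (centralizer ({a} : Set G)) L)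
    (M : M7 L) (hl : l ∈ L) (hlo : orderOf l = 2) (hlz : M.φ l = z0) (hPL : P ≤ L)
    (hP2 : IsPGroup 2 P) (hPl : ∀ p ∈ P, p * l = l * p) (hlP : l ∈ P)
    (hPφ : ∀ p ∈ P, M.φ p ∈ P0) (hPs : ∀ σ ∈ P0, ∃ p ∈ P, M.φ p = σ)
    (hPi : ∀ p ∈ P, M.φ p = 1 → p = 1) (hE2 : IsPGroup 2 E) (haE : a ∈ E)
    (hPE : ∀ p ∈ P, ∀ e ∈ E, p * e = e * p)
    (hK : IsComp (centralizer ({l} : Set G)) K) (hKc : ∀ z ∈ K, Fixes z K → z ∈ core K)
    (hKe : 2 ∣ Nat.card K) (hEK : E ≤ normalizer (K : Set G)) : P ≤ normalizer (K : Set G) := by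
  by_contra hcon
  obtain ⟨p, hp, hpK⟩ := SetLike.not_le_iff_exists.mp hcon
  rw [mem_normalizer_iff_cj] at hpK
  -- all 2-components with centre-free quotients
  obtain ⟨KK, hKK⟩ : ∃ KK : Set (Subgroup G), KK = {J | IsComp (centralizer ({l} : Set G)) J ∧
    ∀ z ∈ J, Fixes z J → z ∈ core J} := ⟨_, rfl⟩
  obtain ⟨PP, hPP⟩ : ∃ PP, PP = sSup KK := ⟨_, rfl⟩
  have hKmem : K ∈ KK := by rw [hKK]; exact ⟨hK, hKc⟩
  have hcjmem : ∀ g ∈ centralizer ({l} : Set G), ∀ J ∈ KK, IntrinsicBasic.cj g J ∈ KK := by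
    intro g hg J hJ
    rw [hKK] at hJ ⊢
    refine ⟨isComp_cj_of_mem hJ.1 hg, fun z hz hf => ?_⟩
    rw [core_cj, mem_cj]
    refine hJ.2 _ (mem_cj.mp hz) ?_
    have := hf.cj g⁻¹
    rw [cj_inv_cj, inv_inv] at this
    exact this
  have hlPP : l ∉ PP := by
    rw [hPP]
    exact BProd.not_mem hlo (fun J hJ => by rw [hKK] at hJ; exact hJ.1) fun J hJ => by
      rw [hKK] at hJ; exact hJ.2
  have hJPP : ∀ J ∈ KK, J ≤ PP := fun J hJ => hPP ▸ le_sSup hJ
  have hcjle : ∀ g ∈ centralizer ({l} : Set G), IntrinsicBasic.cj g PP ≤ PP := by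
    intro g hg
    conv_lhs => rw [hPP]
    rw [cj_def, sSup_eq_iSup', Subgroup.map_iSup]
    refine iSup_le fun J => ?_
    rw [← cj_def]
    exact hJPP _ (hcjmem g hg J.1 J.2)
  have hPPn : centralizer ({l} : Set G) ≤ normalizer (PP : Set G) := by
    intro g hg
    rw [mem_normalizer_iff_cj]
    refine le_antisymm (hcjle g hg) ?_
    have h1 := cj_mono (g := g) (hcjle g⁻¹ (inv_mem hg))
    rwa [cj_cj_inv] at h1
  have hPPl : PP ≤ centralizer ({l} : Set G) := by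
    rw [hPP]
    exact sSup_le fun J hJ => by rw [hKK] at hJ; exact hJ.1.le
  have hPPK : PP ≤ normalizer (K : Set G) := by
    intro g hg
    have h1 : g ∈ BProd.InnK K := by
      have h2 := BProd.sSup_le_InnK hK (KK := KK) fun J hJ => by rw [hKK] at hJ; exact hJ.1
      rw [← hPP] at h2
      exact h2 hg
    obtain ⟨k, hk, h2⟩ := h1
    have h3 := mul_mem h2.1 (le_normalizer hk)
    rwa [inv_mul_cancel_right] at h3
  -- `H = C(l) ∩ C(E)`
  obtain ⟨H, hH⟩ : ∃ H, H = centralizer ({l} : Set G) ⊓ centralizer (E : Set G) := ⟨_, rfl⟩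
  have hPH : P ≤ H := by
    rw [hH]
    exact fun q hq => ⟨mem_c (hPl q hq), mem_centralizer_iff.mpr fun e he => (hPE q hq e he).symm⟩
  obtain ⟨S, hS, hPS⟩ := exists_isSyl hP2 hPH
  have hHl : H ≤ centralizer ({l} : Set G) := by rw [hH]; exact inf_le_left
  have hHE : H ≤ centralizer (E : Set G) := by rw [hH]; exact inf_le_right
  have hnorm : ∀ {X Y : Subgroup G}, X ≤ normalizer (Y : Set G) → X ≤ H →
      X ≤ normalizer ((Y ⊓ H : Subgroup G) : Set G) := by
    intro X Y h1 h2 g hg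
    rw [mem_normalizer_iff_cj, cj_inf, mem_normalizer_iff_cj.mp (h1 hg),
      mem_normalizer_iff_cj.mp (le_normalizer (h2 hg))]
  have h1 : IsSyl (PP ⊓ H) (S ⊓ (PP ⊓ H)) := hS.inf inf_le_right (hnorm (hHl.trans hPPn) le_rfl)
  have h2 : IsSyl (K ⊓ H) (S ⊓ (PP ⊓ H) ⊓ (K ⊓ H)) :=
    h1.inf (inf_le_inf_right _ (hJPP K hKmem)) (hnorm (inf_le_left.trans hPPK) inf_le_right)
  obtain ⟨t₀, ht₀, ho₀, hc₀⟩ := exists_inv_comm hE2 hEK hKe
  have ht₀H : t₀ ∈ K ⊓ H := by
    rw [hH]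
    exact ⟨ht₀, hK.le ht₀, mem_centralizer_iff.mpr fun e he => hc₀ e he⟩
  have h3 : 2 ^ 1 ∣ Nat.card ↥(K ⊓ H) := by
    rw [pow_one, ← ho₀, ← Subgroup.orderOf_mk t₀ ht₀H]
    exact orderOf_dvd_natCard _
  have h4 := h2.dvd_card h3
  rw [pow_one] at h4
  have hp' : Fact (Nat.Prime 2) := ⟨Nat.prime_two⟩
  obtain ⟨⟨t, ht⟩, hto⟩ := exists_prime_orderOf_dvd_card' 2 h4
  rw [Subgroup.orderOf_mk] at hto
  have htS : t ∈ S := ht.1.1
  have htK : t ∈ K := ht.2.1
  have htH : t ∈ H := ht.2.2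
  have hta : t * a = a * t := (mem_centralizer_iff.mp (hHE htH) a haE).symm
  have htl : t * l = l * t := comm_c (hHl htH)
  -- `t` normalizes `L`
  have htL : t ∈ normalizer (L : Set G) := by
    rw [mem_normalizer_iff_cj]
    by_contra hne
    have h5 : l ∈ IntrinsicBasic.cj t L := by
      have := conj_mem_cj (g := t) hl
      rwa [htl, mul_inv_cancel_right] at this
    have h6 := hL.fixes_of_mem (isComp_cj_of_mem hL (mem_c hta)) (Ne.symm hne) h5
    have h7 := (M.fixes_iff (le_normalizer hl)).mpr h6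
    rw [hlz] at h7
    exact absurd h7 (by decide)
  obtain ⟨u, hu⟩ : ∃ u, u = ⁅t, p⁆ := ⟨_, rfl⟩
  have huL : u ∈ L := by
    rw [hu, commutatorElement_def]
    exact mul_mem (conj_mem htL (hPL hp)) (inv_mem (hPL hp))
  have huS : u ∈ S := by
    rw [hu, commutatorElement_def]
    exact mul_mem (mul_mem (mul_mem htS (hPS hp)) (inv_mem htS)) (inv_mem (hPS hp))
  have hpl : p ∈ centralizer ({l} : Set G) := mem_c (hPl p hp)
  have huPP : u ∈ PP := by
    have h5 : u = t * (p * t⁻¹ * p⁻¹) := by rw [hu, commutatorElement_def]; group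
    rw [h5]
    exact mul_mem (hJPP K hKmem htK) (conj_mem (hPPn hpl) (inv_mem (hJPP K hKmem htK)))
  have hu1 : u ≠ 1 := by
    intro h
    rw [hu, commutatorElement_eq_one_iff_mul_comm] at h
    have h5 : t ∈ IntrinsicBasic.cj p K := by
      have := conj_mem_cj (g := p) htK
      rwa [← h, mul_inv_cancel_right] at this
    have h6 := hK.fixes_of_mem (isComp_cj_of_mem hK hpl) (Ne.symm hpK) h5
    exact ne_one_of_order hto (eq_one_of_mem_core_sq (hKc t htK h6) (sq_of_order hto))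
  -- `u ∈ P`
  have hcardP : Nat.card P = 8 := by
    rw [← card_P0]
    refine Nat.card_congr (Equiv.ofBijective (fun q : P => (⟨M.φ q, hPφ q q.2⟩ : P0)) ⟨?_, ?_⟩)
    · intro q r hqr
      have e1 : M.φ q = M.φ r := congrArg Subtype.val hqr
      refine Subtype.ext (inv_mul_eq_one.mp (hPi _ (mul_mem (inv_mem q.2) r.2) ?_))
      rw [M.mul _ _ (inv_mem (le_normalizer (hPL q.2))) (le_normalizer (hPL r.2)),
        M.inv (le_normalizer (hPL q.2)), e1, inv_mul_cancel]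
    · rintro ⟨σ, hσ⟩
      obtain ⟨q, hq, hqσ⟩ := hPs σ hσ
      exact ⟨⟨q, hq⟩, Subtype.ext hqσ⟩
  have huP : u ∈ P := by
    have h5 : P ≤ S ⊓ L := le_inf hPS hPL
    have h6 := card_le_eight M (hS.two.to_le inf_le_left) (inf_le_right : S ⊓ L ≤ L)
    have h7 : P = S ⊓ L := eq_of_le_of_card_ge h5 (by rw [hcardP]; exact h6)
    rw [h7]
    exact ⟨huS, huL⟩
  have hinj : ∀ q ∈ P, M.φ q = z0 → q = l := by
    intro q hq h
    refine (inv_mul_eq_one.mp (hPi _ (mul_mem (inv_mem hlP) hq) ?_)).symm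
    rw [M.mul _ _ (inv_mem (le_normalizer hl)) (le_normalizer (hPL hq)),
      M.inv (le_normalizer hl), h, hlz, inv_mul_cancel]
  obtain ⟨b, hb⟩ := exists_g0 (hPφ u huP)
  have hb1 : b ≠ 1 := by
    rintro rfl
    apply hu1
    apply hPi u huP
    rw [hb]
    decide
  apply hlPP
  have huN := le_normalizer huL
  rcases g0_normal b hb1 with h | h | ⟨c, h⟩
  · rw [← hinj u huP (by rw [hb, h])]
    exact huPP
  · rw [← hinj (u * u) (mul_mem huP huP) (by rw [M.mul _ _ huN huN, hb, h])]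
    exact mul_mem huPP huPP
  · obtain ⟨q, hq, hqc⟩ := hPs _ (g0_mem c)
    have hqN := le_normalizer (hPL hq)
    have h5 : u * (q * u⁻¹ * q⁻¹) ∈ P := mul_mem huP (mul_mem (mul_mem hq (inv_mem huP)) (inv_mem hq))
    rw [← hinj _ h5 (by
      rw [M.mul _ _ huN (mul_mem (mul_mem hqN (inv_mem huN)) (inv_mem hqN)),
        M.mul _ _ (mul_mem hqN (inv_mem huN)) (inv_mem hqN), M.mul _ _ hqN (inv_mem huN),
        M.inv huN, M.inv hqN, hb, hqc, h])]
    exact mul_mem huPP (conj_mem (hPPn (mem_c (hPl q hq))) (inv_mem huPP))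

end Cfsg.Agent.UGT.A7.BFour
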