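import Cfsg.Agent.UGT.A7.WZero

/-!
# Permutations of 7 points commuting with `z0 = (0 1)(2 3)`

* `apply_eq_of_comm`: a 2-element commuting with a 3-cycle fixes its points;
* `W0` elements fixing `4`: the list of 8 elements of `Sym {0,1,2,3} ∩ C(z0)`.
-/

set_option autoImplicit false
set_option linter.unusedSectionVars false

open Equiv Equiv.Perm Subgroup

namespace Cfsg.Agent.UGT.A7.BPerm

open Cfsg.Agent.UGT.A7

theorem two_pow_mod (n : ℕ) : 2 ^ n % 3 = 1 ∨ 2 ^ n % 3 = 2 := by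
  induction n with
  | zero => left; norm_num
  | succ n ih =>
    rw [pow_succ]
    omega

section gen

variable {α : Type*} [DecidableEq α]

theorem pow_apply_comm {σ τ : Perm α} (hc : σ * τ = τ * σ) {i : α} (h : σ i = τ i) (m : ℕ) :
    (σ ^ m) i = (τ ^ m) i := by
  induction m with
  | zero => rfl
  | succ m ih =>
    have h1 : Commute (σ ^ m) τ := Commute.pow_left hc m
    have h2 : (σ ^ m) (τ i) = τ ((σ ^ m) i) := by
      have := congrArg (fun z : Perm α => z i) h1.eq
      simpa using this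
    rw [pow_succ, Perm.mul_apply, h, h2, ih, pow_succ', Perm.mul_apply]

/-- a 2-element commuting with a 3-cycle fixes its points -/
theorem apply_eq_of_comm {σ τ : Perm α} (h3 : τ ^ 3 = 1) (hc : σ * τ = τ * σ) {n : ℕ} (hn : σ ^ 2 ^ n = 1)
    {i : α} (hi : τ i ≠ i) (hs : ∀ j, τ j ≠ j → j = i ∨ j = τ i ∨ j = τ (τ i)) : σ i = i := by
  have h0 : σ (τ i) = τ (σ i) := by
    have := congrArg (fun z : Perm α => z i) hc
    simpa using this
  have h1 : τ (σ i) ≠ σ i := by
    rw [← h0]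
    exact fun h => hi (σ.injective h)
  -- no power of `τ` with exponent prime to 3 fixes `i`
  have h4 : ∀ m : ℕ, m % 3 ≠ 0 → (τ ^ m) i ≠ i := by
    intro m hm h
    apply hi
    obtain ⟨q, r, hqr, hr⟩ : ∃ q r, m = 3 * q + r ∧ (r = 1 ∨ r = 2) := ⟨m / 3, m % 3, by omega, by omega⟩
    rw [hqr, pow_add, pow_mul, h3, one_pow, one_mul] at h
    rcases hr with rfl | rfl
    · rwa [pow_one] at h
    · have h5 : τ ((τ ^ 2) i) = i := by
        have := congrArg (fun z : Perm α => z i) h3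
        rw [pow_succ'] at this
        simpa using this
      rwa [h] at h5
  rcases hs _ h1 with h | h | h
  · exact h
  · exfalso
    have h5 := pow_apply_comm hc h (2 ^ n)
    rw [hn, Perm.one_apply] at h5
    refine h4 (2 ^ n) ?_ h5.symm
    rcases two_pow_mod n with h6 | h6 <;> omega
  · exfalso
    have hc' : σ * τ ^ 2 = τ ^ 2 * σ := (Commute.pow_right (a := σ) (b := τ) hc 2).eq
    have h5 := pow_apply_comm hc' (i := i) (by rw [h, pow_two, Perm.mul_apply]) (2 ^ n)
    rw [hn, Perm.one_apply, ← pow_mul] at h5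
    refine h4 (2 * 2 ^ n) ?_ h5.symm
    rcases two_pow_mod n with h6 | h6 <;> omega

end gen

/-! ### the fixed points of `z0` -/

/-- the 3-cycle `(4 5 6)` -/
def c0 : Perm (Fin 7) := swap 4 5 * swap 5 6

theorem z0_moved : ∀ i : Fin 7, z0 i ≠ i → i = 0 ∨ i = 1 ∨ i = 2 ∨ i = 3 := by decide

theorem z0_fixed : ∀ i : Fin 7, z0 i = i → i = 4 ∨ i = 5 ∨ i = 6 := by decide

theorem app {σ τ : Perm (Fin 7)} (h : σ * τ = τ * σ) (i : Fin 7) : σ (τ i) = τ (σ i) := by
  have := congrArg (fun z : Perm (Fin 7) => z i) h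
  simpa using this

/-- permutations commuting with `z0` permute `{0, 1, 2, 3}` -/
theorem moved_of_comm {σ : Perm (Fin 7)} (h : σ * z0 = z0 * σ) {i : Fin 7} (hi : z0 i ≠ i) :
    z0 (σ i) ≠ σ i := by
  rw [← app h]
  exact fun h1 => hi (σ.injective h1)

theorem fixed_of_comm {σ : Perm (Fin 7)} (h : σ * z0 = z0 * σ) {i : Fin 7} (hi : z0 i = i) :
    z0 (σ i) = σ i := by
  rw [← app h, hi]

/-- even permutations fixing `0, 1, 2, 3` -/
theorem eq_c0 {τ : Perm (Fin 7)} (h0 : τ 0 = 0) (h1 : τ 1 = 1) (h2 : τ 2 = 2) (h3 : τ 3 = 3)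
    (hs : sign τ = 1) : τ = 1 ∨ τ = c0 ∨ τ = c0 * c0 := by
  have key : ∀ i : Fin 7, i = 4 ∨ i = 5 ∨ i = 6 ∨ i = 0 ∨ i = 1 ∨ i = 2 ∨ i = 3 := by decide
  have hm : ∀ i : Fin 7, (i = 4 ∨ i = 5 ∨ i = 6) → τ i = 4 ∨ τ i = 5 ∨ τ i = 6 := by
    intro i hi
    rcases key (τ i) with h | h | h | h | h | h | h
    · exact Or.inl h
    · exact Or.inr (Or.inl h)
    · exact Or.inr (Or.inr h)
    all_goals exfalso
    · rw [← h0] at h; rw [τ.injective h] at hi; revert hi; decide
    · rw [← h1] at h; rw [τ.injective h] at hi; revert hi; decide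
    · rw [← h2] at h; rw [τ.injective h] at hi; revert hi; decide
    · rw [← h3] at h; rw [τ.injective h] at hi; revert hi; decide
  have ext7 : ∀ ρ : Perm (Fin 7), τ 4 = ρ 4 → τ 5 = ρ 5 → τ 6 = ρ 6 → ρ 0 = 0 → ρ 1 = 1 → ρ 2 = 2 →
      ρ 3 = 3 → τ = ρ := by
    intro ρ e4 e5 e6 e0 e1 e2 e3
    apply Equiv.ext
    intro i
    rcases key i with rfl | rfl | rfl | rfl | rfl | rfl | rfl
    · exact e4
    · exact e5
    · exact e6
    · rw [h0, e0]
    · rw [h1, e1]
    · rw [h2, e2]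
    · rw [h3, e3]
  have hne : τ 4 ≠ τ 5 ∧ τ 4 ≠ τ 6 ∧ τ 5 ≠ τ 6 := by
    refine ⟨fun h => ?_, fun h => ?_, fun h => ?_⟩ <;> exact absurd (τ.injective h) (by decide)
  rcases hm 4 (by decide) with e4 | e4 | e4 <;> rcases hm 5 (by decide) with e5 | e5 | e5 <;>
    rcases hm 6 (by decide) with e6 | e6 | e6 <;> rw [e4, e5, e6] at hne
  all_goals first
    | (exfalso; revert hne; decide)
    | (exact Or.inl (ext7 1 e4 e5 e6 rfl rfl rfl rfl))
    | (exact Or.inr (Or.inl (ext7 c0 (e4.trans (by decide)) (e5.trans (by decide)) (e6.trans (by decide))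
        (by decide) (by decide) (by decide) (by decide))))
    | (exact Or.inr (Or.inr (ext7 (c0 * c0) (e4.trans (by decide)) (e5.trans (by decide))
        (e6.trans (by decide)) (by decide) (by decide) (by decide) (by decide))))
    | (exfalso
       have h4 := ext7 (swap 4 5) (e4.trans (by decide)) (e5.trans (by decide)) (e6.trans (by decide))
         (by decide) (by decide) (by decide) (by decide)
       rw [h4] at hs; revert hs; decide)
    | (exfalso
       have h4 := ext7 (swap 4 6) (e4.trans (by decide)) (e5.trans (by decide)) (e6.trans (by decide))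
         (by decide) (by decide) (by decide) (by decide)
       rw [h4] at hs; revert hs; decide)
    | (exfalso
       have h4 := ext7 (swap 5 6) (e4.trans (by decide)) (e5.trans (by decide)) (e6.trans (by decide))
         (by decide) (by decide) (by decide) (by decide)
       rw [h4] at hs; revert hs; decide)

theorem c0_three : c0 ^ 3 = 1 := by decide

theorem cc_three : (c0 * c0) ^ 3 = 1 := by decide

theorem c0_spread : ∀ i : Fin 7, (i = 4 ∨ i = 5 ∨ i = 6) → c0 i ≠ i ∧
    ∀ j, c0 j ≠ j → j = i ∨ j = c0 i ∨ j = c0 (c0 i) := by decide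

theorem cc_spread : ∀ i : Fin 7, (i = 4 ∨ i = 5 ∨ i = 6) → (c0 * c0) i ≠ i ∧
    ∀ j, (c0 * c0) j ≠ j → j = i ∨ j = (c0 * c0) i ∨ j = (c0 * c0) ((c0 * c0) i) := by decide

/-- 2-elements commuting with a nontrivial even permutation of `{4, 5, 6}` fix `4, 5, 6` -/
theorem fix_of_comm {σ τ : Perm (Fin 7)} (hτ : τ = c0 ∨ τ = c0 * c0) (hc : σ * τ = τ * σ) {n : ℕ}
    (hn : σ ^ 2 ^ n = 1) : ∀ i : Fin 7, (i = 4 ∨ i = 5 ∨ i = 6) → σ i = i := by
  intro i hi
  rcases hτ with rfl | rfl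
  · exact apply_eq_of_comm c0_three hc hn (c0_spread i hi).1 (c0_spread i hi).2
  · exact apply_eq_of_comm cc_three hc hn (cc_spread i hi).1 (cc_spread i hi).2

/-! ### `D₈` on `{0, 1, 2, 3}` -/

/-- the elements of `Sym {0,1,2,3} ∩ C(z0)` -/
def d0 (a : DihedralGroup 4) : Perm (Fin 7) := if g0 a 4 = 4 then g0 a else w0 * g0 a

theorem exists_d0 {σ : Perm (Fin 7)} (h : σ * z0 = z0 * σ) (h4 : σ 4 = 4) (h5 : σ 5 = 5) :
    ∃ a, σ = d0 a := by
  have hW : σ ∈ W0 := by
    rw [mem_W0]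
    refine ⟨h, ?_⟩
    apply Equiv.ext
    intro i
    rw [Perm.mul_apply, Perm.mul_apply]
    by_cases hi4 : i = 4
    · rw [hi4, h4, w0, swap_apply_left, h5]
    · by_cases hi5 : i = 5
      · rw [hi5, h5, w0, swap_apply_right, h4]
      · have e1 : w0 i = i := by rw [w0, swap_apply_of_ne_of_ne hi4 hi5]
        have e2 : σ i ≠ 4 := fun e => hi4 (σ.injective (e.trans h4.symm))
        have e3 : σ i ≠ 5 := fun e => hi5 (σ.injective (e.trans h5.symm))
        rw [e1, w0, swap_apply_of_ne_of_ne e2 e3]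
  have hw : w0 * w0 = 1 := by decide
  rcases W0_cases hW with h1 | h1
  · obtain ⟨a, ha⟩ := exists_g0 h1
    refine ⟨a, ?_⟩
    rw [d0, if_pos (by rw [← ha]; exact h4), ha]
  · obtain ⟨a, ha⟩ := exists_g0 h1
    have hσ : σ = w0 * g0 a := by rw [← ha, ← mul_assoc, hw, one_mul]
    refine ⟨a, ?_⟩
    rw [d0, if_neg, hσ]
    intro h7
    rw [hσ, Perm.mul_apply, h7, w0, swap_apply_left] at h4
    exact absurd h4 (by decide)

theorem d0_inj : Function.Injective d0 := by decide

set_option maxRecDepth 4000 in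
theorem d0_sq_card : (Finset.univ.filter fun a : DihedralGroup 4 => d0 a * d0 a = 1).card = 6 := by decide

theorem d0_mul : ∀ a b, ∃ c, d0 a * d0 b = d0 c := by decide

end Cfsg.Agent.UGT.A7.BPerm
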