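import Cfsg.Agent.UGT.A7.Star
import Cfsg.Agent.UGT.A7.BPerm
import Cfsg.Agent.UGT.A7.BProd
import Cfsg.Agent.UGT.Res.Base
import Cfsg.Agent.UGT.L2Inner.WBField
import Cfsg.Agent.UGT.L2Inner.WBTriple
import Cfsg.Agent.UGT.A9.LTwoField
import Cfsg.Agent.UGT.A9.LTwoFacts
import Cfsg.Agent.UGT.RedAlt

/-!
# LEMMA B of the branch (β') of the `A₇` node

`x`, `v` commuting involutions, `y ∈ O(C(x)) ∩ C(v)`.

* `norm_of_no`: an involution `w ∈ C(v, y)` normalizes every 2-component `K` of `C(v)` moved by `y` and is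
  nontrivial on `K`, if no 2-component of `C(v, w)` is moved by `y`.
* `noMoved_of_pump`: no 2-component of `C(v, w)` is moved by `y`, `(x, b, D)` a triple of type `A₇`, `w` trivial on
  `D`, `y ∈ C_D(w)^∞`, `v` normalizes the pump-up of `D` in `C(w)` and is not a transposition on it.
* `no_eight`, `lemmaB`: elementary groups of order 8.
* `exists_y`: elements `y ∈ O(C(x)) ∩ C_D(R)^∞` moving `D`.
-/

set_option autoImplicit false
set_option linter.unusedSectionVars false

open Cfsg Subgroup Equiv Equiv.Perm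
open Cfsg.Agent.UAlt
open Cfsg.Agent.SignalizersComponents Cfsg.Agent.Lib
open Cfsg.Agent.SignalizersComponents.IntrinsicBasic
open Cfsg.Agent.SignalizersComponents.IntrinsicIntr
open Cfsg.Agent.SignalizersComponents.PLayerAut
open Cfsg.Agent.Intrinsic.Basic Cfsg.Agent.Intrinsic.Cen Cfsg.Agent.Intrinsic.Diag
open Cfsg.Agent.McLLyComp.Act
open Cfsg.Agent.UGT.Triple Cfsg.Agent.UGT.PumpGen Cfsg.Agent.UGT.TriBase
open Cfsg.Agent.UGT.A7.Mu Cfsg.Agent.UGT.A7.BPerm
open Cfsg.Agent.UGT.Iface (Bar IsL2 IsAlt IsInner)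
open scoped commutatorElement

namespace Cfsg.Agent.UGT.A7.BLem

variable {G : Type*} [Group G] [Finite G]

/-! ### components moved by `y` -/

/-- an involution `w` normalizes `K` and is not trivial on `K`, if `y` moves `K` but no 2-component of `C(v, w)` -/
theorem norm_of_no {v w y : G} {K : Subgroup G} (hK : IsComp (centralizer ({v} : Set G)) K)
    (hw : w * w = 1) (hwv : w * v = v * w) (hyw : y * w = w * y)
    (hyv : y ∈ centralizer ({v} : Set G)) (hyK : y ∈ normalizer (K : Set G)) (hf : ¬ Fixes y K)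
    (hno : ∀ J, IsComp (centralizer ({v} : Set G) ⊓ centralizer ({w} : Set G)) J → Fixes y J) :
    w ∈ normalizer (K : Set G) ∧ ¬ Fixes w K := by
  have hwH : w ∈ centralizer ({v} : Set G) := mem_c hwv
  have hwK : w ∈ normalizer (K : Set G) := by
    rw [mem_normalizer_iff_cj]
    by_contra hne
    obtain ⟨h1, -, -, h4, -⟩ := exists_diag hK hwH hw hne
    have hyK' : y ∈ normalizer (IntrinsicBasic.cj w K : Set G) := by
      rw [mem_normalizer_iff_cj] at hyK ⊢
      rw [← IntrinsicBasic.cj_mul, hyw, IntrinsicBasic.cj_mul, hyK]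
    apply hf
    refine fixes_of_comm_diag hK hwH hw hne hyv hyK hyK' fun m hm => ?_
    have h6 := (hno _ h1).2 m hm
    rw [h4] at h6
    exact h6.2
  refine ⟨hwK, fun hfw => hf ?_⟩
  obtain ⟨h1, h3⟩ := isComp_cen hK hwH hw hfw
  exact (fixes_iff_of_sup h3 (hno _ h1).1 hyK).mp (hno _ h1)

/-- no 2-component of `C_K(w)` is moved by `y` -/
theorem fixes_sub {v w y : G} {K J : Subgroup G} (hK : IsComp (centralizer ({v} : Set G)) K)
    (hJ : IsComp (K ⊓ centralizer ({w} : Set G)) J)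
    (hno : ∀ J, IsComp (centralizer ({v} : Set G) ⊓ centralizer ({w} : Set G)) J → Fixes y J) :
    Fixes y J :=
  hno J (isComp_of_inf hK hJ)

/-- **no 2-component of `C(v, w)` is moved** -/
theorem noMoved_of_pump {b v w y : G} {D N : Subgroup G}
    (hwb : w * b = b * w) (hbb : b * b = 1)
    (hN : IsComp (centralizer ({w} : Set G)) N)
    (hor : cen D w ≤ N ∨
      (IntrinsicBasic.cj b N ≠ N ∧ cen D w = diag (centralizer ({w} : Set G)) N b))
    (hy : y ∈ cen D w) (hvv : v * v = 1) (hvw : v * w = w * v) (hyv : y ∈ centralizer ({v} : Set G))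
    (hv1 : v ∈ normalizer (N : Set G) ∧ ∃ M : M7 N, (fixIn Finset.univ (M.φ v)).card < 5)
    (hv2 : IntrinsicBasic.cj b N ≠ N → v ∈ normalizer (IntrinsicBasic.cj b N : Set G) ∧
      ∃ M : M7 (IntrinsicBasic.cj b N), (fixIn Finset.univ (M.φ v)).card < 5) :
    ∀ J, IsComp (centralizer ({v} : Set G) ⊓ centralizer ({w} : Set G)) J → Fixes y J := by
  intro J hJ
  have hyw : y ∈ centralizer ({w} : Set G) := cen_le_centralizer _ _ hy
  rw [inf_comm] at hJ
  obtain ⟨N', hN', -, hor'⟩ := McLLyComp.PumpT.exists_pump (mem_c hvw) hvv hJ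
  have hor'' : J ≤ N' ∨ (IntrinsicBasic.cj v N' ≠ N' ∧ J = diag (centralizer ({w} : Set G)) N' v) := by
    rcases hor' with ⟨-, h⟩ | h
    · exact Or.inl h
    · exact Or.inr h
  -- `v` normalizes `N'`, not a transposition
  have key : v ∈ normalizer (N' : Set G) → ∀ M : M7 N', (fixIn Finset.univ (M.φ v)).card < 5 → False := by
    intro hvN M hM
    have hJN : J ≤ N' := by
      rcases hor' with ⟨-, h⟩ | ⟨h, -⟩
      · exact h
      · exact absurd (mem_normalizer_iff_cj.mp hvN) h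
    have h1 : IsComp (N' ⊓ centralizer ({v} : Set G)) J :=
      hJ.restrict (inf_le_inf_right _ hN'.le) (le_inf hJN (hJ.le.trans inf_le_right))
    have h2 := (M.isComp_iff_cmp hvN hvv).mp h1
    omega
  by_cases h1 : N' = N
  · obtain ⟨hvN, M, hM⟩ := hv1
    subst h1
    exact (key hvN M hM).elim
  by_cases hne : IntrinsicBasic.cj b N = N
  · -- trivial pump-up
    have hle : cen D w ≤ N := by
      rcases hor with h | ⟨h, -⟩
      · exact h
      · exact absurd hne h
    exact fixes_of_pump hvv hvw.symm hJ hN' hyw hyv (hN'.fixes_of_mem hN h1 (hle hy)) hor''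
  by_cases h2 : N' = IntrinsicBasic.cj b N
  · obtain ⟨hvN, M, hM⟩ := hv2 hne
    subst h2
    exact (key hvN M hM).elim
  have hbC : b ∈ centralizer ({w} : Set G) := mem_c hwb.symm
  have hNb : IsComp (centralizer ({w} : Set G)) (IntrinsicBasic.cj b N) := isComp_cj_of_mem hN hbC
  apply fixes_of_pump hvv hvw.symm hJ hN' hyw hyv _ hor''
  rcases hor with hle | ⟨-, hd⟩
  · exact hN'.fixes_of_mem hN h1 (hle hy)
  · obtain ⟨-, h6, -⟩ := exists_diag hN hbC hbb hne
    rw [hd] at hy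
    obtain ⟨k, hk, hyk⟩ := h6 y hy
    have e1 : Fixes k N' := hN'.fixes_of_mem hN h1 hk
    have e2 : Fixes (b * k * b⁻¹) N' := hN'.fixes_of_mem hNb h2 (conj_mem_cj hk)
    have e3 : Fixes (y⁻¹ * (k * (b * k * b⁻¹))) N' := hN'.fixes_of_core hyk
    have e4 := fixes_mul (fixes_mul e1 e2) (fixes_inv e3)
    have e5 : k * (b * k * b⁻¹) * (y⁻¹ * (k * (b * k * b⁻¹)))⁻¹ = y := by group
    rwa [e5] at e4

/-! ### `A₇` -/

theorem card_of_isRoot {σ : Perm (Fin 7)} (h : StdAlt.Roots.IsRoot σ) : (fixIn Finset.univ σ).card = 3 := by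
  have h6 := Finset.card_filter_add_card_filter_not (s := (Finset.univ : Finset (Fin 7)))
    (p := fun i => σ i = i)
  rw [Finset.card_univ, Fintype.card_fin] at h6
  have h7 : (fixIn Finset.univ σ).card = (Finset.univ.filter fun i => σ i = i).card := rfl
  have h8 : σ.support = (Finset.univ.filter fun i => ¬ σ i = i) := by
    ext i
    simp [Equiv.Perm.mem_support]
  have h9 := h.2
  rw [h8] at h9
  omega

/-- relabelling on all of `Fin 7` -/
theorem exists_relabel {L : Subgroup G} (M : M7 L) (g : Perm (Fin 7)) :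
    ∃ M' : M7 L, ∀ x, M'.φ x = g * M.φ x * g⁻¹ := by
  have h : (Finset.univ : Finset (Fin 7)).map g.toEmbedding = Finset.univ := by
    rw [Finset.map_univ_equiv]
  obtain ⟨S, hS, M', hM'⟩ : ∃ S : Finset (Fin 7), S = Finset.univ ∧
      ∃ M' : Mod L S, ∀ x, M'.φ x = g * M.φ x * g⁻¹ := ⟨_, h, M.relabel g, fun _ => rfl⟩
  subst hS
  exact ⟨M', hM'⟩

/-- roots are conjugate to `z0` -/
theorem exists_conj_z0 {σ : Perm (Fin 7)} (h : StdAlt.Roots.IsRoot σ) :
    ∃ g : Perm (Fin 7), g * σ * g⁻¹ = z0 := by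
  have h1 : σ.cycleType = z0.cycleType := by
    have e0 : StdAlt.Roots.IsRoot z0 := ⟨by decide, by decide⟩
    have key : ∀ ρ : Perm (Fin 7), StdAlt.Roots.IsRoot ρ → ρ.cycleType = Multiset.replicate 2 2 := by
      intro ρ hρ
      have hne : ρ ≠ 1 := by
        rintro rfl
        have := hρ.2
        rw [Equiv.Perm.support_one, Finset.card_empty] at this
        omega
      have ho : orderOf ρ = 2 := orderOf_eq_prime (by rw [pow_two, hρ.1]) hne
      obtain ⟨n, hn⟩ := Equiv.Perm.cycleType_prime_order (σ := ρ) (by rw [ho]; exact Nat.prime_two)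
      rw [ho] at hn
      have h3 := Equiv.Perm.sum_cycleType ρ
      rw [hn, Multiset.sum_replicate, smul_eq_mul, hρ.2] at h3
      have h4 : n + 1 = 2 := by omega
      rw [hn, h4]
    rw [key σ h, key z0 e0]
  have h2 := (Equiv.Perm.isConj_iff_cycleType_eq).mpr h1
  obtain ⟨g, hg⟩ := isConj_iff.mp h2
  exact ⟨g, hg⟩

theorem isA7_of_isAlt {K : Subgroup G} (h : IsAlt 7 (Bar K)) : IsA7 K := by
  obtain ⟨e⟩ := h
  exact Mod.nonempty_of_equiv (K := K) (S := (Finset.univ : Finset (Fin 7)))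
    (by rw [Finset.card_univ, Fintype.card_fin]) (Ω := Fin 7)
    (by rw [Finset.card_univ]) e

/-- the label of `x` for a triple of type `A₇` can be taken to be `z0` -/
theorem exists_std {x v : G} {K : Subgroup G} (T : IsTriple x v K) (M : M7 K) :
    ∃ (g : Perm (Fin 7)) (M' : M7 K), (∀ y, M'.φ y = g * M.φ y * g⁻¹) ∧ M'.φ x = z0 := by
  have h1 := M.sq T.x_mem (sq_of_order T.invx)
  have h2 := Star.isRoot_of_three h1 (RedAlt.three_fix T M).1
  obtain ⟨g, hg⟩ := exists_conj_z0 h2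
  obtain ⟨M', hM'⟩ := exists_relabel M g
  exact ⟨g, M', hM', by rw [hM', hg]⟩

/-- elements of `O(C(x)) ∩ C(v)` act on `K / O(K) ≅ A₇` as powers of `(4 5 6)` -/
theorem label_core {x v y : G} {K : Subgroup G} (T : IsTriple x v K) (M : M7 K) (hx : M.φ x = z0)
    (hy : y ∈ core (centralizer ({x} : Set G))) (hyv : y ∈ centralizer ({v} : Set G))
    (hf : ¬ Fixes y K) : M.φ y = c0 ∨ M.φ y = c0 * c0 := by
  have h1 := (RedAlt.three_fix T M).2 y ⟨hy, hyv⟩
  rw [hx] at h1
  have hyK := T.mem_normalizer_of_core hy hyv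
  have h2 : ∀ i : Fin 7, z0 i ≠ i → M.φ y i = i := by
    intro i hi
    apply h1.2
    intro h3
    exact hi (mem_fixIn.mp h3).2
  have h3 : sign (M.φ y) = 1 := by
    have := alt_mono (Finset.subset_univ _) h1
    rw [alt_univ, mem_alternatingGroup] at this
    exact this
  rcases eq_c0 (h2 0 (by decide)) (h2 1 (by decide)) (h2 2 (by decide)) (h2 3 (by decide)) h3 with h | h
  · exact absurd ((M.fixes_iff hyK).mp h) hf
  · exact h

/-- 2-elements commuting with `y` fix the points `4, 5, 6` -/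
theorem label_fix {x v y r : G} {K : Subgroup G} (T : IsTriple x v K) (M : M7 K) (hx : M.φ x = z0)
    (hy : y ∈ core (centralizer ({x} : Set G))) (hyv : y ∈ centralizer ({v} : Set G))
    (hf : ¬ Fixes y K) (hr : r ∈ normalizer (K : Set G)) {n : ℕ} (hn : r ^ 2 ^ n = 1)
    (hry : r * y = y * r) : ∀ i : Fin 7, (i = 4 ∨ i = 5 ∨ i = 6) → M.φ r i = i := by
  have hyK := T.mem_normalizer_of_core hy hyv
  refine fix_of_comm (label_core T M hx hy hyv hf) (M.comm hr hyK hry) (n := n) ?_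
  rw [← M.pow hr, hn, M.one]

/-- labels of 2-elements commuting with `x`, `y` -/
theorem label_d0 {x v y r : G} {K : Subgroup G} (T : IsTriple x v K) (M : M7 K) (hx : M.φ x = z0)
    (hy : y ∈ core (centralizer ({x} : Set G))) (hyv : y ∈ centralizer ({v} : Set G))
    (hf : ¬ Fixes y K) (hr : r ∈ normalizer (K : Set G)) {n : ℕ} (hn : r ^ 2 ^ n = 1)
    (hry : r * y = y * r) (hrx : r * x = x * r) : ∃ a, M.φ r = d0 a := by
  have h1 := label_fix T M hx hy hyv hf hr hn hry
  have h2 := M.comm hr T.x_mem hrx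
  rw [hx] at h2
  exact exists_d0 h2 (h1 4 (by decide)) (h1 5 (by decide))

/-- elementary abelian groups commuting with `x`, `y` and faithful on `K / O(K) ≅ A₇` -/
theorem card_le_six {x v y : G} {K R : Subgroup G} (T : IsTriple x v K) (M : M7 K)
    (hy : y ∈ core (centralizer ({x} : Set G))) (hyv : y ∈ centralizer ({v} : Set G))
    (hf : ¬ Fixes y K) (hR : R ≤ normalizer (K : Set G)) (hR2 : ∀ r ∈ R, r * r = 1)
    (hRy : ∀ r ∈ R, r * y = y * r) (hRx : ∀ r ∈ R, r * x = x * r)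
    (hRf : ∀ r ∈ R, Fixes r K → r = 1) : Nat.card R ≤ 6 := by
  obtain ⟨-, M, -, hx⟩ := exists_std T M
  have hlab : ∀ r ∈ R, ∃ a, M.φ r = d0 a := fun r hr =>
    label_d0 T M hx hy hyv hf (hR hr) (n := 1) (by rw [pow_one, pow_two, hR2 r hr]) (hRy r hr) (hRx r hr)
  choose! f hf' using hlab
  let F : Finset (DihedralGroup 4) := Finset.univ.filter fun a : DihedralGroup 4 => d0 a * d0 a = 1
  let g : R → F := fun r => ⟨f r, by
    rw [Finset.mem_filter]
    refine ⟨Finset.mem_univ _, ?_⟩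
    rw [← hf' r r.2]
    exact M.sq (hR r.2) (hR2 r r.2)⟩
  have hg : Function.Injective g := by
    intro r s h
    have h1 : f r = f s := congrArg Subtype.val h
    have h2 : M.φ r = M.φ s := by rw [hf' r r.2, hf' s s.2, h1]
    have h3 : M.φ ((r : G)⁻¹ * s) = 1 := by
      rw [M.mul _ _ (inv_mem (hR r.2)) (hR s.2), M.inv (hR r.2), h2, inv_mul_cancel]
    have h4 := hRf _ (mul_mem (inv_mem r.2) s.2)
      ((M.fixes_iff (mul_mem (inv_mem (hR r.2)) (hR s.2))).mp h3)
    exact Subtype.ext (inv_mul_eq_one.mp h4)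
  have h1 := Nat.card_le_card_of_injective g hg
  rwa [Nat.card_eq_fintype_card (α := ↥F), Fintype.card_coe, d0_sq_card] at h1

/-! ### `|R| = 8` -/

/-- `K` of type `L₂(q)`: a faithful elementary group of order 8 commuting with `y` -/
theorem no_eight_L2 {v y : G} {K R : Subgroup G} (hK : IsComp (centralizer ({v} : Set G)) K)
    (hL : IsL2 (Bar K)) (hyK : y ∈ normalizer (K : Set G)) (hyo : Odd (orderOf y))
    (hf : ¬ Fixes y K) (hR : R ≤ normalizer (K : Set G)) (hR2 : ∀ r ∈ R, r * r = 1)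
    (hRy : ∀ r ∈ R, r * y = y * r) (hRf : ∀ r ∈ R, Fixes r K → r = 1) (hR8 : Nat.card R = 8)
    (hno : ∀ w ∈ R, w ≠ 1 → ∀ J, IsComp (centralizer ({v} : Set G) ⊓ centralizer ({w} : Set G)) J →
      Fixes y J) : False := by
  obtain ⟨F, _, _, ⟨Rp⟩⟩ := A9.LTwo.exists_rep hL
  obtain ⟨V, hVR, hV4, hVI, hVP⟩ := A9.LTwo.exists_inner_four Rp hR hR2 hRf hR8
  obtain ⟨g, hg, hgV⟩ : ∃ g ∈ R, g ∉ V := by
    by_contra hcon
    push Not at hcon
    have h3 := Subgroup.card_le_of_le (show R ≤ V from hcon)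
    omega
  have hg1 : g ≠ 1 := fun h => hgV (h ▸ one_mem _)
  have hgP := hVP g hg hgV (hR hg)
  by_cases h9 : 9 < Nat.card F
  · obtain ⟨I, hI, -, -, hI'⟩ := L2Inner.exists_comp_field hK (hR2 g hg) (hR hg) Rp h9
      (fun h => hgP (Rp.mem_PGL_iff_fld.mpr h))
    apply hf
    refine hI' y hyK ?_ (hno g hg hg1 I hI)
    refine Odd.of_dvd_nat hyo ?_
    refine (orderOf_map_dvd (act K) _).trans ?_
    rw [Subgroup.orderOf_mk]
  · have hF9 : Nat.card F = 9 := by
      have hα : act K ⟨g, hR hg⟩ * act K ⟨g, hR hg⟩ = 1 := by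
        rw [← act_mul, act_congr (mul_mem (hR hg) (hR hg)) (hR2 g hg)]
        exact map_one _
      have h3 := Rp.fld_order_two hgP hα
      obtain ⟨K', hK', hcard⟩ := GH.L2Aut.exists_fixed_field (Rp.fld (act K ⟨g, hR hg⟩))
      rw [h3] at hcard
      have h4 : 1 < Nat.card K' := Finite.one_lt_card
      have h5 := GH.L2Aut.odd_card (GH.L2Aut.two_sub Rp.two K')
      obtain ⟨m, hm⟩ := h5
      have h6 : 3 ≤ Nat.card K' := by omega
      have h7 := Nat.pow_le_pow_left h6 2
      omega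
    apply hf
    refine A9.LTwo.fixes_of_nine Rp hF9 (O := zpowers y) ?_ ?_ (hVR.trans hR) hV4
      (fun v hv => hR2 v (hVR hv)) (fun v hv => hRf v (hVR hv)) hVI ?_ y (mem_zpowers y)
    · rw [Nat.card_zpowers]
      exact hyo
    · rw [zpowers_le]
      exact hyK
    · intro v hv
      rw [mem_normalizer_iff_cj]
      have : IntrinsicBasic.cj v (zpowers y) = zpowers (v * y * v⁻¹) := by
        rw [IntrinsicBasic.cj_def]
        exact MonoidHom.map_zpowers _ _
      rw [this, hRy v (hVR hv), mul_inv_cancel_right]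

theorem odd_of_core {X : Subgroup G} {y : G} (hy : y ∈ core X) : Odd (orderOf y) := by
  refine Odd.of_dvd_nat (odd_card_core X) ?_
  have := orderOf_dvd_natCard (⟨y, hy⟩ : core X)
  rwa [Subgroup.orderOf_mk] at this

/-- **LEMMA B**, `|R| = 8` -/
theorem lemmaB (hW : ∀ (x a : G) (L : Subgroup G), IsTriple x a L → IsL2 (Bar L) ∨ IsAlt 7 (Bar L))
    {x v y : G} {R : Subgroup G} (hx : orderOf x = 2) (hv : orderOf v = 2) (hvx : v * x = x * v)
    (hy : y ∈ core (centralizer ({x} : Set G))) (hyv : y ∈ centralizer ({v} : Set G))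
    (hR2 : ∀ r ∈ R, r * r = 1) (hR8 : Nat.card R = 8) (hRx : ∀ r ∈ R, r * x = x * r)
    (hRv : ∀ r ∈ R, r * v = v * r) (hRy : ∀ r ∈ R, r * y = y * r)
    (hno : ∀ w ∈ R, w ≠ 1 → ∀ J, IsComp (centralizer ({v} : Set G) ⊓ centralizer ({w} : Set G)) J →
      Fixes y J) : y ∈ core (centralizer ({v} : Set G)) := by
  by_contra hn
  obtain ⟨K, T, hf⟩ := Res.Base.exists_triple hx hv hvx hy hyv hn
  have hyK := T.mem_normalizer_of_core hy hyv
  have hRK : ∀ w ∈ R, w ≠ 1 → w ∈ normalizer (K : Set G) ∧ ¬ Fixes w K := fun w hw hw1 =>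
    norm_of_no T.comp (hR2 w hw) (hRv w hw) (hRy w hw).symm hyv hyK hf (hno w hw hw1)
  have hR : R ≤ normalizer (K : Set G) := by
    intro w hw
    by_cases h1 : w = 1
    · rw [h1]; exact one_mem _
    · exact (hRK w hw h1).1
  have hRf : ∀ r ∈ R, Fixes r K → r = 1 := by
    intro r hr h
    by_contra h1
    exact (hRK r hr h1).2 h
  rcases hW x v K T with h | h
  · exact no_eight_L2 T.comp h hyK (odd_of_core hy) hf hR hR2 hRy hRf hR8 hno
  · obtain ⟨M⟩ := isA7_of_isAlt (K := K) h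
    have := card_le_six T M hy hyv hf hR hR2 hRy hRx hRf
    omega

end Cfsg.Agent.UGT.A7.BLem
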