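import Cfsg.Agent.UGT.A7.B.Main
import Cfsg.Agent.UGT.A7.BCaseI
import Cfsg.Agent.UGT.A7.B.FOne
import Cfsg.Agent.UGT.A7.B.DPump
import Cfsg.Agent.UGT.A7.B.OneE
import Cfsg.Agent.UGT.A7.B.OneO
import Cfsg.Agent.UGT.A7.B.OneKFam
import Cfsg.Agent.UGT.A7.B.Red
import Cfsg.Agent.UGT.A7.B.WorldTwo
import Cfsg.Agent.UGT.A7.B.TwoEnd
import Cfsg.Agent.UGT.A7.BThree.End
import Cfsg.Agent.UGT.SLEnd

/-!
# The β-branch of [A7]: the parts together

* `parts`: all parts.
* `beta_of`: (beta') in the world `W7`.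
* `nodeA7`: the node `NodeA7'`.
-/

set_option autoImplicit false

open Cfsg Subgroup
open Cfsg.Agent.UGT.Triple Cfsg.Agent.UGT.TriBase
open Cfsg.Agent.UGT.Iface (Bar IsInner IsL2 IsAlt MinCex)
open Cfsg.Agent.UGT.InUList (PK4 Excl K4End)

namespace Cfsg.Agent.UGT.A7.BPlug

universe u

variable {G : Type u} [Group G] [Finite G]

theorem wi_of (hW : W7 G) : B.WI G := fun x a L T => (hW x a L T).imp (fun h => h.1) id

/-- World 1, E-type, from S1173 -/
theorem world1E (h1173 : SL.P1173.{u}) : B.World1E G := by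
  intro hG hF hU a K T h hE
  have hO : oddCore G = ⊥ := by
    have hn : (oddCore G).Normal := inferInstance
    rcases hn.eq_bot_or_eq_top with h1 | h1
    · exact h1
    · exfalso
      have h2 : Odd (Nat.card ↥(oddCore G)) := GH.L2Frame.odd_card_oddCore G
      rw [h1, Subgroup.card_top] at h2
      have h3 := orderOf_dvd_natCard a
      rw [h.fam.inv] at h3
      exact (Nat.not_even_iff_odd.mpr h2) (even_iff_two_dvd.mpr h3)
  exact B.One.world1E_of (fun S Q hQ => h1173 G hO S Q hQ) hG hF hU a K T h hE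

/-- all parts of the β-branch -/
theorem parts (h1173 : SL.P1173.{u}) (hW : W7 G) (hP : A7.Pump7 G) : B.Parts G where
  caseI := fun h => BCaseI.betaP hW hP h
  f1 := B.f1 (wi_of hW)
  w := B.ww (wi_of hW)
  dp := B.dp (wi_of hW)
  choice := B.One.choice1
  w1e := world1E h1173
  w1o := B.One.world1O
  w1k := B.OneKFam.world1K
  red := BR.reduction
  w2 := BW.world2_of_end B.TwoEnd.false_of_data
  w3 := BThree.world3

/-- **(beta')** -/
theorem beta_of (h1173 : SL.P1173.{u}) (hG : MinCex G)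
    (hr : ¬ SectionalPRankLE 2 4 ↥(generalizedFittingSubgroup G)) (hW : W7 G) : Mu.BetaP G :=
  (parts h1173 hW (PumpPlug.pump7_of hW)).beta hG hr

/-- **N6** -/
theorem nodeA7 (h1173 : SL.P1173.{u}) (k4 : PK4.{u}) (hE : Excl.{u} K4End) : Nodes.NodeA7'.{u} :=
  nodeA7_of_beta k4 hE fun _ _ _ hG hr hW => beta_of h1173 hG hr hW

end Cfsg.Agent.UGT.A7.BPlug
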