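import Cfsg.Agent.UGT.A7.DiagBase

/-!
# (7.3) of #8889: the pump-up of `C_L(t)^∞`, `t` a transposition, is not diagonal

`false_of_diag`: `(x, a, L)` a triple of type `A₇`, `Q = ⟨a⟩`, `t` an involution commuting with `a`, `x` such that `t`
and `t x` act as transpositions; then `C_L(t)^∞` is not a diagonal of `N N^a`, `N` a 2-component of `C(t)`.
-/

set_option autoImplicit false
set_option linter.unusedSectionVars false

namespace Cfsg.Agent.UGT.A7.Dg

open Cfsg Equiv Equiv.Perm Subgroup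
open Cfsg.Agent.Intrinsic.Basic Cfsg.Agent.Intrinsic Cfsg.Agent.Intrinsic.Cen Cfsg.Agent.Intrinsic.Diag
open Cfsg.Agent.SignalizersComponents Cfsg.Agent.Lib
open Cfsg.Agent.SignalizersComponents.IntrinsicBasic
open Cfsg.Agent.McLLyComp.Act
open Cfsg.Agent.UGT.Triple Cfsg.Agent.UGT.LemG Cfsg.Agent.UGT.PumpGen
open Cfsg.Agent.UAlt
open scoped commutatorElement

variable {G : Type*} [Group G] [Finite G]

/-- an odd subgroup: the members of `D` fixing `J` -/
def FxIn (D : Subgroup G) (J : Subgroup G) : Subgroup G where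
  carrier := {d | d ∈ D ∧ Fixes d J}
  mul_mem' := by
    rintro a b ⟨h1, h2⟩ ⟨h3, h4⟩
    exact ⟨mul_mem h1 h3, fixes_mul h2 h4⟩
  one_mem' := ⟨one_mem _, fixes_one _⟩
  inv_mem' := by
    rintro a ⟨h1, h2⟩
    exact ⟨inv_mem h1, fixes_inv h2⟩

theorem mem_normalizer_of_invol {F : Subgroup G} {a : G} (aa : a * a = 1) (h : ∀ o ∈ F, a * o * a⁻¹ ∈ F) :
    a ∈ normalizer (F : Set G) := by
  rw [mem_normalizer_iff]
  intro o
  refine ⟨h o, fun h1 => ?_⟩
  have h2 := h _ h1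
  rwa [aca aa] at h2

/-- a member of an odd `a`-invariant group commuting with `a` modulo the members fixing `J` can be changed -/
theorem exists_comm_fx {D J : Subgroup G} {a d : G} (hD : Odd (Nat.card D)) (aa : a * a = 1)
    (haD : ∀ d ∈ D, a * d * a⁻¹ ∈ D) (haJ : a ∈ normalizer (J : Set G)) (hd : d ∈ D)
    (hf : Fixes (d⁻¹ * (a * d * a⁻¹)) J) : ∃ o ∈ D, Fixes o J ∧ (d * o) * a = a * (d * o) := by
  have hodd : Odd (Nat.card (FxIn D J)) := Odd.of_dvd_nat hD (card_dvd_of_le fun _ h => h.1)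
  obtain ⟨o, ho, hc⟩ := Lifting.exists_commute (n := 1) hodd (by rw [pow_one, pow_two]; exact aa)
    (mem_normalizer_of_invol aa fun o ho => ⟨haD o ho.1, fixes_conj ho.2 haJ⟩)
    (show d⁻¹ * (a * d * a⁻¹) ∈ FxIn D J from ⟨mul_mem (inv_mem hd) (haD d hd), hf⟩)
  exact ⟨o, ho.1, ho.2, hc.symm⟩

/-- **(i)**: `a` normalizes `J` -/
theorem case_one {x a t s : G} {N J : Subgroup G} (P : Pr x a t N) (hs : s = t * x) (TJ : IsTriple x s J)
    (haJ : a ∈ normalizer (J : Set G)) {α : Type*} [Fintype α] [DecidableEq α] {S : Finset α} (MJ : Mod J S)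
    (hcomm : ∀ d ∈ core (centralizer ({x} : Set G)), d * s = s * d → MJ.φ a * MJ.φ d = MJ.φ d * MJ.φ a)
    (hK : ∀ d ∈ core (centralizer ({x} : Set G)), d * a = a * d → d * t = t * d → Fixes d N → Fixes d J)
    {M : Mod N U5} {τ y y' : G} (hτ : Tau x a t N M τ) (hY : Yd x a t N M τ y y')
    (hy : y ∈ core (centralizer ({x} : Set G))) (hyt : y * t = t * y) (hyJ : ¬ Fixes y J)
    (hτJ : τ ∈ normalizer (J : Set G)) : False := by
  have hts : ∀ {g : G}, g * x = x * g → g * t = t * g → g * s = s * g := fun h1 h2 =>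
    hs ▸ comm_tx h1 h2
  have hmemJ : ∀ {d : G}, d ∈ core (centralizer ({x} : Set G)) → d * s = s * d → d ∈ normalizer (J : Set G) :=
    fun h1 h2 => TJ.mem_normalizer_of_core h1 (mem_c h2)
  -- members of the kernel fix `J`
  have hker : ∀ {d : G}, d ∈ Kr x t N (cj a N) → MJ.φ d = 1 ∧ d ∈ normalizer (J : Set G) := by
    intro d hd
    have hds := hts (core_comm hd.1) hd.2.1
    have hdJ := hmemJ hd.1 hds
    have haK : ∀ d ∈ Kr x t N (cj a N), a * d * a⁻¹ ∈ Kr x t N (cj a N) := fun d hd =>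
      P.Kr_conj P.xa.symm P.ta.symm hd
    have hda := haK d hd
    have hdaJ := hmemJ hda.1 (hts (core_comm hda.1) hda.2.1)
    obtain ⟨o, ho, hoJ, hc⟩ := exists_comm_fx (odd_Kr x t N (cj a N)) P.aa haK haJ hd (by
      rw [← MJ.fixes_iff (mul_mem (inv_mem hdJ) hdaJ), MJ.mul _ _ (inv_mem hdJ) hdaJ, MJ.inv hdJ,
        MJ.conj haJ hdJ, hcomm d hd.1 hds, mul_inv_cancel_right, inv_mul_cancel])
    have h1 := mul_mem hd ho
    have h2 := (fixes_mul_iff_left hoJ).mp (hK _ h1.1 hc h1.2.1 h1.2.2.1)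
    exact ⟨(MJ.fixes_iff hdJ).mpr h2, hdJ⟩
  obtain ⟨w, hw⟩ : ∃ w, w = a * y' * a⁻¹ := ⟨_, rfl⟩
  have hwc : w ∈ core (centralizer ({x} : Set G)) := by rw [hw]; exact coreC_conj hY.core P.xa.symm
  have hwt : w * t = t * w := by rw [hw]; exact comm_conj P.ta.symm hY.ct
  have hys := hts (core_comm hY.core) hY.ct
  have hy'J := hmemJ hY.core hys
  have hwJ := hmemJ hwc (hts (core_comm hwc) hwt)
  have hyyJ := hmemJ hy (hts (core_comm hy) hyt)
  have hφw : MJ.φ w = MJ.φ y' := by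
    rw [hw, MJ.conj haJ hy'J, hcomm y' hY.core hys, mul_inv_cancel_right]
  have hk3 := hY.k3
  have hk1 := hY.k1
  rw [← hw] at hk3 hk1
  have e1 := (hker hk1).1
  have e2 := (hker hY.k2).1
  have e3 := (hker hk3).1
  rw [MJ.mul _ _ (mul_mem (mul_mem hτJ hy'J) (inv_mem hτJ)) hy'J, MJ.conj hτJ hy'J] at e2
  rw [MJ.mul _ _ (mul_mem (mul_mem hτJ hwJ) (inv_mem hτJ)) (inv_mem hwJ), MJ.conj hτJ hwJ,
    MJ.inv hwJ, hφw, mul_inv_eq_one] at e3
  rw [e3] at e2
  have h1 : MJ.φ y' = 1 := eq_one_of_sq_odd e2 (Odd.of_dvd_nat (odd_of_core hY.core) (orderOf_phi MJ hy'J))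
  rw [MJ.mul _ _ (mul_mem hy'J hwJ) hyyJ, MJ.mul _ _ hy'J hwJ, hφw, h1, one_mul, one_mul] at e1
  exact hyJ ((MJ.fixes_iff hyyJ).mp e1)

section main

variable {x a t : G} {L N : Subgroup G} {α : Type*} [Fintype α] [DecidableEq α] {S : Finset α}

/-- `τ τ^a` is outer on `J` -/
theorem not_inn {s : G} {J : Subgroup G} {M : Mod L S} (ht : Tp M x a t N) (hs : Tp M x a s J)
    (hneN : cj a N ≠ N) (hdN : M.cmp t = diag (centralizer ({t} : Set G)) N a)
    (hneJ : cj a J ≠ J) (hdJ : M.cmp s = diag (centralizer ({s} : Set G)) J a)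
    (h3 : (fixIn S (M.φ t) ∩ fixIn S (M.φ s)).card = 3) (hst : ∀ {g : G}, g * x = x * g → g * t = t * g → g * s = s * g)
    {MN : Mod N U5} {τ : G} (hτ : Tau x a t N MN τ) : ¬ Inn (τ * (a * τ * a⁻¹)) J := by
  intro hinn
  have aa := ht.aa
  obtain ⟨w, hw⟩ : ∃ w, w = a * τ * a⁻¹ := ⟨_, rfl⟩
  rw [← hw] at hinn
  have hswap := hτ.swap
  rw [← hw] at hswap
  have haw : a * w * a⁻¹ = τ := by rw [hw]; exact aca aa
  have hwN' : w ∈ cj a N := by rw [hw]; exact conj_mem_cj hτ.mem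
  have hac : a ∈ centralizer ({t} : Set G) := mem_c ht.ca.symm
  have hcN' : IsComp (centralizer ({t} : Set G)) (cj a N) := isComp_cj_of_mem ht.comp hac
  have hww : w * w = 1 := by
    rw [hw]
    calc a * τ * a⁻¹ * (a * τ * a⁻¹) = a * (τ * τ) * a⁻¹ := by group
      _ = 1 := by rw [hτ.sq]; group
  have hτt : τ * t = t * τ := comm_c (ht.comp.le hτ.mem)
  have hwt : w * t = t * w := comm_c (hcN'.le hwN')
  have hwx : w * x = x * w := by
    rw [hw]; exact comm_conj ht.T.comm hτ.cx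
  obtain ⟨v, hv⟩ : ∃ v, v = τ * w := ⟨_, rfl⟩
  rw [← hv] at hinn
  have hvv : v * v = 1 := by
    rw [hv]
    calc τ * w * (τ * w) = τ * (w * τ) * w := by group
      _ = τ * (τ * w) * w := by rw [← hswap]
      _ = (τ * τ) * (w * w) := by group
      _ = 1 := by rw [hτ.sq, hww, one_mul]
  have hva : v * a = a * v := by
    have h1 : a * v * a⁻¹ = v := by
      calc a * v * a⁻¹ = (a * τ * a⁻¹) * (a * w * a⁻¹) := by rw [hv]; group
        _ = w * τ := by rw [haw, ← hw]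
        _ = v := by rw [hv, hswap]
    exact (comm_of_conj h1).symm
  have hvt : v * t = t * v := by rw [hv]; exact comm_mul hτt hwt
  have hvx : v * x = x * v := by rw [hv]; exact comm_mul hτ.cx hwx
  have hvs := hst hvx hvt
  have hvcmp : v ∈ M.cmp t := by
    rw [hdN]
    refine mem_diag (k := τ) (n := 1) (mem_c hvt) hva hτ.mem ?_ (by rw [pow_one, pow_two]; exact hvv)
    rw [hv, hw, inv_mul_cancel]
    exact one_mem _
  have hvL := M.cmp_le t hvcmp
  have hvφ := M.cmp_mem_alt hvcmp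
  -- inner on `J`, so inner on `cmp s`
  have h4 : Inn v (M.cmp s) := by
    rw [hdJ]
    exact hinn.diag hs.comp hs.ca aa hneJ hvs hva
  obtain ⟨m, hm, hf⟩ := h4
  have hmL := M.cmp_le s hm
  have hmn : m ∈ normalizer (L : Set G) := le_normalizer hmL
  have hvn : v ∈ normalizer (L : Set G) := le_normalizer hvL
  have hma : m * a = a * m := comm_c (ht.T.comp.le hmL)
  have h5 := hs.phi_of_cmp (comm_mul (comm_inv hma) hva) hf
  have h6 : sign (M.φ (m⁻¹ * v)) = 1 := by
    have := (M.mem_alt _ (mul_mem (inv_mem hmL) hvL)).1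
    exact mem_alternatingGroup.mp this
  have h7 : M.φ v = M.φ m := by
    rcases h5 with h5 | h5
    · rw [M.mul _ _ (inv_mem hmn) hvn, M.inv hmn, inv_mul_eq_one] at h5
      exact h5.symm
    · rw [h5, hs.two.2.1] at h6
      exact absurd h6 (by decide)
  have hmφ := M.cmp_mem_alt hm
  rw [← h7] at hmφ
  have h8 : M.φ v = 1 := by
    refine eq_one_of_support (M.sq hvn hvv) (mem_alternatingGroup.mp hvφ.1) ?_
    rw [← h3]
    apply Finset.card_le_card
    intro p hp
    rw [mem_support] at hp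
    rw [Finset.mem_inter]
    exact ⟨by_contra fun h => hp (hvφ.2 p h), by_contra fun h => hp (hmφ.2 p h)⟩
  have h9 : v = 1 := eq_one_of_mem_core_sq ((M.core_iff v hvL).mp h8) hvv
  rw [hv, mul_eq_one_iff_eq_inv] at h9
  have h10 : Fixes τ N := by
    rw [h9]
    exact fixes_inv (ht.comp.fixes_of_mem hcN' hneN.symm hwN')
  have h11 := (MN.fixes_iff h10.1).mpr h10
  rw [hτ.lab] at h11
  exact a0_facts.1 h11

/-- some `y ∈ O(C(x)) ∩ C(a) ∩ C(t)` does not fix `L` -/
theorem exists_y (T : IsTriple x a L) (M : Mod L S) (htt : t * t = 1) (hta : t * a = a * t) (htx : t * x = x * t)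
    (htL : t ∈ normalizer (L : Set G)) (hsub : fixIn S (M.φ x) ⊆ fixIn S (M.φ t)) :
    ∃ y ∈ core (centralizer ({x} : Set G)), y * a = a * y ∧ y * t = t * y ∧ ¬ Fixes y L := by
  obtain ⟨d, hd, hda, hdL⟩ := T.bad
  obtain ⟨D, hD⟩ : ∃ D, D = core (centralizer ({x} : Set G)) ⊓ centralizer ({a} : Set G) := ⟨_, rfl⟩
  have hodd : Odd (Nat.card D) := Odd.of_dvd_nat (odd_card_core (centralizer ({x} : Set G)))
    (by rw [hD]; exact card_dvd_of_le inf_le_left)
  have htD : ∀ d ∈ D, t * d * t⁻¹ ∈ D := by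
    intro d hd
    rw [hD] at hd ⊢
    exact ⟨coreC_conj hd.1 htx, mem_c (comm_conj hta (comm_c hd.2))⟩
  have hdD : d ∈ D := hD ▸ ⟨hd, hda⟩
  have hdn := T.mem_normalizer_of_core hd hda
  have hcm : M.φ t * M.φ d = M.φ d * M.φ t :=
    (comm_of_mem_sym_fixIn (sym_mono hsub (alt_le_sym _ (phi_core T M hd (comm_c hda))))).symm
  have htdn : t * d * t⁻¹ ∈ normalizer (L : Set G) := mul_mem (mul_mem htL hdn) (inv_mem htL)
  obtain ⟨o, ho, hoL, hc⟩ := exists_comm_fx (D := D) (J := L) hodd htt htD htL hdD (by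
    rw [← M.fixes_iff (mul_mem (inv_mem hdn) htdn), M.mul _ _ (inv_mem hdn) htdn, M.inv hdn,
      M.conj htL hdn, hcm, mul_inv_cancel_right, inv_mul_cancel])
  rw [hD] at ho
  exact ⟨d * o, mul_mem hd ho.1, comm_mul (comm_c hda) (comm_c ho.2), hc,
    fun h => hdL ((fixes_mul_iff_left hoL).mp h)⟩

/-- **(7.3)** -/
theorem false_of_diag (W : World x) (T : IsTriple x a L) (M : Mod L S) (hS : S.card = 7)
    (hCn : centralizer ({a} : Set G) ≤ normalizer (L : Set G))
    (hQ : ∀ u, u * u = 1 → u * a = a * u → Fixes u L → u = 1 ∨ u = a)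
    (htt : t * t = 1) (hta : t * a = a * t) (htx : t * x = x * t)
    (ht5 : (fixIn S (M.φ t)).card = 5) (hs5 : (fixIn S (M.φ (t * x))).card = 5)
    (hN : IsComp (centralizer ({t} : Set G)) N) (hne : cj a N ≠ N)
    (hd : M.cmp t = diag (centralizer ({t} : Set G)) N a)
    (hy0 : ∃ y ∈ core (centralizer ({x} : Set G)), y ∈ M.cmp (t * x) ∧ y ∉ core (M.cmp (t * x))) : False := by
  have aa := sq_of_order T.inva
  have xx := sq_of_order T.invx
  have hxa : x * a = a * x := T.comm.symm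
  have hxL := T.x_mem
  have htL : t ∈ normalizer (L : Set G) := hCn (mem_c hta)
  -- `s = t x`
  obtain ⟨s, hs⟩ : ∃ s, s = t * x := ⟨_, rfl⟩
  rw [← hs] at hs5 hy0
  have hts : ∀ {g : G}, g * x = x * g → g * t = t * g → g * s = s * g := fun h1 h2 =>
    hs ▸ comm_tx h1 h2
  have hss : s * s = 1 := by
    rw [hs]
    calc t * x * (t * x) = t * (x * t) * x := by group
      _ = t * (t * x) * x := by rw [← htx]
      _ = (t * t) * (x * x) := by group
      _ = 1 := by rw [htt, xx, one_mul]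
  have hsa : s * a = a * s := by rw [hs]; exact comm_mul hta hxa
  have hsx : s * x = x * s := by rw [hs]; exact comm_mul htx rfl
  have hsL : s ∈ normalizer (L : Set G) := hCn (mem_c hsa)
  have Tt : Tp M x a t N := ⟨T, hS, hCn, hQ, hta, htx, ht5, hN, htt, Or.inr ⟨hne, hd⟩⟩
  have hxts : M.φ t * M.φ s = M.φ x := by
    rw [← M.mul _ _ htL hsL, hs, ← mul_assoc, htt, one_mul]
  have h3x := M.card_of_triple T
  have hint := fixIn_mul hS ht5 hs5 (by rw [hxts]; exact h3x)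
  rw [hxts] at hint
  have hsub : fixIn S (M.φ x) ⊆ fixIn S (M.φ t) := by rw [← hint]; exact Finset.inter_subset_left
  have hint3 : (fixIn S (M.φ t) ∩ fixIn S (M.φ s)).card = 3 := by rw [hint]; exact h3x
  obtain ⟨y, hy, hya, hyt, hyL⟩ := exists_y T M htt hta htx htL hsub
  have hys := hts (core_comm hy) hyt
  have hyodd := odd_of_core hy
  -- the triple `(x, t, N)`
  have ht1 : t ≠ 1 := by
    rintro rfl
    have := Tt.two.2.1
    rw [M.one, Perm.sign_one] at this
    exact absurd this (by decide)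
  have hto : orderOf t = 2 := orderOf_eq_prime (by rw [pow_two]; exact htt) ht1
  have hyN : ¬ Fixes y N := fun h => hyL (Tt.odd_fixes hya hyodd (Tt.fixes_cmp hya hyt h))
  have TN : IsTriple x t N := ⟨T.invx, hto, htx, hN, y, hy, mem_c hyt, hyN⟩
  have hcmpt : AltType (M.cmp t) 5 := by
    have := altType_cmp M htL htt (by rw [ht5])
    rwa [ht5] at this
  have hcmps : AltType (M.cmp s) 5 := by
    have := altType_cmp M hsL hss (by rw [hs5])
    rwa [hs5] at this
  have hN5 : AltType N 5 := altType_of_diag hN (mem_c hta.symm) aa hne (W.center t N TN) (hd ▸ hcmpt)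
  have P : Pr x a t N := ⟨TN, hxa, hta, aa, hne, hN5, fun g hg => Tt.perm hN5 hg⟩
  -- the pump-up for `s`
  have hs1 : s ≠ 1 := by
    rintro rfl
    have : fixIn S (M.φ 1) = S := by
      rw [M.one]
      ext p
      simp [mem_fixIn]
    rw [this, hS] at hs5
    exact absurd hs5 (by norm_num)
  have hso : orderOf s = 2 := orderOf_eq_prime (by rw [pow_two]; exact hss) hs1
  have hcmpsC : IsComp (centralizer ({s} : Set G) ⊓ centralizer ({a} : Set G)) (M.cmp s) := by
    rw [inf_comm]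
    exact M.isComp_cmp_of T.comp hsL hss (by rw [hs5])
  have hycmp : ¬ Fixes y (M.cmp s) := by
    intro hf
    apply hyL
    have hyn := hCn (mem_c hya)
    obtain ⟨p1, p2, p3⟩ := two_points (M.mem_sym s hsL) hS hs5
    rw [← M.fixes_iff hyn]
    rcases p3 _ (M.mem_sym y hyn) fun p hp => M.apply_of_fixes_cmp hsL hss (by rw [hs5]) hyn hf hp with h1 | h1
    · exact h1
    · exact eq_one_of_sq_odd (by rw [h1]; exact p1) (Odd.of_dvd_nat hyodd (orderOf_phi M hyn))
  obtain ⟨J, TJ, hyJ, horJ⟩ := pump T.invx hso aa hsa hsx hcmpsC hy (mem_c hya) (mem_c hys) hycmp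
  have hor' : M.cmp s ≤ J ∨ (cj a J ≠ J ∧ M.cmp s = diag (centralizer ({s} : Set G)) J a) := by
    rcases horJ with ⟨-, h⟩ | h
    · exact Or.inl h
    · exact Or.inr h
  have Ts : Tp M x a s J := ⟨T, hS, hCn, hQ, hsa, hsx, hs5, TJ.comp, hss, hor'⟩
  -- `τ`, `y'`
  obtain ⟨MN, hMN⟩ := exists_label TN hN5
  obtain ⟨τ, hτ⟩ := P.exists_tau hMN
  obtain ⟨hY, hYφ⟩ := P.yd hMN hτ hy hya hyt
  have hτt := P.comm_t_of_mem hτ.mem
  have hτs := hts hτ.cx hτt
  have hKcmp : ∀ d ∈ core (centralizer ({x} : Set G)), d * a = a * d → d * t = t * d → Fixes d N →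
      Fixes d (M.cmp s) := by
    intro d h1 h2 h3 h4
    have h5 := Tt.odd_fixes h2 (odd_of_core h1) (Tt.fixes_cmp h2 h3 h4)
    exact Ts.cmp_fixes h2 (hts (core_comm h1) h3) h5
  rcases horJ with ⟨haJ, hle⟩ | ⟨hneJ, hdJ⟩
  · -- (i)
    have hE : IsComp (J ⊓ centralizer ({a} : Set G)) (M.cmp s) :=
      hcmpsC.restrict (inf_le_inf_right _ TJ.comp.le) (le_inf hle (hcmpsC.le.trans inf_le_right))
    have key : ∀ {n : ℕ} (MJ : Mod J (Finset.univ : Finset (Fin n))),
        (∀ σ ∈ sym (Finset.univ : Finset (Fin n)), (∀ p ∈ fixIn Finset.univ (MJ.φ a), σ p = p) →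
          σ = 1 ∨ σ = MJ.φ a) → τ ∈ normalizer (J : Set G) → False := by
      intro n MJ hMJ hτJ
      obtain ⟨hEc, hE5⟩ := (MJ.isComp_iff_cmp haJ aa).mp hE
      refine case_one P hs TJ haJ MJ ?_ ?_ hτ hY hy hyt hyJ hτJ
      · intro d hd hds
        exact comm_core TJ MJ haJ hy hys hya hyJ hd hds
      · intro d h1 h2 h3 h4
        have h5 := hKcmp d h1 h2 h3 h4
        have hdJ := TJ.mem_normalizer_of_core h1 (mem_c (hts (core_comm h1) h3))
        rw [hEc] at h5
        rw [← MJ.fixes_iff hdJ]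
        rcases hMJ _ (MJ.mem_sym d hdJ) fun p hp => MJ.apply_of_fixes_cmp haJ aa hE5 hdJ h5 hp with h6 | h6
        · exact h6
        · exact eq_one_of_sq_odd (by rw [h6]; exact MJ.sq haJ aa)
            (Odd.of_dvd_nat (odd_of_core h1) (orderOf_phi MJ hdJ))
    rcases W.pump s a J (M.cmp s) TJ aa hsa.symm hxa.symm haJ hE hcmps hy0 with ⟨hJ5, haF⟩ | hJ7
    · obtain ⟨MJ⟩ := nonempty_mod hJ5
      have hφa := (MJ.fixes_iff haJ).mpr haF
      refine key MJ (fun σ _ hf => Or.inl ?_) ?_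
      · ext p
        rw [hf p (by rw [mem_fixIn, hφa]; exact ⟨Finset.mem_univ p, rfl⟩), Perm.one_apply]
      · rw [mem_normalizer_iff_cj]
        rcases Ts.perm hJ5 hτs with h1 | h1
        · exact h1
        · rw [h1]; exact mem_normalizer_iff_cj.mp haJ
    · obtain ⟨MJ⟩ := hJ7.mod_of_card (S := (Finset.univ : Finset (Fin 7))) (by simp) le_rfl
      obtain ⟨-, h5⟩ := seven_five MJ aa haJ hE hcmps
      exact key MJ (two_points (MJ.mem_sym a haJ) (by simp) h5).2.2 (W.norm s J TJ hJ7 (mem_c hτs))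
  · -- (ii)
    have hJ5 : AltType J 5 :=
      altType_of_diag TJ.comp (mem_c hsa.symm) aa hneJ (W.center s J TJ) (hdJ ▸ hcmps)
    have Q : Pr x a s J := ⟨TJ, hxa, hsa, aa, hneJ, hJ5, fun g hg => Ts.perm hJ5 hg⟩
    have hK : ∀ d ∈ core (centralizer ({x} : Set G)), d * a = a * d → d * t = t * d → Fixes d N → Fixes d J := by
      intro d h1 h2 h3 h4
      have h5 := hKcmp d h1 h2 h3 h4
      have h6 := hts (core_comm h1) h3
      refine fixes_of_comm_diag TJ.comp (mem_c hsa.symm) aa hneJ (mem_c h6) (Q.core_mem h1 h6)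
        (Q.core_mem' h1 h6) fun m hm => ?_
      rw [← hdJ] at hm
      obtain ⟨-, -, -, h7, -⟩ := exists_diag TJ.comp (mem_c hsa.symm) aa hneJ
      have h8 := h5.2 m hm
      rw [hdJ, h7] at h8
      exact h8.2
    have hOut := not_inn Tt Ts hne hd hneJ hdJ hint3 (fun h1 h2 => hts h1 h2) hτ
    obtain ⟨J', hJ', hτJ', hτJ'', -, hyJ'⟩ := exists_J P Q hs hK hτ hY hy hyt hyJ
    have hyφ : MN.φ (y * τ * y⁻¹ * τ⁻¹) = c0 ∨ MN.φ (y * τ * y⁻¹ * τ⁻¹) = c0⁻¹ := by
      have hyn := P.core_mem hy hyt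
      rw [hYφ]
      rcases core_cases MN hMN TN.x_mem hy hyn with h1 | h1 | h1
      · exact absurd ((MN.fixes_iff hyn).mp h1) hyN
      · rw [h1]; right; decide
      · rw [h1]; left; decide
    rcases hJ' with rfl | rfl
    · obtain ⟨MJ, hMJ⟩ := exists_label Q.T Q.ty
      exact end_two W P Q hs hK hMN hMJ hτ hY hyφ hτJ' hτJ'' hyJ' hOut
    · obtain ⟨MJ, hMJ⟩ := exists_label Q.symm.T Q.symm.ty
      refine end_two W P Q.symm hs (hK_swap hK) hMN hMJ hτ hY hyφ hτJ' hτJ'' hyJ' fun h1 => hOut ?_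
      have h2 := h1.conj (v := a) (by
        obtain ⟨w, hw⟩ : ∃ w, w = a * τ * a⁻¹ := ⟨_, rfl⟩
        have haw : a * w * a⁻¹ = τ := by rw [hw]; exact aca aa
        have hswap := hτ.swap
        rw [← hw] at hswap ⊢
        have h1 : a * (τ * w) * a⁻¹ = τ * w := by
          calc a * (τ * w) * a⁻¹ = (a * τ * a⁻¹) * (a * w * a⁻¹) := by group
            _ = w * τ := by rw [haw, ← hw]
            _ = τ * w := hswap.symm
        exact (comm_of_conj h1).symm)
      rwa [Q.cc] at h2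

end main

end Cfsg.Agent.UGT.A7.Dg
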