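import Cfsg.Agent.UGT.A7.DiagThree

/-!
# (7.3) of #8889: the 2-components of `C(a)` and of `C(c)`, `c` a transposition

`T : IsTriple x a L`, `M : Mod L S` with `|S| = 7`, `c` an involution commuting with `a`, `x` acting on `L / O(L)` as
a transposition.
-/

set_option autoImplicit false
set_option linter.unusedSectionVars false

namespace Cfsg.Agent.UGT.A7.Dg

open Cfsg Equiv Equiv.Perm Subgroup
open Cfsg.Agent.Intrinsic.Basic Cfsg.Agent.Intrinsic Cfsg.Agent.Intrinsic.Cen Cfsg.Agent.Intrinsic.Diag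
open Cfsg.Agent.SignalizersComponents Cfsg.Agent.Lib
open Cfsg.Agent.SignalizersComponents.IntrinsicBasic
open Cfsg.Agent.McLLyComp.Act
open Cfsg.Agent.UGT.Triple Cfsg.Agent.UGT.LemG Cfsg.Agent.UGT.PumpGen
open Cfsg.Agent.UAlt
open scoped commutatorElement

/-! ### permutations -/

section perm

variable {α : Type*} [Fintype α] [DecidableEq α]

theorem eq_one_of_sq_odd {g : Perm α} (h : g * g = 1) (ho : Odd (orderOf g)) : g = 1 := by
  have h1 : orderOf g ∣ 2 := orderOf_dvd_of_pow_eq_one (by rw [pow_two]; exact h)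
  rcases (Nat.dvd_prime Nat.prime_two).mp h1 with h2 | h2
  · exact orderOf_eq_one_iff.mp h2
  · rw [h2] at ho
    exact absurd ho (by decide)

/-- an even involution has at least four moved points -/
theorem eq_one_of_support {g : Perm α} (h : g * g = 1) (hs : sign g = 1) (hc : g.support.card ≤ 3) : g = 1 := by
  by_cases h3 : g.support.card = 3
  · have h4 := (card_support_eq_three_iff.mp h3).orderOf
    have h5 : orderOf g ∣ 2 := orderOf_dvd_of_pow_eq_one (by rw [pow_two]; exact h)
    rw [h4] at h5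
    exact absurd h5 (by decide)
  · rcases eq_one_or_sign (g := g) (by omega) with h4 | h4
    · exact h4
    · rw [hs] at h4
      exact absurd h4 (by decide)

theorem fixIn_inter_card {S A B : Finset α} (h7 : S.card = 7) (hA : A ⊆ S) (hB : B ⊆ S) (h5 : A.card = 5)
    (h5' : B.card = 5) : 3 ≤ (A ∩ B).card := by
  have h1 := Finset.card_union_add_card_inter A B
  have h2 := Finset.card_le_card (Finset.union_subset hA hB)
  omega

/-- the fixed points of `ρ σ` -/
theorem fixIn_mul {S : Finset α} {ρ σ : Perm α} (h7 : S.card = 7) (h5 : (fixIn S ρ).card = 5)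
    (h5' : (fixIn S σ).card = 5) (h3 : (fixIn S (ρ * σ)).card = 3) :
    fixIn S ρ ∩ fixIn S σ = fixIn S (ρ * σ) := by
  have h1 : fixIn S ρ ∩ fixIn S σ ⊆ fixIn S (ρ * σ) := by
    intro p hp
    rw [Finset.mem_inter, mem_fixIn, mem_fixIn] at hp
    rw [mem_fixIn, Perm.mul_apply, hp.2.2, hp.1.2]
    exact ⟨hp.1.1, rfl⟩
  refine Finset.eq_of_subset_of_card_le h1 ?_
  rw [h3]
  exact fixIn_inter_card h7 (fixIn_subset S ρ) (fixIn_subset S σ) h5 h5'

theorem mem_zpowers_alt {F : Finset α} (h3 : F.card = 3) {c d : Perm α} (hc : c ∈ alt F) (hd : d ∈ alt F)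
    (h1 : c ≠ 1) : d ∈ zpowers c := by
  have : Fact (Nat.Prime 3) := ⟨Nat.prime_three⟩
  have hcard : Nat.card (alt F) = 3 := by
    have := card_alt (S := F) (by omega)
    rw [h3] at this
    have h6 : Nat.factorial 3 = 6 := rfl
    omega
  have h2 := mem_zpowers_of_prime_card (p := 3) hcard (g := (⟨c, hc⟩ : alt F)) (g' := ⟨d, hd⟩)
    (fun h => h1 (congrArg Subtype.val h))
  obtain ⟨n, hn⟩ := mem_zpowers_iff.mp h2
  refine mem_zpowers_iff.mpr ⟨n, ?_⟩
  exact congrArg Subtype.val hn

end perm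

variable {G : Type*} [Group G] [Finite G]

section general

variable {α : Type*} [Fintype α] [DecidableEq α] {S : Finset α}

/-- the labels of `O(C(x)) ∩ C(a)` -/
theorem phi_core {x a : G} {L : Subgroup G} (T : IsTriple x a L) (M : Mod L S) {d : G}
    (hd : d ∈ core (centralizer ({x} : Set G))) (hda : d * a = a * d) :
    M.φ d ∈ alt (fixIn S (M.φ x)) := by
  obtain ⟨D, hD⟩ : ∃ D, D = core (centralizer ({x} : Set G)) ⊓ centralizer ({a} : Set G) := ⟨_, rfl⟩
  have ho : Odd (Nat.card D) := Odd.of_dvd_nat (odd_card_core (centralizer ({x} : Set G)))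
    (by rw [hD]; exact card_dvd_of_le inf_le_left)
  refine core_cent_le (M.mem_sym x T.x_mem) (M.sq T.x_mem (sq_of_order T.invx))
    (M.phi_mem_core T.x_mem (sq_of_order T.invx) ho ?_ ?_ ?_ d (hD ▸ ⟨hd, mem_c hda⟩))
  · rw [hD]
    exact fun e he => T.mem_normalizer_of_core he.1 he.2
  · rw [hD]
    exact fun e he => comm_c ((core_le _) he.1)
  · rw [hD]
    intro k hk hkx e he
    have hka : k ∈ centralizer ({a} : Set G) := T.comp.le hk
    exact ⟨conj_core (mem_c hkx) he.1, Subgroup.mul_mem _ (Subgroup.mul_mem _ hka he.2)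
      (Subgroup.inv_mem _ hka)⟩

/-- the labels of `O(C(x)) ∩ C(c)` commute with the label of an element commuting with some `y` -/
theorem comm_core {x c a : G} {J : Subgroup G} (T : IsTriple x c J) (M : Mod J S) (ha : a ∈ normalizer (J : Set G))
    {y : G} (hy : y ∈ core (centralizer ({x} : Set G))) (hyc : y * c = c * y) (hya : y * a = a * y)
    (hyJ : ¬ Fixes y J) {d : G} (hd : d ∈ core (centralizer ({x} : Set G))) (hdc : d * c = c * d) :
    M.φ a * M.φ d = M.φ d * M.φ a := by
  have hyn := T.mem_normalizer_of_core hy (mem_c hyc)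
  have h1 := phi_core T M hy hyc
  have h2 := phi_core T M hd hdc
  have h3 := mem_zpowers_alt (M.card_of_triple T) h1 h2 fun h => hyJ ((M.fixes_iff hyn).mp h)
  obtain ⟨n, hn⟩ := mem_zpowers_iff.mp h3
  rw [← hn]
  exact ((show Commute (M.φ a) (M.φ y) from M.comm ha hyn hya.symm).zpow_right n)

/-- the type of `M.cmp t` -/
theorem altType_cmp {K : Subgroup G} (M : Mod K S) {t : G} (ht : t ∈ normalizer (K : Set G))
    (htt : t * t = 1) (h5 : 5 ≤ (fixIn S (M.φ t)).card) : AltType (M.cmp t) (fixIn S (M.φ t)).card := by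
  set F := fixIn S (M.φ t) with hF
  let f : ↥(M.cmp t) →* ↥(alt F) :=
    { toFun := fun x => ⟨M.φ x, M.cmp_mem_alt x.2⟩
      map_one' := Subtype.ext M.one
      map_mul' := fun x y => Subtype.ext
        (M.mul x y (le_normalizer (M.cmp_le t x.2)) (le_normalizer (M.cmp_le t y.2))) }
  have hf : Function.Surjective f := by
    rintro ⟨σ, hσ⟩
    obtain ⟨k, hk, rfl⟩ := M.cmp_lift ht htt h5 hσ
    exact ⟨⟨k, hk⟩, rfl⟩
  have hodd : Odd (Nat.card f.ker) := by
    have h1 : f.ker.map (M.cmp t).subtype ≤ core K := by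
      rintro _ ⟨m, hm, rfl⟩
      exact (M.core_iff _ (M.cmp_le t m.2)).mp (congrArg Subtype.val (MonoidHom.mem_ker.mp hm))
    have h2 := Subgroup.card_dvd_of_le h1
    rw [Subgroup.card_map_of_injective (Subgroup.subtype_injective _)] at h2
    exact Odd.of_dvd_nat (odd_card_core K) h2
  have hker : f.ker = oddCore ↥(M.cmp t) := by
    apply le_antisymm
    · exact Cores.le_pPrimeCore inferInstance (Nat.coprime_two_right.mpr hodd)
    · intro x hx
      have h1 : (x : G) ∈ core K := M.core_cmp_le_rig ht htt h5 ((mem_core_iff x.2).mpr hx)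
      rw [MonoidHom.mem_ker]
      exact Subtype.ext ((M.core_iff _ (M.cmp_le t x.2)).mpr h1)
  exact ⟨(((QuotientGroup.quotientMulEquivOfEq hker.symm).trans
    (QuotientGroup.quotientKerEquivOfSurjective f hf)).trans (altEquiv F).symm).trans
      (Equiv.altCongrHom F.equivFin)⟩

end general

/-- the type of a 2-component with centreless quotient from the type of the diagonal -/
theorem altType_of_diag {X K : Subgroup G} {v : G} (hK : IsComp X K) (hvX : v ∈ X) (hv : v * v = 1)
    (hne : cj v K ≠ K) (hs : center (↥K ⧸ oddCore ↥K) = ⊥) {n : ℕ}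
    (h : AltType (diag X K v) n) : AltType K n := by
  obtain ⟨-, -, -, -, f, hf, hker, -⟩ := exists_diag hK hvX hv hne
  obtain ⟨e⟩ := h
  rw [hs, le_bot_iff] at hker
  have hinj : Function.Injective f := (MonoidHom.ker_eq_bot_iff f).mp hker
  exact ⟨(MulEquiv.ofBijective f ⟨hinj, hf⟩).trans e⟩

/-! ### a transposition `c` -/

/-- `c` is an involution commuting with `a`, `x`, acting on `L / O(L)` as a transposition; `J` is the pump-up of
`C_L(c)^∞` in `C(c)` -/
structure Tp {α : Type*} [Fintype α] [DecidableEq α] {S : Finset α} {L : Subgroup G} (M : Mod L S) (x a c : G)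
    (J : Subgroup G) : Prop where
  T : IsTriple x a L
  card : S.card = 7
  cn : centralizer ({a} : Set G) ≤ normalizer (L : Set G)
  hQ : ∀ u, u * u = 1 → u * a = a * u → Fixes u L → u = 1 ∨ u = a
  ca : c * a = a * c
  cx : c * x = x * c
  five : (fixIn S (M.φ c)).card = 5
  comp : IsComp (centralizer ({c} : Set G)) J
  cc : c * c = 1
  hor : M.cmp c ≤ J ∨ (cj a J ≠ J ∧ M.cmp c = diag (centralizer ({c} : Set G)) J a)

namespace Tp

variable {α : Type*} [Fintype α] [DecidableEq α] {S : Finset α} {L J : Subgroup G} {M : Mod L S} {x a c : G}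
  (h : Tp M x a c J)

include h

theorem aa : a * a = 1 := sq_of_order h.T.inva

theorem cL : c ∈ normalizer (L : Set G) := h.cn (mem_c h.ca)

theorem cmpC : IsComp (centralizer ({c} : Set G) ⊓ centralizer ({a} : Set G)) (M.cmp c) := by
  rw [inf_comm]
  exact M.isComp_cmp_of h.T.comp h.cL h.cc (by rw [h.five])

theorem two : (M.φ c) * (M.φ c) = 1 ∧ sign (M.φ c) = -1 ∧
    ∀ σ ∈ sym S, (∀ p ∈ fixIn S (M.φ c), σ p = p) → σ = 1 ∨ σ = M.φ c :=
  two_points (M.mem_sym c h.cL) h.card h.five

/-- an element of `C(a) ∩ C(c)` fixing `cmp c` -/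
theorem phi_of_cmp {u : G} (hua : u * a = a * u) (hf : Fixes u (M.cmp c)) : M.φ u = 1 ∨ M.φ u = M.φ c :=
  h.two.2.2 _ (M.mem_sym u (h.cn (mem_c hua))) fun _ hp =>
    M.apply_of_fixes_cmp h.cL h.cc (by rw [h.five]) (h.cn (mem_c hua)) hf hp

/-- an element of `C(a) ∩ C(c)` fixing `J` fixes `cmp c` -/
theorem fixes_cmp {u : G} (hua : u * a = a * u) (huc : u * c = c * u) (hf : Fixes u J) : Fixes u (M.cmp c) :=
  fixes_of_pump h.aa h.ca h.cmpC h.comp (mem_c huc) (mem_c hua) hf h.hor

/-- elements of odd order -/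
theorem odd_fixes {d : G} (hda : d * a = a * d) (ho : Odd (orderOf d)) (hf : Fixes d (M.cmp c)) : Fixes d L := by
  have hdn := h.cn (mem_c hda)
  rw [← M.fixes_iff hdn]
  rcases h.phi_of_cmp hda hf with h1 | h1
  · exact h1
  · have h2 := Odd.of_dvd_nat ho (orderOf_phi M hdn)
    exact eq_one_of_sq_odd (by rw [h1]; exact h.two.1) h2

theorem cmp_fixes {d : G} (hda : d * a = a * d) (hdc : d * c = c * d) (hf : Fixes d L) : Fixes d (M.cmp c) := by
  refine M.fixes_cmp h.T.comp h.cL h.cc (by rw [h.five]) (mem_c hda) hf.1 (mem_c hdc) fun p _ => ?_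
  rw [(M.fixes_iff hf.1).mpr hf]
  rfl

/-- involutions of `C(a) ∩ C(c)` fixing `J` -/
theorem inv_fixes {u : G} (huu : u * u = 1) (hua : u * a = a * u) (huc : u * c = c * u) (hf : Fixes u J) :
    (u = 1 ∨ u = a) ∨ (u * c = 1 ∨ u * c = a) := by
  have hun := h.cn (mem_c hua)
  rcases h.phi_of_cmp hua (h.fixes_cmp hua huc hf) with h1 | h1
  · exact Or.inl (h.hQ u huu hua ((M.fixes_iff hun).mp h1))
  · refine Or.inr (h.hQ (u * c) ?_ (comm_mul hua h.ca) ?_)
    · calc u * c * (u * c) = u * (c * u) * c := by group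
        _ = u * (u * c) * c := by rw [← huc]
        _ = (u * u) * (c * c) := by group
        _ = 1 := by rw [huu, h.cc, one_mul]
    · rw [← M.fixes_iff (mul_mem hun h.cL), M.mul _ _ hun h.cL, h1]
      exact h.two.1

/-- **the 2-components `J`, `J^a` are permuted by `C(c)`** -/
theorem perm (h5 : AltType J 5) {g : G} (hg : g * c = c * g) : cj g J = J ∨ cj g J = cj a J := by
  by_contra hcon
  rw [not_or] at hcon
  obtain ⟨K, hK⟩ : ∃ K, K = cj g J := ⟨_, rfl⟩
  rw [← hK] at hcon
  obtain ⟨hne, hne'⟩ := hcon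
  have hKc : IsComp (centralizer ({c} : Set G)) K := by rw [hK]; exact isComp_cj_of_mem h.comp (mem_c hg)
  have hK5 : AltType K 5 := by rw [hK]; exact h5.cj g
  obtain ⟨MK⟩ := nonempty_mod hK5
  have hcK := fixes_self hKc
  have hφc := (MK.fixes_iff hcK.1).mpr hcK
  have hac : a * c = c * a := h.ca.symm
  have aa := h.aa
  by_cases haK : cj a K = K
  · have haK' : a ∈ normalizer (K : Set G) := mem_normalizer_iff_cj.mpr haK
    obtain ⟨σ, s1, s2, s3, s4, s5⟩ := exists_other (MK.φ a) (MK.sq haK' aa)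
    obtain ⟨u, hu, huu, hau, huφ⟩ := MK.exists_inv_lift haK' (n := 1) (by rw [pow_one, pow_two]; exact aa)
      (mem_alt_univ s1) s2 s5
    have huK : u ∈ normalizer (K : Set G) := le_normalizer hu
    have hfu : Fixes u J := h.comp.fixes_of_mem hKc (Ne.symm hne) hu
    rcases h.inv_fixes huu hau.symm (comm_c (hKc.le hu)) hfu with (h1 | h1) | (h1 | h1)
    · rw [h1, MK.one] at huφ
      exact s3 huφ.symm
    · rw [h1] at huφ
      exact s4 huφ.symm
    · have h2 : MK.φ (u * c) = σ := by rw [MK.mul _ _ huK hcK.1, huφ, hφc, mul_one]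
      rw [h1, MK.one] at h2
      exact s3 h2.symm
    · have h2 : MK.φ (u * c) = σ := by rw [MK.mul _ _ huK hcK.1, huφ, hφc, mul_one]
      rw [h1] at h2
      exact s4 h2.symm
  · obtain ⟨σ, s1, s2, s3, -, -⟩ := exists_other 1 (mul_one 1)
    obtain ⟨x0, hx0, hx00, -, hx0φ⟩ := MK.exists_inv_lift (t := 1) (one_mem _) (n := 1) (one_pow _)
      (mem_alt_univ s1) s2 (by rw [MK.one, one_mul, mul_one])
    obtain ⟨v, hv, hvv, hvc, hcomm, -⟩ := exists_comm_swap' hKc (mem_c hac) aa haK hx0 hx00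
    have hvφ : MK.φ v = σ := (phi_eq_of_core MK hKc hx0 hv hvc).trans hx0φ
    obtain ⟨w, hw⟩ : ∃ w, w = a * v * a⁻¹ := ⟨_, rfl⟩
    rw [← hw] at hcomm
    have haw : a * w * a⁻¹ = v := by rw [hw]; exact aca aa
    have hww : w * w = 1 := by
      rw [hw]
      calc a * v * a⁻¹ * (a * v * a⁻¹) = a * (v * v) * a⁻¹ := by group
        _ = 1 := by rw [hvv]; group
    have hKc' : IsComp (centralizer ({c} : Set G)) (cj a K) := isComp_cj_of_mem hKc (mem_c hac)
    have hwK' : w ∈ cj a K := by rw [hw]; exact conj_mem_cj hv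
    have hne2 : J ≠ cj a K := by
      intro h1
      apply hne'
      rw [h1, ← cj_mul, aa, cj_one]
    have hfv : Fixes v J := h.comp.fixes_of_mem hKc (Ne.symm hne) hv
    have hfw : Fixes w J := h.comp.fixes_of_mem hKc' hne2 hwK'
    have hwK : Fixes w K := hKc.fixes_of_mem hKc' (Ne.symm haK) hwK'
    have hvK : v ∈ normalizer (K : Set G) := le_normalizer hv
    obtain ⟨u, hu⟩ : ∃ u, u = v * w := ⟨_, rfl⟩
    have huK : u ∈ normalizer (K : Set G) := by rw [hu]; exact mul_mem hvK hwK.1
    have huφ : MK.φ u = σ := by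
      rw [hu, MK.mul _ _ hvK hwK.1, hvφ, (MK.fixes_iff hwK.1).mpr hwK, mul_one]
    have huu : u * u = 1 := by
      rw [hu]
      calc v * w * (v * w) = v * (w * v) * w := by group
        _ = v * (v * w) * w := by rw [← hcomm]
        _ = (v * v) * (w * w) := by group
        _ = 1 := by rw [hvv, hww, one_mul]
    have hua : u * a = a * u := by
      have h1 : a * u * a⁻¹ = u := by
        calc a * u * a⁻¹ = (a * v * a⁻¹) * (a * w * a⁻¹) := by rw [hu]; group
          _ = w * v := by rw [haw, ← hw]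
          _ = u := by rw [hu, hcomm]
      exact (comm_of_conj h1).symm
    have huc : u * c = c * u := by
      rw [hu]; exact comm_mul (comm_c (hKc.le hv)) (comm_c (hKc'.le hwK'))
    have hfu : Fixes u J := by rw [hu]; exact fixes_mul hfv hfw
    rcases h.inv_fixes huu hua huc hfu with (h1 | h1) | (h1 | h1)
    · rw [h1, MK.one] at huφ
      exact s3 huφ.symm
    · rw [h1] at huK
      exact haK (mem_normalizer_iff_cj.mp huK)
    · have h2 : MK.φ (u * c) = σ := by rw [MK.mul _ _ huK hcK.1, huφ, hφc, mul_one]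
      rw [h1, MK.one] at h2
      exact s3 h2.symm
    · have h2 := mul_mem huK hcK.1
      rw [h1] at h2
      exact haK (mem_normalizer_iff_cj.mp h2)

end Tp

end Cfsg.Agent.UGT.A7.Dg
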