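import Cfsg.Agent.UGT.A7.FiveFacts
import Cfsg.Agent.UAlt.CoreAct
import Cfsg.Agent.UAlt.Rig

/-!
# (7.3) of #8889: pairs of 2-components of type `A₅` swapped by `a`

* `exists_label`: the labelling of the 2-component of a triple of type `A₅`, `x ↦ (0 1)`;
* `Pr x a t N`: `N`, `N^a` are 2-components of `C(t)` of type `A₅`, permuted by `C(t)`, `(x, t, N)` a triple;
* `Pr.ker_le`: comparison of the kernels of the actions of `O(C(x)) ∩ C(t)` on the pairs for `t` and `s = tx`.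
-/

set_option autoImplicit false
set_option linter.unusedSectionVars false

namespace Cfsg.Agent.UGT.A7.Dg

open Cfsg Equiv Equiv.Perm Subgroup
open Cfsg.Agent.Intrinsic.Basic Cfsg.Agent.Intrinsic Cfsg.Agent.Intrinsic.Cen Cfsg.Agent.Intrinsic.Diag
open Cfsg.Agent.SignalizersComponents Cfsg.Agent.Lib
open Cfsg.Agent.SignalizersComponents.IntrinsicBasic
open Cfsg.Agent.McLLyComp.Act
open Cfsg.Agent.UGT.Triple Cfsg.Agent.UGT.LemG Cfsg.Agent.UGT.PumpGen
open Cfsg.Agent.UAlt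
open scoped commutatorElement

abbrev U5 : Finset (Fin 5) := Finset.univ

section gen

variable {G : Type*} [Group G]

theorem conj_of_comm {g h : G} (e : g * h = h * g) : g * h * g⁻¹ = h := by
  rw [e, mul_inv_cancel_right]

theorem comm_of_conj {g h : G} (e : g * h * g⁻¹ = h) : g * h = h * g := mul_inv_eq_iff_eq_mul.mp e

theorem comm_mul {g h k : G} (h1 : g * k = k * g) (h2 : h * k = k * h) : (g * h) * k = k * (g * h) := by
  rw [mul_assoc, h2, ← mul_assoc, h1, mul_assoc]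

theorem comm_inv {g k : G} (h1 : g * k = k * g) : g⁻¹ * k = k * g⁻¹ := by
  rw [inv_mul_eq_iff_eq_mul, ← mul_assoc, h1, mul_inv_cancel_right]

theorem comm_conj {g h k : G} (h1 : g * k = k * g) (h2 : h * k = k * h) :
    (g * h * g⁻¹) * k = k * (g * h * g⁻¹) := comm_mul (comm_mul h1 h2) (comm_inv h1)

/-- `C(x) ∩ C(t) = C(x) ∩ C(tx)` -/
theorem comm_tx {x t g : G} (hx : g * x = x * g) (ht : g * t = t * g) : g * (t * x) = (t * x) * g := by
  rw [← mul_assoc, ht, mul_assoc, hx, mul_assoc]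

theorem comm_of_tx {x t g : G} (hx : g * x = x * g) (ht : g * (t * x) = (t * x) * g) : g * t = t * g := by
  rw [mul_assoc, ← hx, ← mul_assoc, ← mul_assoc] at ht
  exact mul_right_cancel ht

theorem mem_alt_univ {g : P5} (h : sign g = 1) : g ∈ alt U5 := by
  rw [show alt U5 = alternatingGroup (Fin 5) from alt_univ]
  exact mem_alternatingGroup.mpr h

theorem sign_of_mem {g : P5} (h : g ∈ alt U5) : sign g = 1 := mem_alternatingGroup.mp (alt_le _ h)

theorem odd_cases {g : P5} (h : g * e0 = e0 * g) (ho : Odd (orderOf g)) : g = 1 ∨ g = c0 ∨ g = c0⁻¹ := by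
  have hg := mem_CL g h
  refine CL_three g hg ?_
  have h6 : orderOf g ∣ 2 * 3 := orderOf_dvd_of_pow_eq_one (CL_six g hg)
  exact orderOf_dvd_iff_pow_eq_one.mp ((Nat.Coprime.dvd_mul_left ho.coprime_two_right).mp h6)

variable [Finite G]

/-- the labelling of the 2-component of a triple of type `A₅` -/
theorem exists_label {x c : G} {N : Subgroup G} (T : IsTriple x c N) (h : AltType N 5) :
    ∃ M : Mod N U5, M.φ x = e0 := by
  obtain ⟨M⟩ := nonempty_mod h
  have h3 := M.card_of_triple T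
  obtain ⟨s, hs⟩ := swap_of_fix (M.φ x) (M.sq T.x_mem (sq_of_order T.invx)) h3
  have key : ∀ S' : Finset (Fin 5), U5.map s.toEmbedding = S' → ∃ M' : Mod N S', M'.φ x = e0 := by
    rintro _ rfl
    exact ⟨M.relabel s, by rw [M.relabel_φ, hs]⟩
  exact key _ (Finset.univ_map_equiv_to_embedding s)

theorem orderOf_phi {N : Subgroup G} {α : Type*} [Fintype α] [DecidableEq α] {S : Finset α} (M : Mod N S) {d : G}
    (hd : d ∈ normalizer (N : Set G)) : orderOf (M.φ d) ∣ orderOf d := by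
  have h := orderOf_map_dvd M.hom ⟨d, hd⟩
  rwa [Subgroup.orderOf_mk] at h

theorem odd_of_core {H : Subgroup G} {d : G} (hd : d ∈ core H) : Odd (orderOf d) :=
  Odd.of_dvd_nat (odd_card_core H) (Subgroup.orderOf_dvd_natCard _ hd)

theorem core_comm {x d : G} (hd : d ∈ core (centralizer ({x} : Set G))) : d * x = x * d :=
  comm_c (core_le _ hd)

/-- labels of the members of `O(C(x))` -/
theorem core_cases {x d : G} {N : Subgroup G} (M : Mod N U5) (hx : M.φ x = e0)
    (hxN : x ∈ normalizer (N : Set G)) (hd : d ∈ core (centralizer ({x} : Set G)))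
    (hdN : d ∈ normalizer (N : Set G)) : M.φ d = 1 ∨ M.φ d = c0 ∨ M.φ d = c0⁻¹ := by
  refine odd_cases ?_ (Odd.of_dvd_nat (odd_of_core hd) (orderOf_phi M hdN))
  rw [← hx]
  exact M.comm hdN hxN (core_comm hd)

theorem coreC_conj {x d g : G} (hd : d ∈ core (centralizer ({x} : Set G))) (hg : g * x = x * g) :
    g * d * g⁻¹ ∈ core (centralizer ({x} : Set G)) := conj_core (mem_c hg) hd

end gen

section pair

variable {G : Type*} [Group G]

/-- the members of `O(C(x)) ∩ C(t)` fixing `N` and `N'` -/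
def Kr (x t : G) (N N' : Subgroup G) : Subgroup G where
  carrier := {d | d ∈ core (centralizer ({x} : Set G)) ∧ d * t = t * d ∧ Fixes d N ∧ Fixes d N'}
  mul_mem' := by
    rintro a b ⟨h1, h2, h3, h4⟩ ⟨h5, h6, h7, h8⟩
    exact ⟨mul_mem h1 h5, comm_mul h2 h6, fixes_mul h3 h7, fixes_mul h4 h8⟩
  one_mem' := ⟨one_mem _, by rw [one_mul, mul_one], fixes_one _, fixes_one _⟩
  inv_mem' := by
    rintro a ⟨h1, h2, h3, h4⟩
    exact ⟨inv_mem h1, comm_inv h2, fixes_inv h3, fixes_inv h4⟩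

theorem mem_Kr {x t d : G} {N N' : Subgroup G} : d ∈ Kr x t N N' ↔
    d ∈ core (centralizer ({x} : Set G)) ∧ d * t = t * d ∧ Fixes d N ∧ Fixes d N' := Iff.rfl

variable [Finite G]

theorem odd_Kr (x t : G) (N N' : Subgroup G) : Odd (Nat.card (Kr x t N N')) :=
  Odd.of_dvd_nat (odd_card_core (centralizer ({x} : Set G))) (card_dvd_of_le fun _ h => h.1)

/-- `N`, `N^a` are 2-components of `C(t)` of type `A₅`, permuted by `C(t)`, `(x, t, N)` is a triple -/
structure Pr (x a t : G) (N : Subgroup G) : Prop where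
  T : IsTriple x t N
  xa : x * a = a * x
  ta : t * a = a * t
  aa : a * a = 1
  ne : cj a N ≠ N
  ty : AltType N 5
  U : ∀ g, g * t = t * g → cj g N = N ∨ cj g N = cj a N

namespace Pr

variable {x a t s : G} {N J : Subgroup G} (P : Pr x a t N)

include P

theorem xx : x * x = 1 := sq_of_order P.T.invx

theorem tt : t * t = 1 := sq_of_order P.T.inva

theorem ai : a⁻¹ = a := inv_eq_of_mul_eq_one_left P.aa

theorem tx : t * x = x * t := P.T.comm

theorem cc : cj a (cj a N) = N := by rw [← cj_mul, P.aa, cj_one]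

theorem T' : IsTriple x t (cj a N) := by
  have h := P.T.cj a
  rwa [conj_of_comm P.xa.symm, conj_of_comm P.ta.symm] at h

theorem comp : IsComp (centralizer ({t} : Set G)) N := P.T.comp

theorem comp' : IsComp (centralizer ({t} : Set G)) (cj a N) := P.T'.comp

theorem symm : Pr x a t (cj a N) where
  T := P.T'
  xa := P.xa
  ta := P.ta
  aa := P.aa
  ne := by
    rw [P.cc]
    exact P.ne.symm
  ty := P.ty.cj a
  U := by
    intro g hg
    rw [P.cc, ← cj_mul]
    exact (P.U (g * a) (comm_mul hg P.ta.symm)).symm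

theorem U2 {g : G} (hg : g * t = t * g) : (cj g N = N ∧ cj g (cj a N) = cj a N) ∨
    (cj g N = cj a N ∧ cj g (cj a N) = N) := by
  have h1 := P.U g hg
  have h2 := P.symm.U g hg
  rw [P.cc] at h2
  rcases h1 with h1 | h1 <;> rcases h2 with h2 | h2
  · exact Or.inl ⟨h1, h2⟩
  · exact absurd (cj_injective g (h2.trans h1.symm)) P.ne
  · exact absurd (cj_injective g (h2.trans h1.symm)) P.ne
  · exact Or.inr ⟨h1, h2⟩

theorem fixes_conj {g d : G} (hg : g * t = t * g) (h1 : Fixes d N) (h2 : Fixes d (cj a N)) :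
    Fixes (g * d * g⁻¹) N ∧ Fixes (g * d * g⁻¹) (cj a N) := by
  have h3 := h1.cj g
  have h4 := h2.cj g
  rcases P.U2 hg with ⟨h5, h6⟩ | ⟨h5, h6⟩
  · rw [h5] at h3
    rw [h6] at h4
    exact ⟨h3, h4⟩
  · rw [h5] at h3
    rw [h6] at h4
    exact ⟨h4, h3⟩

theorem Kr_conj {g d : G} (hgx : g * x = x * g) (hgt : g * t = t * g) (hd : d ∈ Kr x t N (cj a N)) :
    g * d * g⁻¹ ∈ Kr x t N (cj a N) := by
  obtain ⟨h1, h2, h3, h4⟩ := hd
  obtain ⟨h5, h6⟩ := P.fixes_conj hgt h3 h4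
  exact ⟨coreC_conj h1 hgx, comm_conj hgt h2, h5, h6⟩

theorem core_mem {d : G} (hd : d ∈ core (centralizer ({x} : Set G))) (hdt : d * t = t * d) :
    d ∈ normalizer (N : Set G) := P.T.mem_normalizer_of_core hd (mem_c hdt)

theorem core_mem' {d : G} (hd : d ∈ core (centralizer ({x} : Set G))) (hdt : d * t = t * d) :
    d ∈ normalizer (cj a N : Set G) := P.T'.mem_normalizer_of_core hd (mem_c hdt)

/-- an element fixing `N^a` -/
theorem fixes_swap {d : G} (h : Fixes d (cj a N)) : Fixes (a * d * a⁻¹) N := by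
  have h1 := h.cj a
  rwa [P.cc] at h1

theorem comm_t_of_mem {k : G} (hk : k ∈ N) : k * t = t * k := comm_c (P.comp.le hk)

/-- **comparison of kernels** -/
theorem ker_le (Q : Pr x a s J) (hs : s = t * x)
    (hK : ∀ d ∈ core (centralizer ({x} : Set G)), d * a = a * d → d * t = t * d → Fixes d N → Fixes d J)
    {d : G} (hd : d ∈ Kr x t N (cj a N)) : Fixes d J := by
  by_contra hn
  have hst : ∀ {g : G}, g * x = x * g → g * s = s * g → g * t = t * g := fun h1 h2 =>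
    comm_of_tx h1 (hs ▸ h2)
  have hts : ∀ {g : G}, g * x = x * g → g * t = t * g → g * s = s * g := fun h1 h2 =>
    hs ▸ comm_tx h1 h2
  have hKs : ∀ {d : G}, d ∈ Kr x t N (cj a N) → d * s = s * d := fun hd => hts (core_comm hd.1) hd.2.1
  obtain ⟨MJ, hMx⟩ := exists_label Q.T Q.ty
  have hxn : x ^ 2 ^ 1 = 1 := by rw [pow_one, pow_two]; exact P.xx
  obtain ⟨ha1, ha2, ha3, ha4⟩ := a0_facts
  obtain ⟨τ, hτJ, hττ, hxτ, hτφ⟩ := MJ.exists_inv_lift Q.T.x_mem hxn (mem_alt_univ ha3) ha2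
    (by rw [hMx]; exact ha4.symm)
  have hτs := Q.comm_t_of_mem hτJ
  have hτt := hst hxτ.symm hτs
  have hdJ := Q.core_mem hd.1 (hKs hd)
  have hdJ' := Q.core_mem' hd.1 (hKs hd)
  -- the element `d1`
  obtain ⟨d1, hd1⟩ : ∃ d1, d1 = d * (τ * d⁻¹ * τ⁻¹) := ⟨_, rfl⟩
  have hd1K : d1 ∈ Kr x t N (cj a N) := by
    rw [hd1]
    exact mul_mem hd (P.Kr_conj hxτ.symm hτt (inv_mem hd))
  have hτN : τ ∈ normalizer (J : Set G) := le_normalizer hτJ
  have hφ1 : MJ.φ d1 ≠ 1 := by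
    have e1 : MJ.φ d1 = MJ.φ d * (a0 * (MJ.φ d)⁻¹ * a0⁻¹) := by
      rw [hd1, MJ.mul _ _ hdJ (mul_mem (mul_mem hτN (inv_mem hdJ)) (inv_mem hτN)), MJ.conj hτN (inv_mem hdJ),
        MJ.inv hdJ, hτφ]
    rw [e1]
    rcases core_cases MJ hMx Q.T.x_mem hd.1 hdJ with h | h | h
    · exact absurd ((MJ.fixes_iff hdJ).mp h) hn
    · rw [h]; decide
    · rw [h]; decide
  have hτF : Fixes τ (cj a J) := Q.comp'.fixes_of_mem Q.comp Q.ne hτJ
  have hd1F : Fixes d1 (cj a J) := by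
    have e1 : d1 = (d * τ * d⁻¹) * τ⁻¹ := by rw [hd1]; group
    rw [e1]
    exact fixes_mul (McLLyComp.Act.fixes_conj hτF hdJ') (fixes_inv hτF)
  have hd1J := Q.core_mem hd1K.1 (hKs hd1K)
  -- the element `u = d1^a`
  obtain ⟨u, hu⟩ : ∃ u, u = a * d1 * a⁻¹ := ⟨_, rfl⟩
  have huK : u ∈ Kr x t N (cj a N) := by
    rw [hu]
    exact P.Kr_conj P.xa.symm P.ta.symm hd1K
  have huJ : Fixes u J := by
    rw [hu]
    exact Q.fixes_swap hd1F
  have hau : a * u * a⁻¹ = d1 := by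
    rw [hu, P.ai]
    calc a * (a * d1 * a) * a = (a * a) * d1 * (a * a) := by group
      _ = d1 := by rw [P.aa]; group
  have huJ' := Q.core_mem' huK.1 (hKs huK)
  -- the group `O`
  obtain ⟨O, hO⟩ : ∃ O, O = Kr x t N (cj a N) ⊓ Kr x s J (cj a J) := ⟨_, rfl⟩
  have hOodd : Odd (Nat.card O) :=
    Odd.of_dvd_nat (odd_Kr x t N (cj a N)) (by rw [hO]; exact card_dvd_of_le inf_le_left)
  have hconjO : ∀ o ∈ O, a * o * a⁻¹ ∈ O := by
    intro o ho
    rw [hO] at ho ⊢
    exact ⟨P.Kr_conj P.xa.symm P.ta.symm ho.1, Q.Kr_conj Q.xa.symm Q.ta.symm ho.2⟩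
  have haO : a ∈ normalizer (O : Set G) := by
    rw [mem_normalizer_iff]
    intro o
    refine ⟨hconjO o, fun h => ?_⟩
    have h1 := hconjO _ h
    have h2 : a * (a * o * a⁻¹) * a⁻¹ = o := by
      rw [P.ai]
      calc a * (a * o * a) * a = (a * a) * o * (a * a) := by group
        _ = o := by rw [P.aa]; group
    rwa [h2] at h1
  have hmem : (d1 * u)⁻¹ * (a * (d1 * u) * a⁻¹) ∈ O := by
    have e1 : a * (d1 * u) * a⁻¹ = u * d1 := by
      calc a * (d1 * u) * a⁻¹ = (a * d1 * a⁻¹) * (a * u * a⁻¹) := by group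
        _ = u * d1 := by rw [hau, ← hu]
    have e2 : (d1 * u)⁻¹ * (u * d1) = u⁻¹ * (d1⁻¹ * u * d1) := by group
    have e3 : (d1 * u)⁻¹ * (u * d1) = (u⁻¹ * d1⁻¹ * u) * d1 := by group
    have m1 : (d1 * u)⁻¹ * (u * d1) ∈ Kr x t N (cj a N) :=
      mul_mem (inv_mem (mul_mem hd1K huK)) (mul_mem huK hd1K)
    rw [e1, hO]
    refine ⟨m1, m1.1, hKs m1, ?_, ?_⟩
    · rw [e2]
      have h5 := McLLyComp.Act.fixes_conj huJ (inv_mem hd1J)
      rw [inv_inv] at h5
      exact fixes_mul (fixes_inv huJ) h5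
    · rw [e3]
      have h5 := McLLyComp.Act.fixes_conj (fixes_inv hd1F) (inv_mem huJ')
      rw [inv_inv] at h5
      exact fixes_mul h5 hd1F
  obtain ⟨o, ho, hco⟩ := Lifting.exists_commute (n := 1) hOodd
    (by rw [pow_one, pow_two]; exact P.aa) haO hmem
  rw [hO] at ho
  have h3K : d1 * u * o ∈ Kr x t N (cj a N) := mul_mem (mul_mem hd1K huK) ho.1
  have h3 := hK _ h3K.1 hco.symm h3K.2.1 h3K.2.2.1
  have h4 : Fixes (d1 * u) J := (fixes_mul_iff_left ho.2.2.2.1).mp h3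
  have h5 : Fixes d1 J := (fixes_mul_iff_left huJ).mp h4
  exact hφ1 ((MJ.fixes_iff hd1J).mpr h5)

end Pr

end pair

end Cfsg.Agent.UGT.A7.Dg
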