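import Cfsg.Agent.UGT.A7.DiagPair

/-!
# (7.3) of #8889: the elements `τ`, `h`, `y'`

`P : Pr x a t N`, `M` a labelling of `N` with `x ↦ (0 1)`.

* `Pr.exists_tau`: an involution `τ ∈ N ∩ C(x)` with label `(0 1)(2 3)` commuting with `τ^a`;
* `Pr.exists_h`: an involution `h ∈ N` with `[h, τ] = 1`, `h^x = h τ`;
* `Yd`: `y' = [y, τ]` for `y ∈ O(C(x)) ∩ C(a) ∩ C(t)` not fixing `N`.
-/

set_option autoImplicit false
set_option linter.unusedSectionVars false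

namespace Cfsg.Agent.UGT.A7.Dg

open Cfsg Equiv Equiv.Perm Subgroup
open Cfsg.Agent.Intrinsic.Basic Cfsg.Agent.Intrinsic Cfsg.Agent.Intrinsic.Cen Cfsg.Agent.Intrinsic.Diag
open Cfsg.Agent.SignalizersComponents Cfsg.Agent.Lib
open Cfsg.Agent.SignalizersComponents.IntrinsicBasic
open Cfsg.Agent.McLLyComp.Act
open Cfsg.Agent.UGT.Triple Cfsg.Agent.UGT.LemG Cfsg.Agent.UGT.PumpGen
open Cfsg.Agent.UAlt
open scoped commutatorElement

variable {G : Type*} [Group G] [Finite G]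

/-- an involution of `K` can be changed modulo `O(X)` such that it commutes with its `v`-conjugate, within
`⟨v, x₀⟩` -/
theorem exists_comm_swap' {X K : Subgroup G} {v x₀ : G} (hK : IsComp X K) (hvX : v ∈ X)
    (hv : v * v = 1) (hne : cj v K ≠ K) (hx₀ : x₀ ∈ K) (hx2 : x₀ * x₀ = 1) :
    ∃ x ∈ K, x * x = 1 ∧ x₀⁻¹ * x ∈ core X ∧ x * (v * x * v⁻¹) = (v * x * v⁻¹) * x ∧
      ∀ g : G, g * v = v * g → g * x₀ = x₀ * g → g * x = x * g := by
  have hvi : v⁻¹ = v := inv_eq_of_mul_eq_one_left hv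
  have hxi : x₀⁻¹ = x₀ := inv_eq_of_mul_eq_one_left hx2
  have hK' := isComp_cj_of_mem hK hvX
  have h4 : (v * x₀) ^ 2 ^ 2 ∈ core X := by
    have h1 : ⁅v * x₀ * v⁻¹, x₀⁆ ∈ core X := by
      rw [commutator_mem_core_iff (hK'.le (conj_mem_cj hx₀)) (hK.le hx₀)]
      exact mk_comm hK' hK hne (conj_mem_cj hx₀) hx₀
    have h0 : ⁅v * x₀ * v⁻¹, x₀⁆ = (v * x₀) ^ 2 ^ 2 := by
      rw [commutatorElement_def, hvi, mul_inv_rev, mul_inv_rev, hvi, hxi,
        show (2 : ℕ) ^ 2 = 4 by norm_num]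
      simp only [pow_succ, pow_zero, one_mul, mul_assoc]
    rw [← h0]
    exact h1
  obtain ⟨k, hk1, hk2⟩ := Lifting.exists_two_part (odd_card_core X) h4
  have h6 : v * (v * x₀) ^ k * v = ((v * x₀) ^ k)⁻¹ := by
    have e1 : v * (v * x₀) * v⁻¹ = (v * x₀)⁻¹ := by
      rw [mul_inv_rev, hxi, hvi, ← mul_assoc, hv, one_mul]
    have e2 : v * (v * x₀) ^ k * v⁻¹ = ((v * x₀)⁻¹) ^ k := by rw [← e1, conj_pow]
    rw [hvi, inv_pow] at e2
    exact e2
  have hgt : ∀ g : G, g * v = v * g → g * x₀ = x₀ * g → g * (v * x₀) ^ k = (v * x₀) ^ k * g := by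
    intro g h1 h2
    exact ((show Commute g v from h1).mul_right (show Commute g x₀ from h2)).pow_right k
  set t := (v * x₀) ^ k with ht
  have hx2' : (v * t) * (v * t) = 1 := by
    calc (v * t) * (v * t) = (v * t * v) * t := by group
      _ = 1 := by rw [h6, inv_mul_cancel]
  have hcore : x₀⁻¹ * (v * t) ∈ core X := by
    have : x₀⁻¹ * (v * t) = (v * x₀)⁻¹ * t := by
      rw [mul_inv_rev, hvi, mul_assoc]
    rw [this]; exact hk2
  have hxK : v * t ∈ K := hK.mem_of_two (n := 1) hx₀ hcore (by rw [pow_one, pow_two]; exact hx2')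
  refine ⟨v * t, hxK, hx2', hcore, ?_, fun g h1 h2 => ?_⟩
  · have h7 : t * t * (t * t) = 1 := by
      have : t ^ 2 ^ 2 = t * t * (t * t) := by
        rw [show (2 : ℕ) ^ 2 = 4 by norm_num]
        simp only [pow_succ, pow_zero, one_mul, mul_assoc]
      rw [← this]; exact hk1
    have h8 : v * (v * t) * v⁻¹ = t * v := by
      rw [hvi, ← mul_assoc, hv, one_mul]
    have h9 : v * t = t⁻¹ * v := by
      calc v * t = (v * t * v) * v⁻¹ := by group
        _ = t⁻¹ * v := by rw [h6, hvi]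
    have h10 : t * v = v * t⁻¹ := by
      rw [← h6]
      calc t * v = (v * v) * t * v := by rw [hv, one_mul]
        _ = v * (v * t * v) := by group
    rw [h8]
    calc v * t * (t * v) = t⁻¹ * v * (v * t⁻¹) := by rw [← h9, ← h10]
      _ = t⁻¹ * (v * v) * t⁻¹ := by group
      _ = t⁻¹ * t⁻¹ := by rw [hv, mul_one]
      _ = t * t := by
        rw [← mul_inv_rev]
        exact inv_eq_of_mul_eq_one_left h7
      _ = t * (v * v) * t := by rw [hv, mul_one]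
      _ = t * v * (v * t) := by group
  · rw [← mul_assoc, h1, mul_assoc, hgt g h1 h2, mul_assoc]

theorem phi_eq_of_core {X K : Subgroup G} {α : Type*} [Fintype α] [DecidableEq α] {S : Finset α} (M : Mod K S)
    (hK : IsComp X K) {g h : G} (hg : g ∈ K) (hh : h ∈ K) (e : g⁻¹ * h ∈ core X) : M.φ h = M.φ g := by
  refine ((M.eq_iff hg hh).mpr ?_).symm
  rw [hK.core_eq]
  exact ⟨K.mul_mem (K.inv_mem hg) hh, e⟩

/-- `τ` -/
structure Tau (x a t : G) (N : Subgroup G) (M : Mod N U5) (τ : G) : Prop where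
  mem : τ ∈ N
  sq : τ * τ = 1
  cx : τ * x = x * τ
  lab : M.φ τ = a0
  swap : τ * (a * τ * a⁻¹) = (a * τ * a⁻¹) * τ

theorem Pr.exists_tau {x a t : G} {N : Subgroup G} (P : Pr x a t N) {M : Mod N U5} (hM : M.φ x = e0) :
    ∃ τ, Tau x a t N M τ := by
  obtain ⟨ha1, ha2, ha3, ha4⟩ := a0_facts
  obtain ⟨x0, h1, h2, h3, h4⟩ := M.exists_inv_lift P.T.x_mem (n := 1)
    (by rw [pow_one, pow_two]; exact P.xx) (mem_alt_univ ha3) ha2 (by rw [hM]; exact ha4.symm)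
  obtain ⟨τ, h5, h6, h7, h8, h9⟩ := exists_comm_swap' P.comp (mem_c P.ta.symm) P.aa P.ne h1 h2
  exact ⟨τ, h5, h6, (h9 x P.xa h3).symm, (phi_eq_of_core M P.comp h1 h5 h7).trans h4, h8⟩

/-- `h` -/
theorem Pr.exists_h {x a t : G} {N : Subgroup G} (P : Pr x a t N) {M : Mod N U5} (hM : M.φ x = e0) {τ : G}
    (hτ : Tau x a t N M τ) : ∃ h ∈ N, h * h = 1 ∧ h * τ = τ * h ∧ x * h * x = h * τ := by
  obtain ⟨hb1, hb2, hb3, hb4, hb5⟩ := b0_facts
  have hxx := P.xx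
  have hxi : x⁻¹ = x := inv_eq_of_mul_eq_one_left hxx
  have hxN := P.T.x_mem
  obtain ⟨h0, m1, m2, m3, m4⟩ := M.exists_inv_lift (le_normalizer hτ.mem) (n := 1)
    (by rw [pow_one, pow_two]; exact hτ.sq) (mem_alt_univ hb3) hb2 (by rw [hτ.lab]; exact hb4)
  have hh0i : h0⁻¹ = h0 := inv_eq_of_mul_eq_one_left m2
  -- `r0 = x h0`
  obtain ⟨r0, hr0⟩ : ∃ r0, r0 = x * h0 := ⟨_, rfl⟩
  have key : ∀ h ∈ N, M.φ h = b0 → x * h * (x * h) ∈ N ∧ M.φ (x * h * (x * h)) = a0 := by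
    intro h hh hφ
    have e1 : x * h * (x * h) = (x * h * x⁻¹) * h := by rw [hxi]; group
    have e2 : x * h * x⁻¹ ∈ N := (mem_normalizer_iff.mp hxN h).mp hh
    rw [e1]
    refine ⟨mul_mem e2 hh, ?_⟩
    rw [M.mul _ _ (le_normalizer e2) (le_normalizer hh), M.conj hxN (le_normalizer hh), hφ, hM]
    decide
  have hr04 : r0 ^ 2 ^ 2 ∈ core N := by
    obtain ⟨k1, k2⟩ := key h0 m1 m4
    have e1 : r0 ^ 2 ^ 2 = (x * h0 * (x * h0)) * (x * h0 * (x * h0)) := by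
      rw [hr0, show (2 : ℕ) ^ 2 = 4 by norm_num]
      simp only [pow_succ, pow_zero, one_mul, mul_assoc]
    rw [e1, ← M.core_iff _ (mul_mem k1 k1), M.mul _ _ (le_normalizer k1) (le_normalizer k1), k2]
    decide
  obtain ⟨k, hk1, hk2⟩ := Lifting.exists_two_part (odd_card_core N) hr04
  have hτr0 : τ * r0 = r0 * τ := by
    rw [hr0, ← mul_assoc, hτ.cx, mul_assoc, m3, mul_assoc]
  have hτr : τ * r0 ^ k = r0 ^ k * τ := (show Commute τ r0 from hτr0).pow_right k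
  have hxr0 : x * r0 * x⁻¹ = r0⁻¹ := by
    rw [hr0, mul_inv_rev, hh0i, hxi, ← mul_assoc, hxx, one_mul]
  have hxr : x * r0 ^ k * x⁻¹ = (r0 ^ k)⁻¹ := by rw [← conj_pow, hxr0, inv_pow]
  obtain ⟨r, hr⟩ : ∃ r, r = r0 ^ k := ⟨_, rfl⟩
  rw [← hr] at hk1 hk2 hτr hxr
  rw [hxi] at hxr
  have hmemN : x * r ∈ N := by
    have e1 : x * r = h0 * (r0⁻¹ * r) := by
      rw [hr0, mul_inv_rev, hh0i, hxi]
      calc x * r = (h0 * h0) * (x * r) := by rw [m2, one_mul]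
        _ = h0 * (h0 * x * r) := by group
    rw [e1]
    exact mul_mem m1 (core_le _ hk2)
  have hφ : M.φ (x * r) = b0 := by
    have e1 : h0⁻¹ * (x * r) = r0⁻¹ * r := by
      rw [hr0, mul_inv_rev, hh0i, hxi, ← mul_assoc]
    rw [← m4]
    refine ((M.eq_iff m1 hmemN).mpr ?_).symm
    rw [e1]; exact hk2
  have hsq : (x * r) * (x * r) = 1 := by
    calc (x * r) * (x * r) = (x * r * x) * r := by group
      _ = 1 := by rw [hxr, inv_mul_cancel]
  have hrr : x * (x * r) = r := by rw [← mul_assoc, hxx, one_mul]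
  obtain ⟨k1, k2⟩ := key _ hmemN hφ
  rw [hrr] at k1 k2
  have hr4 : r * r * (r * r) = 1 := by
    have : r ^ 2 ^ 2 = r * r * (r * r) := by
      rw [show (2 : ℕ) ^ 2 = 4 by norm_num]
      simp only [pow_succ, pow_zero, one_mul, mul_assoc]
    rw [← this]; exact hk1
  have hτrr : τ * (r * r) = (r * r) * τ := by
    rw [← mul_assoc, hτr, mul_assoc, hτr, mul_assoc]
  have hτi : τ⁻¹ = τ := inv_eq_of_mul_eq_one_left hτ.sq
  have hr2 : r * r = τ := by
    have h1 : τ⁻¹ * (r * r) ∈ core N := (M.eq_iff hτ.mem k1).mp (by rw [hτ.lab, k2])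
    have h2 : (τ⁻¹ * (r * r)) * (τ⁻¹ * (r * r)) = 1 := by
      rw [hτi]
      calc τ * (r * r) * (τ * (r * r)) = τ * ((r * r) * τ) * (r * r) := by group
        _ = τ * (τ * (r * r)) * (r * r) := by rw [← hτrr]
        _ = (τ * τ) * (r * r * (r * r)) := by group
        _ = 1 := by rw [hτ.sq, hr4, one_mul]
    exact (inv_mul_eq_one.mp (eq_one_of_mem_core_sq h1 h2)).symm
  refine ⟨x * r, hmemN, hsq, ?_, ?_⟩
  · rw [mul_assoc, ← hτr, ← mul_assoc, ← hτ.cx, mul_assoc]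
  · -- `r x = x r r²`
    rw [hrr, ← hr2]
    have e1 : r * (r * r) = r⁻¹ := by
      rw [eq_inv_iff_mul_eq_one]
      calc r * (r * r) * r = r * r * (r * r) := by group
        _ = 1 := hr4
    rw [mul_assoc, e1, ← hxr]
    calc r * x = (x * x) * (r * x) := by rw [hxx, one_mul]
      _ = x * (x * r * x) := by group

/-! ### the element `y'` -/

/-- `y'` -/
structure Yd (x a t : G) (N : Subgroup G) (M : Mod N U5) (τ y y' : G) : Prop where
  mem : y' ∈ N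
  core : y' ∈ core (centralizer ({x} : Set G))
  ct : y' * t = t * y'
  /-- `y' y'^a y` fixes `N`, `N^a` -/
  k1 : y' * (a * y' * a⁻¹) * y ∈ Kr x t N (cj a N)
  /-- `τ` inverts `y'` -/
  k2 : τ * y' * τ⁻¹ * y' ∈ Kr x t N (cj a N)
  /-- `τ` centralizes `y'^a` -/
  k3 : τ * (a * y' * a⁻¹) * τ⁻¹ * (a * y' * a⁻¹)⁻¹ ∈ Kr x t N (cj a N)
  /-- `τ^a` centralizes `y'` -/
  k4 : (a * τ * a⁻¹) * y' * (a * τ * a⁻¹)⁻¹ * y'⁻¹ ∈ Kr x t N (cj a N)

section yd

variable {x a t : G} {N : Subgroup G}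

omit [Finite G] in
theorem fixes_cj_iff {a d : G} {N : Subgroup G} (aa : a * a = 1) :
    Fixes d (cj a N) ↔ Fixes (a * d * a⁻¹) N := by
  have hai : a⁻¹ = a := inv_eq_of_mul_eq_one_left aa
  have hcc : cj a (cj a N) = N := by rw [← cj_mul, aa, cj_one]
  have hdd : a * (a * d * a⁻¹) * a⁻¹ = d := by
    rw [hai]
    calc a * (a * d * a) * a = (a * a) * d * (a * a) := by group
      _ = d := by rw [aa]; group
  constructor
  · intro h
    have h1 := h.cj a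
    rwa [hcc] at h1
  · intro h
    have h1 := h.cj a
    rwa [hdd] at h1

theorem aca {a d : G} (aa : a * a = 1) : a * (a * d * a⁻¹) * a⁻¹ = d := by
  have hai : a⁻¹ = a := inv_eq_of_mul_eq_one_left aa
  rw [hai]
  calc a * (a * d * a) * a = (a * a) * d * (a * a) := by group
    _ = d := by rw [aa]; group

theorem lab_sq : ∀ g : P5, g = 1 ∨ g = c0 ∨ g = c0⁻¹ → (g * (a0 * g⁻¹ * a0⁻¹)) = g * g ∧ g * g * g = 1 ∧
    a0 * (g * g) * a0⁻¹ * (g * g) = 1 := by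
  rintro g (rfl | rfl | rfl) <;> decide

/-- **`y' = [y, τ]`** -/
theorem Pr.yd (P : Pr x a t N) {M : Mod N U5} (hM : M.φ x = e0) {τ : G} (hτ : Tau x a t N M τ) {y : G}
    (hy : y ∈ core (centralizer ({x} : Set G))) (hya : y * a = a * y) (hyt : y * t = t * y) :
    Yd x a t N M τ y (y * τ * y⁻¹ * τ⁻¹) ∧ M.φ (y * τ * y⁻¹ * τ⁻¹) = M.φ y * M.φ y := by
  obtain ⟨y', hy'⟩ : ∃ y', y' = y * τ * y⁻¹ * τ⁻¹ := ⟨_, rfl⟩
  rw [← hy']
  have hyN := P.core_mem hy hyt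
  have hyN' := P.core_mem' hy hyt
  have hτn : τ ∈ normalizer (N : Set G) := le_normalizer hτ.mem
  have hmem : y' ∈ N := by
    rw [hy']
    exact mul_mem ((mem_normalizer_iff.mp hyN τ).mp hτ.mem) (inv_mem hτ.mem)
  have hτt := P.comm_t_of_mem hτ.mem
  have hct : y' * t = t * y' := P.comm_t_of_mem hmem
  have e1 : y' = y * (τ * y⁻¹ * τ⁻¹) := by rw [hy']; group
  have hcore : y' ∈ core (centralizer ({x} : Set G)) := by
    rw [e1]
    exact mul_mem hy (coreC_conj (inv_mem hy) hτ.cx)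
  have hyc := core_cases M hM P.T.x_mem hy hyN
  obtain ⟨l1, l2, l3⟩ := lab_sq _ hyc
  have hφ : M.φ y' = M.φ y * M.φ y := by
    rw [e1, M.mul _ _ hyN (mul_mem (mul_mem hτn (inv_mem hyN)) (inv_mem hτn)), M.conj hτn (inv_mem hyN),
      M.inv hyN, hτ.lab, l1]
  have hy'n : y' ∈ normalizer (N : Set G) := le_normalizer hmem
  -- `y'` and `τ` fix `N^a`
  have hy'F : Fixes y' (cj a N) := P.comp'.fixes_of_mem P.comp P.ne hmem
  have hτF : Fixes τ (cj a N) := P.comp'.fixes_of_mem P.comp P.ne hτ.mem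
  obtain ⟨w, hw⟩ : ∃ w, w = a * y' * a⁻¹ := ⟨_, rfl⟩
  have haw : a * w * a⁻¹ = y' := by rw [hw]; exact aca P.aa
  have hwcore : w ∈ core (centralizer ({x} : Set G)) := by rw [hw]; exact coreC_conj hcore P.xa.symm
  have hwt : w * t = t * w := by rw [hw]; exact comm_conj P.ta.symm hct
  have hwn' := P.core_mem' hwcore hwt
  have haya : a * y * a⁻¹ = y := conj_of_comm hya.symm
  have hwFN : Fixes w N := by rw [hw]; exact P.fixes_swap hy'F
  have hk3 : τ * w * τ⁻¹ * w⁻¹ ∈ Kr x t N (cj a N) := by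
    refine ⟨mul_mem (coreC_conj hwcore hτ.cx) (inv_mem hwcore), ?_, ?_, ?_⟩
    · exact comm_mul (comm_conj hτt hwt) (comm_inv hwt)
    · exact fixes_mul (McLLyComp.Act.fixes_conj hwFN hτn) (fixes_inv hwFN)
    · have e2 : τ * w * τ⁻¹ * w⁻¹ = τ * (w * τ⁻¹ * w⁻¹) := by group
      rw [e2]
      exact fixes_mul hτF (McLLyComp.Act.fixes_conj (fixes_inv hτF) hwn')
  refine ⟨⟨hmem, hcore, hct, ?_, ?_, by rw [← hw]; exact hk3, ?_⟩, hφ⟩
  · rw [← hw]
    refine ⟨mul_mem (mul_mem hcore hwcore) hy, comm_mul (comm_mul hct hwt) hyt, ?_, ?_⟩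
    · rw [← M.fixes_iff (mul_mem (mul_mem hy'n hwFN.1) hyN), M.mul _ _ (mul_mem hy'n hwFN.1) hyN,
        M.mul _ _ hy'n hwFN.1, (M.fixes_iff hwFN.1).mpr hwFN, hφ, mul_one]
      exact l2
    · rw [fixes_cj_iff P.aa]
      have e2 : a * (y' * w * y) * a⁻¹ = w * y' * y := by
        calc a * (y' * w * y) * a⁻¹ = (a * y' * a⁻¹) * (a * w * a⁻¹) * (a * y * a⁻¹) := by group
          _ = w * y' * y := by rw [haw, haya, ← hw]
      rw [e2, ← M.fixes_iff (mul_mem (mul_mem hwFN.1 hy'n) hyN), M.mul _ _ (mul_mem hwFN.1 hy'n) hyN,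
        M.mul _ _ hwFN.1 hy'n, (M.fixes_iff hwFN.1).mpr hwFN, hφ, one_mul]
      exact l2
  · refine ⟨mul_mem (coreC_conj hcore hτ.cx) hcore, comm_mul (comm_conj hτt hct) hct, ?_, ?_⟩
    · rw [← M.fixes_iff (mul_mem (mul_mem (mul_mem hτn hy'n) (inv_mem hτn)) hy'n),
        M.mul _ _ (mul_mem (mul_mem hτn hy'n) (inv_mem hτn)) hy'n, M.conj hτn hy'n, hτ.lab, hφ]
      exact l3
    · exact fixes_mul (McLLyComp.Act.fixes_conj hy'F hτF.1) hy'F
  · have h5 := P.Kr_conj P.xa.symm P.ta.symm hk3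
    have e2 : a * (τ * w * τ⁻¹ * w⁻¹) * a⁻¹ = (a * τ * a⁻¹) * y' * (a * τ * a⁻¹)⁻¹ * y'⁻¹ := by
      calc a * (τ * w * τ⁻¹ * w⁻¹) * a⁻¹
          = (a * τ * a⁻¹) * (a * w * a⁻¹) * (a * τ * a⁻¹)⁻¹ * (a * w * a⁻¹)⁻¹ := by group
        _ = _ := by rw [haw]
    rwa [e2] at h5

end yd

end Cfsg.Agent.UGT.A7.Dg
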