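import Cfsg.Agent.UGT.A7.DiagTwo
import Cfsg.Agent.UAlt.CaseDTwo

/-!
# (7.3) of #8889, (ii), end: the 2-component `K` of `C(ν)`
-/

set_option autoImplicit false
set_option linter.unusedSectionVars false

namespace Cfsg.Agent.UGT.A7.Dg

open Cfsg Equiv Equiv.Perm Subgroup
open Cfsg.Agent.Intrinsic.Basic Cfsg.Agent.Intrinsic Cfsg.Agent.Intrinsic.Cen Cfsg.Agent.Intrinsic.Diag
open Cfsg.Agent.SignalizersComponents Cfsg.Agent.Lib
open Cfsg.Agent.SignalizersComponents.IntrinsicBasic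
open Cfsg.Agent.McLLyComp.Act
open Cfsg.Agent.UGT.Triple Cfsg.Agent.UGT.LemG Cfsg.Agent.UGT.PumpGen
open Cfsg.Agent.UAlt
open scoped commutatorElement

/-! ### two moved points -/

section perm

variable {α : Type*} [Fintype α] [DecidableEq α]

theorem eq_one_or_sign {g : Perm α} (h : g.support.card ≤ 2) : g = 1 ∨ sign g = -1 := by
  by_cases h1 : g = 1
  · exact Or.inl h1
  · right
    have h2 : 2 ≤ g.support.card := two_le_card_support_of_ne_one h1
    exact (card_support_eq_two.mp (le_antisymm h h2)).sign_eq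

/-- permutations trivial on the fixed points of a transposition -/
theorem two_points {S : Finset α} {ρ : Perm α} (hρ : ρ ∈ sym S) (h7 : S.card = 7)
    (h5 : (fixIn S ρ).card = 5) :
    ρ * ρ = 1 ∧ sign ρ = -1 ∧ ∀ σ ∈ sym S, (∀ p ∈ fixIn S ρ, σ p = p) → σ = 1 ∨ σ = ρ := by
  have key : ∀ σ ∈ sym S, (∀ p ∈ fixIn S ρ, σ p = p) → σ = 1 ∨ sign σ = -1 := by
    intro σ hσ h
    apply eq_one_or_sign
    have h1 : σ.support ⊆ S \ fixIn S ρ := by
      intro p hp
      rw [mem_support] at hp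
      rw [Finset.mem_sdiff]
      refine ⟨by_contra fun h2 => hp (hσ p h2), fun h2 => hp (h p h2)⟩
    have h2 := Finset.card_le_card h1
    rw [Finset.card_sdiff_of_subset (fixIn_subset S ρ), h7, h5] at h2
    exact h2
  have hρf : ∀ p ∈ fixIn S ρ, ρ p = p := fun p hp => (mem_fixIn.mp hp).2
  have hρ1 : ρ ≠ 1 := by
    rintro rfl
    have : fixIn S (1 : Perm α) = S := by
      ext p
      simp [mem_fixIn]
    rw [this, h7] at h5
    exact absurd h5 (by norm_num)
  have hsg : sign ρ = -1 := (key ρ hρ hρf).resolve_left hρ1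
  have hmul : ∀ σ ∈ sym S, (∀ p ∈ fixIn S ρ, σ p = p) → sign σ = -1 → σ * ρ = 1 := by
    intro σ hσ h h1
    refine (key (σ * ρ) (mul_mem hσ hρ) fun p hp => ?_).resolve_right ?_
    · rw [Perm.mul_apply, hρf p hp, h p hp]
    · rw [Perm.sign_mul, h1, hsg]
      decide
  have hρρ := hmul ρ hρ hρf hsg
  refine ⟨hρρ, hsg, fun σ hσ h => ?_⟩
  rcases key σ hσ h with h1 | h1
  · exact Or.inl h1
  · right
    have h2 := hmul σ hσ h h1
    rw [← hρρ] at h2
    exact mul_right_cancel h2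

end perm

/-! ### the world -/

/-- hypotheses on the triples of `x` -/
structure World {G : Type*} [Group G] [Finite G] (x : G) : Prop where
  /-- the 2-components of the triples have trivial centre modulo the core -/
  center : ∀ c (Z : Subgroup G), IsTriple x c Z → center (↥Z ⧸ oddCore ↥Z) = ⊥
  /-- (7.0): an involution `b` acting with a 2-component of type `A₅` on which `O(C(x))` acts non-trivially -/
  pump : ∀ c b (Z E : Subgroup G), IsTriple x c Z → b * b = 1 → b * c = c * b → b * x = x * b →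
    b ∈ normalizer (Z : Set G) → IsComp (Z ⊓ centralizer ({b} : Set G)) E → AltType E 5 →
    (∃ y ∈ core (centralizer ({x} : Set G)), y ∈ E ∧ y ∉ core E) →
      (AltType Z 5 ∧ Fixes b Z) ∨ AltType Z 7
  /-- 2-components of type `A₇` are normal -/
  norm : ∀ c (Z : Subgroup G), IsTriple x c Z → AltType Z 7 → centralizer ({c} : Set G) ≤ normalizer (Z : Set G)
  /-- (4)(*): no `A₇`-triple with `x^h = x c`, `h` trivial on `Z` and a transposition `u` -/
  w4 : ∀ c (Z : Subgroup G) h u, IsTriple x c Z → AltType Z 7 → h * h = 1 → h * c = c * h → Fixes h Z →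
    x * h * x = h * c → u * u = 1 → u * c = c * u → u * x = x * u → u * h = h * u →
      (∃ E, IsComp (Z ⊓ centralizer ({u} : Set G)) E ∧ AltType E 5) → False

variable {G : Type*} [Group G] [Finite G]

/-- labels of an involution with a 2-component of type `A₅` on a 2-component of type `A₇` -/
theorem seven_five {Z E : Subgroup G} {b : G} {α : Type*} [Fintype α] [DecidableEq α] {S : Finset α}
    (M : Mod Z S) (hbb : b * b = 1) (hb : b ∈ normalizer (Z : Set G))
    (hE : IsComp (Z ⊓ centralizer ({b} : Set G)) E) (h5 : AltType E 5) :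
    E = M.cmp b ∧ (fixIn S (M.φ b)).card = 5 := by
  obtain ⟨h1, h2⟩ := (M.isComp_iff_cmp hb hbb).mp hE
  refine ⟨h1, ?_⟩
  rw [h1] at h5
  obtain ⟨R, -, hR⟩ := Finset.exists_subset_card_eq h2
  obtain ⟨M'⟩ := nonempty_mod_of_card hR h5
  rw [CaseD.card_fixIn M hb hbb h2 M', hR]

theorem AltType.cen {X Z : Subgroup G} {n : ℕ} {v : G} (hZ : IsComp X Z) (hv : v ∈ X) (hvv : v * v = 1)
    (hf : Fixes v Z) (h : AltType Z n) : AltType (cen Z v) n := by
  obtain ⟨e, -⟩ := exists_quotEquiv (isComp_cen hZ hv hvv hf).2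
  exact h.congr e.symm

section three

variable {x a t s : G} {N J : Subgroup G}

/-- **the end of (ii)** -/
theorem end_two (W : World x) (P : Pr x a t N) (Q : Pr x a s J) (hs : s = t * x)
    (hK : ∀ d ∈ core (centralizer ({x} : Set G)), d * a = a * d → d * t = t * d → Fixes d N → Fixes d J)
    {M : Mod N U5} (hM : M.φ x = e0) {MJ : Mod J U5} (hMx : MJ.φ x = e0) {τ y y' : G} (hτ : Tau x a t N M τ)
    (hY : Yd x a t N M τ y y') (hyφ : M.φ y' = c0 ∨ M.φ y' = c0⁻¹)
    (hτJ : τ ∈ normalizer (J : Set G)) (hτJ' : τ ∈ normalizer (cj a J : Set G)) (hyJ : ¬ Fixes y' J)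
    (hOut : ¬ Inn (τ * (a * τ * a⁻¹)) J) : False := by
  have hts : ∀ {g : G}, g * x = x * g → g * t = t * g → g * s = s * g := fun h1 h2 =>
    hs ▸ comm_tx h1 h2
  have hst : ∀ {g : G}, g * x = x * g → g * s = s * g → g * t = t * g := fun h1 h2 =>
    comm_of_tx h1 (hs ▸ h2)
  obtain ⟨ha1, ha2, ha3, ha4⟩ := a0_facts
  obtain ⟨he1, he2, he3⟩ := e0_facts
  have hyJ' := Q.core_mem hY.core (hts (core_comm hY.core) hY.ct)
  have hxJ := Q.T.x_mem
  obtain ⟨htφ, ν, hν, hνN, hνJ, hνν, hν1, hνx, hνt⟩ := exists_nu P Q hs hK hMx hτ hY hτJ' hyJ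
  have hνs := hts hνx hνt
  have hνo : orderOf ν = 2 := orderOf_eq_prime (by rw [pow_two]; exact hνν) hν1
  obtain ⟨h, hhN, hhh, hhτ, hxh⟩ := P.exists_h hM hτ
  -- `τ^a`, `h^a`
  obtain ⟨w, hw⟩ : ∃ w, w = a * τ * a⁻¹ := ⟨_, rfl⟩
  rw [← hw] at hν hOut
  have haw : a * w * a⁻¹ = τ := by rw [hw]; exact aca P.aa
  have hww : w * w = 1 := by
    rw [hw]
    calc a * τ * a⁻¹ * (a * τ * a⁻¹) = a * (τ * τ) * a⁻¹ := by group
      _ = 1 := by rw [hτ.sq]; group
  have hτt := P.comm_t_of_mem hτ.mem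
  have hwx : w * x = x * w := by rw [hw]; exact comm_conj P.xa.symm hτ.cx
  have hwt : w * t = t * w := by rw [hw]; exact comm_conj P.ta.symm hτt
  have hτw : τ * w = w * τ := by rw [hw]; exact hτ.swap
  have hwJ : w ∈ normalizer (J : Set G) := by
    have h1 := mem_normalizer_iff_cj.mp hτJ'
    rw [mem_normalizer_iff_cj, hw, cj_mul, cj_mul, P.ai, h1, Q.cc]
  have hwN : Fixes w N := by
    rw [hw, ← fixes_cj_iff P.aa]
    exact P.comp'.fixes_of_mem P.comp P.ne hτ.mem
  have htN : Fixes t N := fixes_self P.comp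
  obtain ⟨k, hk⟩ : ∃ k, k = a * h * a⁻¹ := ⟨_, rfl⟩
  have hkN' : k ∈ cj a N := by rw [hk]; exact conj_mem_cj hhN
  have hkN : Fixes k N := by
    rw [hk, ← fixes_cj_iff P.aa]
    exact P.comp'.fixes_of_mem P.comp P.ne hhN
  have hkk : k * k = 1 := by
    rw [hk]
    calc a * h * a⁻¹ * (a * h * a⁻¹) = a * (h * h) * a⁻¹ := by group
      _ = 1 := by rw [hhh]; group
  have hkw : k * w = w * k := by
    rw [hk, hw]
    calc a * h * a⁻¹ * (a * τ * a⁻¹) = a * (h * τ) * a⁻¹ := by group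
      _ = a * (τ * h) * a⁻¹ := by rw [hhτ]
      _ = _ := by group
  have hkt : k * t = t * k := by rw [hk]; exact comm_conj P.ta.symm (P.comm_t_of_mem hhN)
  have hxi : x⁻¹ = x := inv_eq_of_mul_eq_one_left P.xx
  have hxk : x * k * x = k * w := by
    have e1 : a * (x * h * x) * a⁻¹ = x * (a * h * a⁻¹) * x := by
      calc a * (x * h * x) * a⁻¹ = (a * x) * h * (x * a⁻¹) := by group
        _ = (x * a) * h * (a⁻¹ * x) := by rw [P.xa, comm_inv P.xa.symm]
        _ = _ := by group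
    rw [hxh] at e1
    rw [hk, ← e1, hw]
    group
  have hkν : k * ν = ν * k := by
    rcases hν with rfl | rfl
    · exact hkw
    · rw [← mul_assoc, hkw, mul_assoc, hkt, mul_assoc]
  have hτν : τ * ν = ν * τ := by
    rcases hν with rfl | rfl
    · exact hτw
    · rw [← mul_assoc, hτw, mul_assoc, hτt, mul_assoc]
  -- `y1`, `y*`
  obtain ⟨y1, hy1, hy1t, hy1ν, hy1N⟩ := P.T.exists_bad hνo hνt hνx hνN
  have hy1t' := comm_c hy1t
  have hy1ν' := comm_c hy1ν
  have hy1n := P.core_mem hy1 hy1t'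
  have hτn : τ ∈ normalizer (N : Set G) := le_normalizer hτ.mem
  obtain ⟨z, hz⟩ : ∃ z, z = y1 * τ * y1⁻¹ * τ⁻¹ := ⟨_, rfl⟩
  have hzN : z ∈ N := by
    rw [hz]
    exact mul_mem ((mem_normalizer_iff.mp hy1n τ).mp hτ.mem) (inv_mem hτ.mem)
  have hz' : z = y1 * (τ * y1⁻¹ * τ⁻¹) := by rw [hz]; group
  have hzc : z ∈ core (centralizer ({x} : Set G)) := by
    rw [hz']
    exact mul_mem hy1 (coreC_conj (inv_mem hy1) hτ.cx)
  have hzt := P.comm_t_of_mem hzN
  have hzν : z * ν = ν * z := by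
    rw [hz']
    exact comm_mul hy1ν' (comm_conj hτν (comm_inv hy1ν'))
  have hzφ : M.φ z = c0 ∨ M.φ z = c0⁻¹ := by
    have e1 : M.φ z = M.φ y1 * (a0 * (M.φ y1)⁻¹ * a0⁻¹) := by
      rw [hz', M.mul _ _ hy1n (mul_mem (mul_mem hτn (inv_mem hy1n)) (inv_mem hτn)), M.conj hτn (inv_mem hy1n),
        M.inv hy1n, hτ.lab]
    rcases core_cases M hM P.T.x_mem hy1 hy1n with h | h | h
    · exact absurd ((M.fixes_iff hy1n).mp h) hy1N
    · rw [e1, h]; right; decide
    · rw [e1, h]; left; decide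
  have hzNf : ¬ Fixes z N := by
    intro h
    rw [← M.fixes_iff h.1] at h
    rcases hzφ with h1 | h1 <;> rw [h1] at h <;> revert h <;> decide
  have hzs := hts (core_comm hzc) hzt
  have hzJn := Q.core_mem hzc hzs
  have hker : ∀ {d : G}, d ∈ Kr x t N (cj a N) → Fixes d J := fun hd => P.ker_le Q hs hK hd
  have hzF' : Fixes z (cj a N) := P.comp'.fixes_of_mem P.comp P.ne hzN
  have hyF' : Fixes y' (cj a N) := P.comp'.fixes_of_mem P.comp P.ne hY.mem
  have hyn : y' ∈ normalizer (N : Set G) := le_normalizer hY.mem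
  have hzn : z ∈ normalizer (N : Set G) := le_normalizer hzN
  have hzJ : ¬ Fixes z J := by
    intro hf
    apply hyJ
    rcases mul_three hzφ hyφ with h1 | h1
    · have h2 : z * y' ∈ Kr x t N (cj a N) := by
        refine ⟨mul_mem hzc hY.core, comm_mul hzt hY.ct, ?_, fixes_mul hzF' hyF'⟩
        rw [← M.fixes_iff (mul_mem hzn hyn), M.mul _ _ hzn hyn]
        exact h1
      exact (fixes_mul_iff_right hf).mp (hker h2)
    · have h2 : z⁻¹ * y' ∈ Kr x t N (cj a N) := by
        refine ⟨mul_mem (inv_mem hzc) hY.core, comm_mul (comm_inv hzt) hY.ct, ?_, fixes_mul (fixes_inv hzF') hyF'⟩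
        rw [← M.fixes_iff (mul_mem (inv_mem hzn) hyn), M.mul _ _ (inv_mem hzn) hyn, M.inv hzn]
        exact h1
      exact (fixes_mul_iff_right (fixes_inv hf)).mp (hker h2)
  -- the 2-components `Z1`, `Z2`
  have htν : t * ν = ν * t := hνt.symm
  have hsν : s * ν = ν * s := hνs.symm
  obtain ⟨hZ1, hZ1s⟩ := isComp_cen P.comp (mem_c hνt) hνν hνN
  obtain ⟨hZ2, hZ2s⟩ := isComp_cen Q.comp (mem_c hνs) hνν hνJ
  obtain ⟨Z1, hZ1d⟩ : ∃ Z, Z = cen N ν := ⟨_, rfl⟩
  obtain ⟨Z2, hZ2d⟩ : ∃ Z, Z = cen J ν := ⟨_, rfl⟩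
  have hzZ1n : z ∈ normalizer (Z1 : Set G) := by rw [hZ1d]; exact mem_normalizer_cen hzn hzν
  have hzZ2n : z ∈ normalizer (Z2 : Set G) := by rw [hZ2d]; exact mem_normalizer_cen hzJn hzν
  have hτZ1 : τ ∈ Z1 := by rw [hZ1d]; exact mem_cen_of_sq hτ.mem hτν hτ.sq
  have hzZ1 : z ∈ Z1 := by
    have h1 : y1 ∈ normalizer (Z1 : Set G) := by rw [hZ1d]; exact mem_normalizer_cen hy1n hy1ν'
    rw [hz]
    exact mul_mem ((mem_normalizer_iff.mp h1 τ).mp hτZ1) (inv_mem hτZ1)
  have hkZ1 : Fixes k Z1 := by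
    rw [hZ1d]
    exact fixes_of_le P.comp hZ1 (cen_le N ν) (mem_c hkt) (mem_c hkν) hkN
  rw [← hZ1d] at hZ1 hZ1s
  rw [← hZ2d] at hZ2 hZ2s
  have hZ1' := hZ1
  rw [inf_comm] at hZ1'
  have hZ2' := hZ2
  rw [inf_comm] at hZ2'
  have hss : s * s = 1 := Q.tt
  obtain ⟨K, TK, hzK, horK⟩ := pump P.T.invx hνo P.tt hνt hνx hZ1' hzc (mem_c hzt) (mem_c hzν)
    fun h1 => hzNf ((fixes_iff_of_sup hZ1s hzZ1n hzn).mp h1)
  obtain ⟨K2, TK2, hzK2, horK2⟩ := pump P.T.invx hνo hss hνs hνx hZ2' hzc (mem_c hzs) (mem_c hzν)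
    fun h1 => hzJ ((fixes_iff_of_sup hZ2s hzZ2n hzJn).mp h1)
  have hKx := TK.x_mem
  have hK2x := TK2.x_mem
  have hwν : w * ν = ν * w := by
    rcases hν with h1 | h1
    · rw [h1]
    · rw [h1, mul_assoc w t w, ← hwt]
  have htK2 : s ∈ normalizer (K2 : Set G) → t ∈ normalizer (K2 : Set G) := by
    intro h1
    have h2 := mul_mem h1 hK2x
    rwa [hs, mul_assoc, P.xx, mul_one] at h2
  rcases horK with ⟨htK, hZ1K⟩ | ⟨htK, hZ1K⟩
  · -- (a) `t` normalizes `K`
    have e : K2 = K := by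
      by_contra hne
      exact hzK2 (TK2.comp.fixes_of_mem TK.comp hne (hZ1K hzZ1))
    subst e
    have hsK : s ∈ normalizer (K2 : Set G) := by rw [hs]; exact mul_mem htK hKx
    have hZ2K : Z2 ≤ K2 := by
      rcases horK2 with ⟨-, h1⟩ | ⟨h1, -⟩
      · exact h1
      · exact absurd (mem_normalizer_iff_cj.mp hsK) h1
    have hE : IsComp (K2 ⊓ centralizer ({t} : Set G)) Z1 :=
      hZ1'.restrict (inf_le_inf_right _ TK.comp.le) (le_inf hZ1K (hZ1'.le.trans inf_le_right))
    have hE5 : AltType Z1 5 := by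
      rw [hZ1d]
      exact AltType.cen P.comp (mem_c hνt) hνν hνN P.ty
    have hz1 : z ∉ core Z1 := by
      intro h1
      have h2 : z ∈ core N := core_le_of_sup hZ1s h1
      exact hzNf (P.comp.fixes_of_core (P.comp.core_le_core h2))
    rcases W.pump ν t K2 Z1 TK P.tt htν P.tx htK hE hE5 ⟨z, hzc, hzZ1, hz1⟩ with ⟨-, h1⟩ | h7
    · -- type `A₅`
      have h2 : Fixes t Z2 := fixes_of_le TK.comp hZ2' hZ2K (mem_c htν) (mem_c (hts P.tx rfl)) h1
      have h3 : Fixes t J := by
        rw [hZ2d] at h2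
        exact fixes_of_cen Q.comp (mem_c hνs) hνν hνJ (mem_c (hts P.tx rfl)) h2
      have h4 := (MJ.fixes_iff h3.1).mpr h3
      rw [htφ] at h4
      exact he1 h4
    · -- type `A₇`
      obtain ⟨MK⟩ := h7.mod_of_card (S := (Finset.univ : Finset (Fin 7))) (by simp) le_rfl
      obtain ⟨hEc, hE5'⟩ := seven_five MK P.tt htK hE hE5
      obtain ⟨p1, p2, p3⟩ := two_points (MK.mem_sym t htK) (by simp) hE5'
      have hCn := W.norm ν K2 TK h7
      have hwK : w ∈ normalizer (K2 : Set G) := hCn (mem_c hwν)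
      have hkK : k ∈ normalizer (K2 : Set G) := hCn (mem_c hkν)
      have hνK := fixes_self TK.comp
      have hφν := (MK.fixes_iff hνK.1).mpr hνK
      have hsw : sign (MK.φ w) = 1 := by
        have e1 : w = k⁻¹ * (x * k * x⁻¹) := by rw [hxi, hxk, inv_mul_cancel_left]
        rw [e1, MK.mul _ _ (inv_mem hkK) (mul_mem (mul_mem hKx hkK) (inv_mem hKx)), MK.conj hKx hkK,
          MK.inv hkK]
        simp only [Perm.sign_mul, Perm.sign_inv]
        rcases Int.units_eq_one_or (sign (MK.φ k)) with h8 | h8 <;>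
          rcases Int.units_eq_one_or (sign (MK.φ x)) with h9 | h9 <;> rw [h8, h9] <;> decide
      have hνw : ν = w := by
        rcases hν with h1 | h1
        · exact h1
        · exfalso
          rw [h1, MK.mul _ _ hwK htK] at hφν
          have h2 := congrArg sign hφν
          rw [Perm.sign_mul, hsw, p2, Perm.sign_one] at h2
          exact absurd h2 (by decide)
      have hkφ : MK.φ k = 1 ∨ MK.φ k = MK.φ t := by
        refine p3 _ (MK.mem_sym k hkK) fun p hp => ?_
        exact MK.apply_of_fixes_cmp htK P.tt (by rw [hE5']) hkK (by rw [← hEc]; exact hkZ1) hp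
      rcases hkφ with h1 | h1
      · exact W.w4 ν K2 k t TK h7 hkk hkν ((MK.fixes_iff hkK).mp h1) (by rw [hxk, hνw]) P.tt htν P.tx hkt.symm
          ⟨Z1, hE, hE5⟩
      · refine W.w4 ν K2 (k * t) t TK h7 ?_ (comm_mul hkν htν) ?_ ?_ P.tt htν P.tx ?_ ⟨Z1, hE, hE5⟩
        · calc k * t * (k * t) = k * (t * k) * t := by group
            _ = k * (k * t) * t := by rw [← hkt]
            _ = (k * k) * (t * t) := by group
            _ = 1 := by rw [hkk, P.tt, one_mul]
        · rw [← MK.fixes_iff (mul_mem hkK htK), MK.mul _ _ hkK htK, h1]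
          exact p1
        · calc x * (k * t) * x = x * k * (t * x) := by group
            _ = x * k * x * t := by rw [P.tx]; group
            _ = k * (w * t) := by rw [hxk]; group
            _ = k * t * ν := by rw [hwt, hνw]; group
        · rw [← mul_assoc, ← hkt]
  · -- (b) `t` moves `K`
    have htC : t ∈ centralizer ({ν} : Set G) := mem_c htν
    have hcompK := TK.comp
    have htt := P.tt
    have hK2 : K2 = K ∨ K2 = cj t K := by
      by_contra hcon
      rw [not_or] at hcon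
      apply hzK2
      refine fixes_of_comm_core TK2.comp (mem_c hzν) fun l hl => ?_
      exact comm_diag_of_ne hcompK htC htt htK TK2.comp hcon.1 hcon.2 (hZ1K ▸ hzZ1) hl
    have htcc : cj t (cj t K) = K := by rw [← cj_mul, htt, cj_one]
    have hK2t : cj t K2 ≠ K2 := by
      rcases hK2 with h1 | h1
      · rw [h1]; exact htK
      · rw [h1, htcc]; exact htK.symm
    have hsK2 : cj s K2 ≠ K2 ∧ Z2 = diag (centralizer ({ν} : Set G)) K2 s := by
      rcases horK2 with ⟨h1, -⟩ | h1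
      · exact absurd (mem_normalizer_iff_cj.mp (htK2 h1)) hK2t
      · exact h1
    -- `k` preserves `{K, K^t}`
    have hkK : cj k K = K ∨ cj k K = cj t K := by
      by_contra hcon
      rw [not_or] at hcon
      have hck : IsComp (centralizer ({ν} : Set G)) (cj k K) := isComp_cj_of_mem hcompK (mem_c hkν)
      have h1 : cj t (cj k K) ≠ cj k K := by
        rw [← cj_mul, ← hkt, cj_mul]
        exact fun h2 => htK (cj_injective k h2)
      have h2 := diag_ne hcompK htC htt htK hck h1 hcon.1 hcon.2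
      apply h2
      have h3 := mem_normalizer_iff_cj.mp hkZ1.1
      rw [hZ1K, cj_diag, cj_eq_self_of_mem (mem_c hkν), conj_of_comm hkt] at h3
      exact h3
    have hxK : cj x K = K := mem_normalizer_iff_cj.mp hKx
    have hwK : w ∈ normalizer (K : Set G) := by
      have hki : k⁻¹ = k := inv_eq_of_mul_eq_one_left hkk
      have e1 : w = k * (x * k * x) := by
        rw [hxk, ← mul_assoc, hkk, one_mul]
      rw [mem_normalizer_iff_cj, e1, cj_mul, cj_mul, cj_mul, hxK]
      rcases hkK with h1 | h1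
      · rw [h1, hxK, h1]
      · have h2 : cj x (cj t K) = cj t K := by rw [← cj_mul, ← P.tx, cj_mul, hxK]
        have h3 : cj k (cj t K) = K := by rw [← cj_mul, hkt, cj_mul, h1, htcc]
        rw [h1, h2, h3]
    have hνK := fixes_self hcompK
    have hνw : ν = w := by
      rcases hν with h1 | h1
      · exact h1
      · exfalso
        apply htK
        rw [← mem_normalizer_iff_cj]
        have h2 := mul_mem (inv_mem hwK) hνK.1
        rwa [h1, inv_mul_cancel_left] at h2
    -- `x3 = x τ τ^a`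
    obtain ⟨g, hg⟩ : ∃ g, g = x * (τ * w) := ⟨_, rfl⟩
    have hτK : τ ∈ normalizer (K : Set G) := by
      rw [hZ1K] at hτZ1
      exact diag_mem_normalizer hcompK htC htt htK hτZ1
    have hgK : g ∈ normalizer (K : Set G) := by rw [hg]; exact mul_mem hKx (mul_mem hτK hwK)
    have hgt : g * t = t * g := by rw [hg]; exact comm_mul P.tx.symm (comm_mul hτt hwt)
    have hgν : g * ν = ν * g := by rw [hg]; exact comm_mul hνx.symm (comm_mul hτν hwν)
    have hgx : g * x = x * g := by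
      rw [hg]; exact comm_mul rfl (comm_mul hτ.cx hwx)
    have hgs := hts hgx hgt
    have hgJ : g ∈ normalizer (J : Set G) := by rw [hg]; exact mul_mem hxJ (mul_mem hτJ hwJ)
    have hgN : g ∈ normalizer (N : Set G) := by rw [hg]; exact mul_mem P.T.x_mem (mul_mem hτn hwN.1)
    have i1 : Inn g J := by
      rw [inn_iff_sign MJ hgJ, hg, MJ.mul _ _ hxJ (mul_mem hτJ hwJ), hMx, Perm.sign_mul]
      rw [inn_iff_sign MJ (mul_mem hτJ hwJ)] at hOut
      rcases Int.units_eq_one_or (sign (MJ.φ (τ * w))) with h1 | h1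
      · exact absurd h1 hOut
      · rw [h1, he3]; decide
    have i2 : Inn g Z2 := by
      refine (inn_iff_of_sup Q.comp hZ2s ?_ hgJ).mpr i1
      rw [hZ2d]
      exact mem_normalizer_cen hgJ hgν
    have hgK2 : g ∈ normalizer (K2 : Set G) := by
      rcases hK2 with h1 | h1
      · rw [h1]; exact hgK
      · rw [h1]; exact mem_normalizer_cj hgK hgt
    have i3 : Inn g K2 := by
      rw [hsK2.2] at i2
      exact inn_of_diag TK2.comp hνs hss hsK2.1 hgν hgs hgK2 i2
    have i4 : Inn g K := by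
      rcases hK2 with h1 | h1
      · rw [h1] at i3; exact i3
      · rw [h1] at i3
        have h2 := i3.conj hgt
        rwa [htcc] at h2
    have i5 : Inn g Z1 := by
      rw [hZ1K]
      exact i4.diag hcompK hνt htt htK hgν hgt
    have i6 : Inn g N := by
      refine (inn_iff_of_sup P.comp hZ1s ?_ hgN).mp i5
      rw [hZ1d]
      exact mem_normalizer_cen hgN hgν
    rw [inn_iff_sign M hgN, hg, M.mul _ _ P.T.x_mem (mul_mem hτn hwN.1), M.mul _ _ hτn hwN.1, hM, hτ.lab,
      (M.fixes_iff hwN.1).mpr hwN] at i6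
    revert i6
    decide

end three

end Cfsg.Agent.UGT.A7.Dg
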