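import Cfsg.Agent.UGT.A7.DiagSwap
import Cfsg.Agent.UGT.A7.DiagInner

/-!
# (7.3) of #8889, (ii): the pairs for `t` and `s = t x`

`P : Pr x a t N`, `Q : Pr x a s J`; `y' = [y, τ]`, `τ ∈ N`.

* `exists_J`: for `J' = J` or `J' = J^a`: `τ` normalizes `J'` and `J'^a`, `y'^a` fixes `J'`, `y'` does not;
* `exists_nu`: `ν = τ^a` or `τ^a t` fixes `N` and `J'`.
-/

set_option autoImplicit false
set_option linter.unusedSectionVars false

namespace Cfsg.Agent.UGT.A7.Dg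

open Cfsg Equiv Equiv.Perm Subgroup
open Cfsg.Agent.Intrinsic.Basic Cfsg.Agent.Intrinsic Cfsg.Agent.Intrinsic.Cen Cfsg.Agent.Intrinsic.Diag
open Cfsg.Agent.SignalizersComponents Cfsg.Agent.Lib
open Cfsg.Agent.SignalizersComponents.IntrinsicBasic
open Cfsg.Agent.McLLyComp.Act
open Cfsg.Agent.UGT.Triple Cfsg.Agent.UGT.LemG Cfsg.Agent.UGT.PumpGen
open Cfsg.Agent.UAlt
open scoped commutatorElement

/-! ### permutations -/

theorem CL_move : ∀ g ∈ CL, ∀ p ∈ [1, c0, c0⁻¹], ∀ q ∈ [1, c0, c0⁻¹], g * p * g⁻¹ * q = 1 →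
    g * q * g⁻¹ * p⁻¹ = 1 → p * q = 1 := by decide +kernel

theorem CL_stab : ∀ g ∈ CL, ∀ p ∈ [1, c0, c0⁻¹], ∀ q ∈ [1, c0, c0⁻¹], g * p * g⁻¹ * p = 1 →
    g * q * g⁻¹ * q⁻¹ = 1 → p * q ≠ 1 → (p = 1 ∧ q ≠ 1) ∨ (q = 1 ∧ p ≠ 1) := by decide +kernel

theorem mem_three_list {g : P5} (h : g = 1 ∨ g = c0 ∨ g = c0⁻¹) : g ∈ [1, c0, c0⁻¹] := by
  simpa using h

theorem mul_three {g h : P5} (hg : g = c0 ∨ g = c0⁻¹) (hh : h = c0 ∨ h = c0⁻¹) : g * h = 1 ∨ g⁻¹ * h = 1 := by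
  rcases hg with rfl | rfl <;> rcases hh with rfl | rfl <;> decide

variable {G : Type*} [Group G] [Finite G]

/-- the central involution of `C(c)` fixes the 2-components of `C(c)` -/
theorem fixes_self {c : G} {N : Subgroup G} (hN : IsComp (centralizer ({c} : Set G)) N) : Fixes c N := by
  have h1 : ∀ y ∈ N, c * y = y * c := fun y hy => (comm_c (hN.le hy)).symm
  refine ⟨?_, fun y hy => ?_⟩
  · rw [mem_normalizer_iff]
    intro y
    constructor
    · intro hy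
      rw [conj_of_comm (h1 y hy)]
      exact hy
    · intro hy
      have h2 := conj_of_comm (h1 _ hy)
      have h3 : c * y * c⁻¹ = y := by
        have h4 : c⁻¹ * (c * (c * y * c⁻¹) * c⁻¹) * c = c * y * c⁻¹ := by group
        rw [h2] at h4
        rw [← h4]
        group
      rwa [h3] at hy
  · rw [commutatorElement_def, h1 y hy]
    rw [mul_inv_cancel_right, mul_inv_cancel]
    exact one_mem _

section two

variable {x a t s : G} {N J : Subgroup G}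

theorem hK_swap
    (hK : ∀ d ∈ core (centralizer ({x} : Set G)), d * a = a * d → d * t = t * d → Fixes d N → Fixes d J) :
    ∀ d ∈ core (centralizer ({x} : Set G)), d * a = a * d → d * t = t * d → Fixes d N → Fixes d (cj a J) :=
  fun d h1 h2 h3 h4 => fixes_cj (hK d h1 h2 h3 h4) h2

/-- **labels of `y'`, `y'^a` on `J`** -/
theorem exists_J (P : Pr x a t N) (Q : Pr x a s J) (hs : s = t * x)
    (hK : ∀ d ∈ core (centralizer ({x} : Set G)), d * a = a * d → d * t = t * d → Fixes d N → Fixes d J)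
    {M : Mod N U5} {τ y y' : G} (hτ : Tau x a t N M τ) (hY : Yd x a t N M τ y y')
    (hy : y ∈ core (centralizer ({x} : Set G))) (hyt : y * t = t * y) (hyJ : ¬ Fixes y J) :
    ∃ J', (J' = J ∨ J' = cj a J) ∧ τ ∈ normalizer (J' : Set G) ∧ τ ∈ normalizer (cj a J' : Set G) ∧
      Fixes (a * y' * a⁻¹) J' ∧ ¬ Fixes y' J' := by
  have hts : ∀ {g : G}, g * x = x * g → g * t = t * g → g * s = s * g := fun h1 h2 =>
    hs ▸ comm_tx h1 h2
  obtain ⟨MJ, hMx⟩ := exists_label Q.T Q.ty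
  have hker : ∀ {d : G}, d ∈ Kr x t N (cj a N) → MJ.φ d = 1 ∧ d ∈ normalizer (J : Set G) := by
    intro d hd
    have h1 := P.ker_le Q hs hK hd
    exact ⟨(MJ.fixes_iff h1.1).mpr h1, h1.1⟩
  have hτt := P.comm_t_of_mem hτ.mem
  have hτs := hts hτ.cx hτt
  obtain ⟨w, hw⟩ : ∃ w, w = a * y' * a⁻¹ := ⟨_, rfl⟩
  have haw : a * w * a⁻¹ = y' := by rw [hw]; exact aca P.aa
  have hwc : w ∈ core (centralizer ({x} : Set G)) := by rw [hw]; exact coreC_conj hY.core P.xa.symm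
  have hwt : w * t = t * w := by rw [hw]; exact comm_conj P.ta.symm hY.ct
  have hys := hts (core_comm hY.core) hY.ct
  have hws := hts (core_comm hwc) hwt
  have hyJ' := Q.core_mem hY.core hys
  have hwJ := Q.core_mem hwc hws
  have hyyJ := Q.core_mem hy (hts (core_comm hy) hyt)
  have hp := core_cases MJ hMx Q.T.x_mem hY.core hyJ'
  have hq := core_cases MJ hMx Q.T.x_mem hwc hwJ
  obtain ⟨p, hpd⟩ : ∃ p, p = MJ.φ y' := ⟨_, rfl⟩
  obtain ⟨q, hqd⟩ : ∃ q, q = MJ.φ w := ⟨_, rfl⟩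
  rw [← hpd] at hp
  rw [← hqd] at hq
  have hpq : p * q ≠ 1 := by
    intro h
    apply hyJ
    rw [← MJ.fixes_iff hyyJ]
    have h1 := (hker hY.k1).1
    rw [← hw, MJ.mul _ _ (mul_mem hyJ' hwJ) hyyJ, MJ.mul _ _ hyJ' hwJ, ← hpd, ← hqd, h, one_mul] at h1
    exact h1
  have hk3 := hY.k3
  rw [← hw] at hk3
  have haconj : ∀ {d : G}, d ∈ Kr x t N (cj a N) → a * d * a⁻¹ ∈ Kr x t N (cj a N) := fun hd =>
    P.Kr_conj P.xa.symm P.ta.symm hd
  have hxJ := Q.T.x_mem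
  have hτJ : cj τ J = J := by
    rcases Q.U τ hτs with h | h
    · exact h
    · exfalso
      -- `g = a τ`
      obtain ⟨g, hg⟩ : ∃ g, g = a * τ := ⟨_, rfl⟩
      have hgJ : g ∈ normalizer (J : Set G) := by
        rw [mem_normalizer_iff_cj, hg, cj_mul, h, Q.cc]
      have hgx : g * x = x * g := by
        rw [hg]
        exact comm_mul P.xa.symm hτ.cx
      have hγ : MJ.φ g * e0 = e0 * MJ.φ g := by
        rw [← hMx]
        exact MJ.comm hgJ hxJ hgx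
      have e2 := (hker (haconj hY.k2)).1
      have e3 := (hker (haconj hk3)).1
      have d2 : a * (τ * y' * τ⁻¹ * y') * a⁻¹ = g * y' * g⁻¹ * w := by rw [hg, hw]; group
      have d3 : a * (τ * w * τ⁻¹ * w⁻¹) * a⁻¹ = g * w * g⁻¹ * y'⁻¹ := by
        calc a * (τ * w * τ⁻¹ * w⁻¹) * a⁻¹ = (a * τ) * w * (a * τ)⁻¹ * (a * w * a⁻¹)⁻¹ := by group
          _ = _ := by rw [haw, hg]
      rw [d2, MJ.mul _ _ (mul_mem (mul_mem hgJ hyJ') (inv_mem hgJ)) hwJ, MJ.conj hgJ hyJ', ← hpd, ← hqd] at e2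
      rw [d3, MJ.mul _ _ (mul_mem (mul_mem hgJ hwJ) (inv_mem hgJ)) (inv_mem hyJ'), MJ.conj hgJ hwJ,
        MJ.inv hyJ', ← hpd, ← hqd] at e3
      exact hpq (CL_move _ (mem_CL _ hγ) p (mem_three_list hp) q (mem_three_list hq) e2 e3)
  have hτJn : τ ∈ normalizer (J : Set G) := mem_normalizer_iff_cj.mpr hτJ
  have hτJ' : τ ∈ normalizer (cj a J : Set G) := by
    rcases Q.U2 hτs with ⟨-, h⟩ | ⟨h, -⟩
    · exact mem_normalizer_iff_cj.mpr h
    · exact absurd (h.symm.trans hτJ) Q.ne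
  have hγ : MJ.φ τ * e0 = e0 * MJ.φ τ := by
    rw [← hMx]
    exact MJ.comm hτJn hxJ hτ.cx
  have e2 := (hker hY.k2).1
  have e3 := (hker hk3).1
  rw [MJ.mul _ _ (mul_mem (mul_mem hτJn hyJ') (inv_mem hτJn)) hyJ', MJ.conj hτJn hyJ', ← hpd] at e2
  rw [MJ.mul _ _ (mul_mem (mul_mem hτJn hwJ) (inv_mem hτJn)) (inv_mem hwJ), MJ.conj hτJn hwJ,
    MJ.inv hwJ, ← hqd] at e3
  rcases CL_stab _ (mem_CL _ hγ) p (mem_three_list hp) q (mem_three_list hq) e2 e3 hpq with ⟨h1, h2⟩ | ⟨h1, h2⟩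
  · -- `J' = J^a`
    refine ⟨cj a J, Or.inr rfl, hτJ', by rw [Q.cc]; exact hτJn, ?_, ?_⟩
    · rw [← hw, fixes_cj_iff P.aa, haw, ← MJ.fixes_iff hyJ', ← hpd]
      exact h1
    · rw [fixes_cj_iff P.aa, ← hw, ← MJ.fixes_iff hwJ, ← hqd]
      exact h2
  · refine ⟨J, Or.inl rfl, hτJn, hτJ', ?_, ?_⟩
    · rw [← hw, ← MJ.fixes_iff hwJ, ← hqd]
      exact h1
    · rw [← MJ.fixes_iff hyJ', ← hpd]
      exact h2

/-- **`ν`** -/
theorem exists_nu (P : Pr x a t N) (Q : Pr x a s J) (hs : s = t * x)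
    (hK : ∀ d ∈ core (centralizer ({x} : Set G)), d * a = a * d → d * t = t * d → Fixes d N → Fixes d J)
    {M : Mod N U5} {MJ : Mod J U5} (hMx : MJ.φ x = e0) {τ y y' : G} (hτ : Tau x a t N M τ)
    (hY : Yd x a t N M τ y y') (hτJ' : τ ∈ normalizer (cj a J : Set G)) (hyJ : ¬ Fixes y' J) :
    MJ.φ t = e0 ∧ ∃ ν, (ν = a * τ * a⁻¹ ∨ ν = a * τ * a⁻¹ * t) ∧ Fixes ν N ∧ Fixes ν J ∧ ν * ν = 1 ∧ ν ≠ 1 ∧
      ν * x = x * ν ∧ ν * t = t * ν := by
  have hts : ∀ {g : G}, g * x = x * g → g * t = t * g → g * s = s * g := fun h1 h2 =>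
    hs ▸ comm_tx h1 h2
  have hyJ' := Q.core_mem hY.core (hts (core_comm hY.core) hY.ct)
  have hxJ := Q.T.x_mem
  have hker : ∀ {d : G}, d ∈ Kr x t N (cj a N) → MJ.φ d = 1 ∧ d ∈ normalizer (J : Set G) := by
    intro d hd
    have h1 := P.ker_le Q hs hK hd
    exact ⟨(MJ.fixes_iff h1.1).mpr h1, h1.1⟩
  -- `t`
  have hsJ := fixes_self Q.comp
  have hts' : t = s * x := by rw [hs, mul_assoc, P.xx, mul_one]
  have htJ : t ∈ normalizer (J : Set G) := by rw [hts']; exact mul_mem hsJ.1 hxJ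
  have htφ : MJ.φ t = e0 := by
    rw [hts', MJ.mul _ _ hsJ.1 hxJ, (MJ.fixes_iff hsJ.1).mpr hsJ, hMx, one_mul]
  refine ⟨htφ, ?_⟩
  -- `τ^a`
  obtain ⟨w, hw⟩ : ∃ w, w = a * τ * a⁻¹ := ⟨_, rfl⟩
  rw [← hw]
  have haw : a * w * a⁻¹ = τ := by rw [hw]; exact aca P.aa
  have hww : w * w = 1 := by
    rw [hw]
    calc a * τ * a⁻¹ * (a * τ * a⁻¹) = a * (τ * τ) * a⁻¹ := by group
      _ = 1 := by rw [hτ.sq]; group
  have hwx : w * x = x * w := by rw [hw]; exact comm_conj P.xa.symm hτ.cx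
  have hwt : w * t = t * w := by rw [hw]; exact comm_conj P.ta.symm (P.comm_t_of_mem hτ.mem)
  have hwJ : w ∈ normalizer (J : Set G) := by
    have h1 := mem_normalizer_iff_cj.mp hτJ'
    rw [mem_normalizer_iff_cj, hw, cj_mul, cj_mul, P.ai, h1, Q.cc]
  have hwN : Fixes w N := by
    rw [hw, ← fixes_cj_iff P.aa]
    exact P.comp'.fixes_of_mem P.comp P.ne hτ.mem
  have htN : Fixes t N := fixes_self P.comp
  obtain ⟨ha1, ha2, ha3, ha4⟩ := a0_facts
  have hwφ : MJ.φ w = 1 ∨ MJ.φ w = e0 := by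
    have h1 : MJ.φ w * e0 = e0 * MJ.φ w := by
      rw [← hMx]
      exact MJ.comm hwJ hxJ hwx
    refine CL_cent _ (mem_CL _ h1) (MJ.sq hwJ hww) ?_
    have h2 := (hker hY.k4).1
    rw [← hw, MJ.mul _ _ (mul_mem (mul_mem hwJ hyJ') (inv_mem hwJ)) (inv_mem hyJ'), MJ.conj hwJ hyJ',
      MJ.inv hyJ', mul_inv_eq_one, mul_inv_eq_iff_eq_mul] at h2
    rcases core_cases MJ hMx hxJ hY.core hyJ' with h | h | h
    · exact absurd ((MJ.fixes_iff hyJ').mp h) hyJ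
    · rw [h] at h2; exact Or.inl h2
    · rw [h] at h2; exact Or.inr h2
  rcases hwφ with h | h
  · refine ⟨w, Or.inl rfl, hwN, (MJ.fixes_iff hwJ).mp h, hww, ?_, hwx, hwt⟩
    rintro rfl
    rw [mul_one, mul_inv_cancel] at haw
    have h1 := hτ.lab
    rw [← haw, M.one] at h1
    exact ha1 h1.symm
  · refine ⟨w * t, Or.inr rfl, fixes_mul hwN htN, ?_, ?_, ?_, comm_mul hwx P.tx, comm_mul hwt rfl⟩
    · rw [← MJ.fixes_iff (mul_mem hwJ htJ), MJ.mul _ _ hwJ htJ, h, htφ]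
      decide
    · calc w * t * (w * t) = w * (t * w) * t := by group
        _ = w * (w * t) * t := by rw [← hwt]
        _ = (w * w) * (t * t) := by group
        _ = 1 := by rw [hww, P.tt, one_mul]
    · intro h1
      have h2 : w = t := by
        rw [mul_eq_one_iff_eq_inv] at h1
        rw [h1]
        exact inv_eq_of_mul_eq_one_left P.tt
      have h3 : τ = t := by
        rw [← haw, h2]
        exact conj_of_comm P.ta.symm
      have h4 := hτ.lab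
      rw [h3, (M.fixes_iff htN.1).mpr htN] at h4
      exact ha1 h4.symm

end two

end Cfsg.Agent.UGT.A7.Dg
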