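import Cfsg.Agent.GH.Rank
import Cfsg.Agent.SmallSimple.OrderEight

/-!
# Nonabelian groups of order 8 and the sectional rank of `D₈ × D₈ . 2`
-/

set_option autoImplicit false

namespace Cfsg.Agent.UGT.A7

open Subgroup Cfsg Cfsg.Agent.TwoFusion.SectionalRank

/-- Facts on a nonabelian group of order 8, `z` the central involution. -/
structure Eight (P : Type*) [Group P] (z : P) : Prop where
  ne : z ≠ 1
  sq : z * z = 1
  cen : ∀ p, z * p = p * z
  com : ∀ p q : P, p * q * p⁻¹ * q⁻¹ = 1 ∨ p * q * p⁻¹ * q⁻¹ = z
  pow : ∀ p : P, p * p = 1 ∨ p * p = z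
  cen' : ∀ p : P, (∀ q, p * q = q * p) → p = 1 ∨ p = z
  nab : ∃ p q : P, p * q ≠ q * p
  ab : ∀ v w : P, v * w ≠ w * v → ∀ p q : P, p * v = v * p → q * v = v * q → p * q = q * p

theorem Eight.of_equiv {P Q : Type*} [Group P] [Group Q] (e : P ≃* Q) {z : P} (h : Eight P z) :
    Eight Q (e z) where
  ne := fun h1 => h.ne (e.injective (by rw [h1, map_one]))
  sq := by rw [← map_mul, h.sq, map_one]
  cen := fun p => by
    obtain ⟨p, rfl⟩ := e.surjective p
    rw [← map_mul, h.cen, map_mul]
  com := fun p q => by
    obtain ⟨p, rfl⟩ := e.surjective p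
    obtain ⟨q, rfl⟩ := e.surjective q
    rw [← map_inv, ← map_inv, ← map_mul, ← map_mul, ← map_mul]
    rcases h.com p q with h1 | h1
    · left
      rw [h1, map_one]
    · right
      rw [h1]
  pow := fun p => by
    obtain ⟨p, rfl⟩ := e.surjective p
    rw [← map_mul]
    rcases h.pow p with h1 | h1
    · left
      rw [h1, map_one]
    · right
      rw [h1]
  cen' := fun p hp => by
    obtain ⟨p, rfl⟩ := e.surjective p
    rcases h.cen' p (fun q => e.injective (by rw [map_mul, map_mul]; exact hp (e q))) with h1 | h1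
    · left
      rw [h1, map_one]
    · right
      rw [h1]
  nab := by
    obtain ⟨p, q, hpq⟩ := h.nab
    exact ⟨e p, e q, fun h1 => hpq (e.injective (by rw [map_mul, map_mul]; exact h1))⟩
  ab := fun v w hvw p q hp hq => by
    obtain ⟨v, rfl⟩ := e.surjective v
    obtain ⟨w, rfl⟩ := e.surjective w
    obtain ⟨p, rfl⟩ := e.surjective p
    obtain ⟨q, rfl⟩ := e.surjective q
    rw [← map_mul, ← map_mul]
    rw [← map_mul, ← map_mul] at hp hq hvw
    rw [h.ab v w (fun h1 => hvw (by rw [h1])) p q (e.injective hp) (e.injective hq)]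

theorem eight_dihedral : Eight (DihedralGroup 4) (DihedralGroup.r 2) where
  ne := by decide
  sq := by decide
  cen := by decide
  com := by decide
  pow := by decide
  cen' := by decide
  nab := by decide
  ab := by decide

theorem eight_quaternion : Eight (QuaternionGroup 2) (QuaternionGroup.a 2) where
  ne := by decide
  sq := by decide
  cen := by decide
  com := by decide
  pow := by decide
  cen' := by decide
  nab := by decide
  ab := by decide

end Cfsg.Agent.UGT.A7
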