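import Cfsg.Agent.UGT.A7.RankEnds

/-!
# `T = P R`, `R` normal with `|C_R(a)| = 4`

* `no_E8`: `R` contains no `E₈`;
* `rank_of_PR`: `T = P R ∈ Syl₂(C(c))`, `P` nonabelian of order 8 centralizing `a`, `R` normal, `P ∩ R = 1`:
  `R ≤ C(a)` or the sectional 2-rank is at most 4.
-/

set_option autoImplicit false
set_option linter.unusedSectionVars false

namespace Cfsg.Agent.UGT.A7

open Subgroup Cfsg Cfsg.Agent.TwoFusion.SectionalRank
open Cfsg.Agent.UGT.TriBase

variable {G : Type*} [Group G] [Finite G] {T P R : Subgroup G} {z a c : G}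

/-- a 2-group with an involution whose centralizer has order 4 has no `E₈` -/
theorem no_E8 (hR : IsPGroup 2 ↥R) (ha : a ∈ R) (haa : a * a = 1) (ha1 : a ≠ 1)
    (hc : c ∈ R) (hcc : c * c = 1) (hc1 : c ≠ 1) (hca : c ≠ a) (hcac : c * a = a * c)
    (hcen : ∀ r ∈ R, r * a = a * r → r = 1 ∨ r = a ∨ r = c ∨ r = a * c)
    {E : Subgroup G} (hE : E ≤ R) (hE8 : Nat.card E = 8) (hE2 : ∀ e ∈ E, e * e = 1) : False := by
  have : Fact (Nat.Prime 2) := ⟨Nat.prime_two⟩
  have hcomm : ∀ e ∈ E, ∀ f ∈ E, e * f = f * e := by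
    intro e he f hf
    have h1 := hE2 _ (E.mul_mem he hf)
    have h4 : e⁻¹ = e := inv_eq_of_mul_eq_one_left (hE2 e he)
    have h5 : f⁻¹ = f := inv_eq_of_mul_eq_one_left (hE2 f hf)
    have h6 : (e * f)⁻¹ = e * f := inv_eq_of_mul_eq_one_left h1
    rw [mul_inv_rev, h4, h5] at h6
    exact h6.symm
  by_cases h8 : 8 < Nat.card R
  · obtain ⟨x, r, m, M⟩ := exists_maxC hR ha haa ha1 hc hcc hc1 hca hcac hcen h8
    have h1 : ElemSection 2 E (⊥ : Subgroup G) :=
      { le := bot_le
        comm := fun e he f hf => by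
          rw [mem_bot, hcomm e he f hf]
          group
        pow := fun e he => by
          rw [mem_bot, pow_two]
          exact hE2 e he }
    have h2 := card_le_of_rank M.rank h1 hE
    rw [hE8, card_bot] at h2
    omega
  · have h1 : E = R := Subgroup.eq_of_le_of_card_ge hE (by omega)
    have h2 : (R : Set G) ⊆ {1, a, c, a * c} := by
      intro r hr
      have hr' : r ∈ E := h1 ▸ hr
      have ha' : a ∈ E := h1 ▸ ha
      have := hcen r hr (hcomm r hr' a ha')
      simpa only [Set.mem_insert_iff, Set.mem_singleton_iff] using this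
    have h3 := Set.ncard_le_ncard h2 (Set.toFinite _)
    have h4 : (R : Set G).ncard = Nat.card R := rfl
    have h5 : ({1, a, c, a * c} : Set G).ncard ≤ 4 := by
      refine (Set.ncard_insert_le _ _).trans ?_
      refine Nat.succ_le_succ ((Set.ncard_insert_le _ _).trans ?_)
      refine Nat.succ_le_succ ((Set.ncard_insert_le _ _).trans ?_)
      rw [Set.ncard_singleton]
    rw [h4, ← h1, hE8] at h3
    omega

/-- `T = P R`, `R` nonabelian of order 8 -/
theorem rank_of_twist (hT : IsSyl (centralizer ({c} : Set G)) T) (hP : EightS P z) (hPT : P ≤ T) (hRT : R ≤ T)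
    (hsup : ∀ t ∈ T, ∃ p ∈ P, ∃ r ∈ R, t = p * r) (hinf : ∀ p ∈ P, p ∈ R → p = 1)
    (hn : ∀ t ∈ T, ∀ y ∈ R, t * y * t⁻¹ ∈ R) (ha : a ∈ R) (haa : a * a = 1) (ha1 : a ≠ 1)
    (hPa : ∀ p ∈ P, p * a = a * p) (hR : EightS R c) (hca : c ≠ a)
    (hcen : ∀ r ∈ R, r * a = a * r → r = 1 ∨ r = a ∨ r = c ∨ r = a * c) :
    SectionalPRankLE 2 4 G := by
  have hcT : ∀ t ∈ T, c * t = t * c := fun t ht => (mem_centralizer_singleton_iff.1 (hT.le ht)).symm
  have haC : ∀ t : G, t * a = a * t → a * t * a⁻¹ = t := fun t h => by rw [← h, mul_inv_cancel_right]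
  -- an element of `R` not commuting with `a`
  obtain ⟨r, hr, hra⟩ : ∃ r ∈ R, r * a ≠ a * r := by
    by_contra hcon
    push Not at hcon
    have h2 : (R : Set G) ⊆ {1, a, c, a * c} := by
      intro r hr
      have := hcen r hr (hcon r hr)
      simpa only [Set.mem_insert_iff, Set.mem_singleton_iff] using this
    have h3 := Set.ncard_le_ncard h2 (Set.toFinite _)
    have h4 : (R : Set G).ncard = Nat.card R := rfl
    have h5 : ({1, a, c, a * c} : Set G).ncard ≤ 4 := by
      refine (Set.ncard_insert_le _ _).trans ?_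
      refine Nat.succ_le_succ ((Set.ncard_insert_le _ _).trans ?_)
      refine Nat.succ_le_succ ((Set.ncard_insert_le _ _).trans ?_)
      rw [Set.ncard_singleton]
    rw [h4, hR.card] at h3
    omega
  have hcr : ∀ y ∈ R, c * y = y * c := fun y hy => hcT y (hRT hy)
  -- `a r a⁻¹ = r c`
  have har : a * r * a⁻¹ = r * c := by
    rcases hR.com a ha r hr with h1 | h1
    · exfalso
      apply hra
      calc r * a = (a * r * a⁻¹ * r⁻¹)⁻¹ * (a * r) := by group
        _ = a * r := by rw [h1]; group
    · calc a * r * a⁻¹ = (a * r * a⁻¹ * r⁻¹) * r := by group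
        _ = c * r := by rw [h1]
        _ = r * c := hcr r hr
  have hrr : ∀ t ∈ T, t * (r * r) * t⁻¹ = r * r := by
    intro t ht
    rcases hR.pow r hr with h1 | h1 <;> rw [h1]
    · group
    · rw [← hcT t ht, mul_inv_cancel_right]
  -- `p r p⁻¹ ∈ {r, r c}`
  have hpr : ∀ p ∈ P, p * r * p⁻¹ = r ∨ p * r * p⁻¹ = r * c := by
    intro p hp
    have hpT := hPT hp
    have huR : p * r * p⁻¹ ∈ R := hn p hpT r hr
    obtain ⟨s, hs⟩ : ∃ s, s = r⁻¹ * (p * r * p⁻¹) := ⟨_, rfl⟩
    have hsR : s ∈ R := hs ▸ R.mul_mem (R.inv_mem hr) huR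
    have hu : p * r * p⁻¹ = r * s := by rw [hs, mul_inv_cancel_left]
    have h1 : a * (p * r * p⁻¹) * a⁻¹ = (p * r * p⁻¹) * c := by
      calc a * (p * r * p⁻¹) * a⁻¹ = (a * p) * r * (a * p)⁻¹ := by group
        _ = (p * a) * r * (p * a)⁻¹ := by rw [hPa p hp]
        _ = p * (a * r * a⁻¹) * p⁻¹ := by group
        _ = p * (r * c) * p⁻¹ := by rw [har]
        _ = p * r * (c * p⁻¹) := by group
        _ = p * r * (p⁻¹ * c) := by rw [hcT _ (T.inv_mem hpT)]
        _ = _ := by group
    have h2 : a * s * a⁻¹ = s := by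
      have h3 : a * (r * s) * a⁻¹ = (r * s) * c := by rw [← hu]; exact h1
      have h4 : (a * r * a⁻¹) * (a * s * a⁻¹) = r * s * c := by
        calc (a * r * a⁻¹) * (a * s * a⁻¹) = a * (r * s) * a⁻¹ := by group
          _ = r * s * c := h3
      rw [har] at h4
      have h5 : r * (c * (a * s * a⁻¹)) = r * (c * s) := by
        calc r * (c * (a * s * a⁻¹)) = r * c * (a * s * a⁻¹) := by group
          _ = r * s * c := h4
          _ = r * (s * c) := by group
          _ = r * (c * s) := by rw [hcr s hsR]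
      exact mul_left_cancel (mul_left_cancel h5)
    have h3 : s * a = a * s := by
      calc s * a = (a * s * a⁻¹) * a := by rw [h2]
        _ = a * s := by group
    have h4 : (r * s) * (r * s) = r * r := by
      rw [← hu]
      calc p * r * p⁻¹ * (p * r * p⁻¹) = p * (r * r) * p⁻¹ := by group
        _ = r * r := hrr p hpT
    have hcc := hR.sq
    have hai : a⁻¹ = a := inv_eq_of_mul_eq_one_left haa
    have hraa : r * a * (r * a) = r * r * c := by
      calc r * a * (r * a) = r * (a * r * a) := by group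
        _ = r * (a * r * a⁻¹) := by rw [hai]
        _ = r * (r * c) := by rw [har]
        _ = _ := by group
    rcases hcen s hsR h3 with h5 | h5 | h5 | h5
    · left; rw [hu, h5, mul_one]
    · exfalso
      rw [h5, hraa] at h4
      exact hR.ne (mul_eq_left.1 h4)
    · right; rw [hu, h5]
    · exfalso
      rw [h5] at h4
      have h6 : r * (a * c) * (r * (a * c)) = r * a * (r * a) * (c * c) := by
        calc r * (a * c) * (r * (a * c)) = r * a * (c * (r * a)) * c := by group
          _ = r * a * ((r * a) * c) * c := by rw [hcr _ (R.mul_mem hr ha)]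
          _ = _ := by group
      rw [h6, hcc, mul_one, hraa] at h4
      exact hR.ne (mul_eq_left.1 h4)
  -- `R = {1, a, c, a c} ∪ r {1, a, c, a c}`
  have hRform : ∀ y ∈ R, (y * a = a * y) ∨ (r⁻¹ * y) * a = a * (r⁻¹ * y) := by
    intro y hy
    by_cases hya : y * a = a * y
    · exact Or.inl hya
    · right
      have h1 : a * y * a⁻¹ = y * c := by
        rcases hR.com a ha y hy with h2 | h2
        · exfalso
          apply hya
          calc y * a = (a * y * a⁻¹ * y⁻¹)⁻¹ * (a * y) := by group
            _ = a * y := by rw [h2]; group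
        · calc a * y * a⁻¹ = (a * y * a⁻¹ * y⁻¹) * y := by group
            _ = c * y := by rw [h2]
            _ = y * c := hcr y hy
      have h2 : a * (r⁻¹ * y) * a⁻¹ = r⁻¹ * y := by
        calc a * (r⁻¹ * y) * a⁻¹ = (a * r * a⁻¹)⁻¹ * (a * y * a⁻¹) := by group
          _ = (r * c)⁻¹ * (y * c) := by rw [har, h1]
          _ = c⁻¹ * (r⁻¹ * (y * c)) := by group
          _ = c⁻¹ * (r⁻¹ * (c * y)) := by rw [hcr y hy]
          _ = c⁻¹ * ((r⁻¹ * c) * y) := by group
          _ = c⁻¹ * ((c * r⁻¹) * y) := by rw [hcr _ (R.inv_mem hr)]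
          _ = _ := by group
      calc r⁻¹ * y * a = (a * (r⁻¹ * y) * a⁻¹) * a := by rw [h2]
        _ = _ := by group
  -- elements commuting with `a`, `c`, `r` commute with `R`
  have hcomR : ∀ u : G, u * a = a * u → u * c = c * u → u * r = r * u → ∀ y ∈ R, u * y = y * u := by
    intro u hua huc hur
    have h4 : ∀ s, s = 1 ∨ s = a ∨ s = c ∨ s = a * c → u * s = s * u := by
      rintro s (rfl | rfl | rfl | rfl)
      · rw [mul_one, one_mul]
      · exact hua
      · exact huc
      · rw [← mul_assoc, hua, mul_assoc, huc, mul_assoc]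
    intro y hy
    rcases hRform y hy with h5 | h5
    · exact h4 y (hcen y hy h5)
    · have h6 := h4 _ (hcen _ (R.mul_mem (R.inv_mem hr) hy) h5)
      calc u * y = (u * r) * (r⁻¹ * y) := by group
        _ = (r * u) * (r⁻¹ * y) := by rw [hur]
        _ = r * (u * (r⁻¹ * y)) := by group
        _ = r * ((r⁻¹ * y) * u) := by rw [h6]
        _ = _ := by group
  -- the twisted complement
  obtain ⟨P', hP'⟩ : ∃ P' : Subgroup G, ∀ u, u ∈ P' ↔ ((∃ p ∈ P, u = p ∨ u = p * a) ∧ u * r = r * u) := by
    refine ⟨{ carrier := {u | (∃ p ∈ P, u = p ∨ u = p * a) ∧ u * r = r * u}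
              mul_mem' := ?_
              one_mem' := ⟨⟨1, P.one_mem, Or.inl rfl⟩, by rw [one_mul, mul_one]⟩
              inv_mem' := ?_ }, fun u => Iff.rfl⟩
    · rintro u v ⟨⟨p, hp, hu⟩, hur⟩ ⟨⟨q, hq, hv⟩, hvr⟩
      refine ⟨⟨p * q, P.mul_mem hp hq, ?_⟩, ?_⟩
      · rcases hu with rfl | rfl <;> rcases hv with rfl | rfl
        · exact Or.inl rfl
        · exact Or.inr (by group)
        · right
          calc p * a * v = p * (a * v) := by group
            _ = p * (v * a) := by rw [hPa v hq]
            _ = _ := by group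
        · left
          calc p * a * (q * a) = p * (a * q) * a := by group
            _ = p * (q * a) * a := by rw [hPa q hq]
            _ = p * q * (a * a) := by group
            _ = _ := by rw [haa, mul_one]
      · calc u * v * r = u * (v * r) := by group
          _ = u * (r * v) := by rw [hvr]
          _ = (u * r) * v := by group
          _ = (r * u) * v := by rw [hur]
          _ = _ := by group
    · rintro u ⟨⟨p, hp, hu⟩, hur⟩
      refine ⟨⟨p⁻¹, P.inv_mem hp, ?_⟩, ?_⟩
      · rcases hu with rfl | rfl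
        · exact Or.inl rfl
        · right
          have hai : a⁻¹ = a := inv_eq_of_mul_eq_one_left haa
          rw [mul_inv_rev, hai]
          exact (hPa _ (P.inv_mem hp)).symm
      · rw [inv_mul_eq_iff_eq_mul, ← mul_assoc, hur, mul_inv_cancel_right]
  have hlift : ∀ p ∈ P, p ∈ P' ∨ p * a ∈ P' := by
    intro p hp
    rcases hpr p hp with h1 | h1
    · left
      exact (hP' p).2 ⟨⟨p, hp, Or.inl rfl⟩, by rw [← mul_inv_eq_iff_eq_mul]; exact h1⟩
    · right
      refine (hP' _).2 ⟨⟨p, hp, Or.inr rfl⟩, ?_⟩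
      have h2 : (p * a) * r * (p * a)⁻¹ = r := by
        calc (p * a) * r * (p * a)⁻¹ = p * (a * r * a⁻¹) * p⁻¹ := by group
          _ = p * (r * c) * p⁻¹ := by rw [har]
          _ = p * r * (c * p⁻¹) := by group
          _ = p * r * (p⁻¹ * c) := by rw [hcT _ (T.inv_mem (hPT hp))]
          _ = (p * r * p⁻¹) * c := by group
          _ = (r * c) * c := by rw [h1]
          _ = r * (c * c) := by group
          _ = r := by rw [hR.sq, mul_one]
      exact mul_inv_eq_iff_eq_mul.1 h2
  have hTP : TwoP T P' R :=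
    { PT := by
        intro u hu
        obtain ⟨⟨p, hp, h1 | h1⟩, -⟩ := (hP' u).1 hu
        · rw [h1]; exact hPT hp
        · rw [h1]; exact T.mul_mem (hPT hp) (hRT ha)
      RT := hRT
      sup := by
        intro t ht
        obtain ⟨p, hp, y, hy, rfl⟩ := hsup t ht
        rcases hlift p hp with h1 | h1
        · exact ⟨p, h1, y, hy, rfl⟩
        · refine ⟨p * a, h1, a * y, R.mul_mem ha hy, ?_⟩
          calc p * y = p * (a * a) * y := by rw [haa, mul_one]
            _ = _ := by group
      comm := by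
        intro u hu y hy
        obtain ⟨⟨p, hp, h1⟩, hur⟩ := (hP' u).1 hu
        have huT : u ∈ T := by
          rcases h1 with h1 | h1
          · rw [h1]; exact hPT hp
          · rw [h1]; exact T.mul_mem (hPT hp) (hRT ha)
        refine hcomR u ?_ (hcT u huT).symm hur y hy
        rcases h1 with h1 | h1
        · rw [h1]; exact hPa p hp
        · rw [h1]
          calc p * a * a = (p * a) * a := rfl
            _ = (a * p) * a := by rw [hPa p hp]
            _ = _ := by group
      inf := by
        intro u hu huR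
        obtain ⟨⟨p, hp, h1⟩, hur⟩ := (hP' u).1 hu
        rcases h1 with h1 | h1
        · rw [h1] at huR ⊢
          exact hinf p hp huR
        · exfalso
          have h2 : p ∈ R := by
            have h3 := R.mul_mem huR (R.inv_mem ha)
            rwa [h1, mul_inv_cancel_right] at h3
          have h3 := hinf p hp h2
          rw [h3, one_mul] at h1
          rw [h1] at hur
          exact hra hur.symm }
  -- `|P'| = 8`
  have hcardPR : Nat.card T = Nat.card P * Nat.card R := by
    let f : ↥P × ↥R → ↥T := fun x => ⟨x.1 * x.2, T.mul_mem (hPT x.1.2) (hRT x.2.2)⟩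
    have hf : Function.Bijective f := by
      constructor
      · rintro ⟨⟨p, hp⟩, ⟨y, hy⟩⟩ ⟨⟨q, hq⟩, ⟨w, hw⟩⟩ h
        have h1 : p * y = q * w := congrArg Subtype.val h
        have h2 : q⁻¹ * p = w * y⁻¹ := by
          calc q⁻¹ * p = q⁻¹ * (p * y) * y⁻¹ := by group
            _ = q⁻¹ * (q * w) * y⁻¹ := by rw [h1]
            _ = _ := by group
        have h3 := hinf (q⁻¹ * p) (P.mul_mem (P.inv_mem hq) hp) (h2 ▸ R.mul_mem hw (R.inv_mem hy))
        have h4 : q = p := inv_mul_eq_one.1 h3
        subst h4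
        have h5 : y = w := mul_left_cancel h1
        subst h5
        rfl
      · rintro ⟨t, ht⟩
        obtain ⟨p, hp, y, hy, rfl⟩ := hsup t ht
        exact ⟨(⟨p, hp⟩, ⟨y, hy⟩), rfl⟩
    rw [← Nat.card_prod]
    exact (Nat.card_congr (Equiv.ofBijective f hf)).symm
  have hcard : Nat.card P' = 8 := by
    have h1 := hTP.card
    rw [hcardPR, hP.card, hR.card] at h1
    omega
  have hnab : ∃ p ∈ P', ∃ q ∈ P', p * q ≠ q * p := by
    obtain ⟨p, hp, q, hq, hpq⟩ := hP.nab
    have key : ∀ u ∈ P, ∃ u' ∈ P', u' = u ∨ u' = u * a := by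
      intro u hu
      rcases hlift u hu with h1 | h1
      · exact ⟨u, h1, Or.inl rfl⟩
      · exact ⟨u * a, h1, Or.inr rfl⟩
    obtain ⟨p', hp', hpp⟩ := key p hp
    obtain ⟨q', hq', hqq⟩ := key q hq
    refine ⟨p', hp', q', hq', fun h => hpq ?_⟩
    rcases hpp with rfl | rfl <;> rcases hqq with rfl | rfl
    · exact h
    · have h1 : p' * q * a = q * p' * a := by
        calc p' * q * a = p' * (q * a) := by group
          _ = q * a * p' := h
          _ = q * (a * p') := by group
          _ = q * (p' * a) := by rw [hPa p' hp]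
          _ = _ := by group
      exact mul_right_cancel h1
    · have h1 : p * q' * a = q' * p * a := by
        calc p * q' * a = p * (q' * a) := by group
          _ = p * (a * q') := by rw [hPa q' hq]
          _ = p * a * q' := by group
          _ = q' * (p * a) := h
          _ = _ := by group
      exact mul_right_cancel h1
    · have h1 : p * q * (a * a) = q * p * (a * a) := by
        calc p * q * (a * a) = p * (q * a) * a := by group
          _ = p * (a * q) * a := by rw [hPa q hq]
          _ = (p * a) * (q * a) := by group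
          _ = (q * a) * (p * a) := h
          _ = q * (a * p) * a := by group
          _ = q * (p * a) * a := by rw [hPa p hp]
          _ = _ := by group
      rwa [haa, mul_one, mul_one] at h1
  obtain ⟨z', hz'⟩ := exists_eightS hcard hnab
  exact rank_of_eight hz' hR hTP hT

/-- **`T = P R`** -/
theorem rank_of_PR (hT : IsSyl (centralizer ({c} : Set G)) T) (hP : EightS P z) (hPT : P ≤ T) (hRT : R ≤ T)
    (hsup : ∀ t ∈ T, ∃ p ∈ P, ∃ r ∈ R, t = p * r) (hinf : ∀ p ∈ P, p ∈ R → p = 1)
    (hn : ∀ t ∈ T, ∀ y ∈ R, t * y * t⁻¹ ∈ R) (ha : a ∈ R) (haa : a * a = 1) (ha1 : a ≠ 1)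
    (hPa : ∀ p ∈ P, p * a = a * p) (hc : c ∈ R) (hcc : c * c = 1) (hc1 : c ≠ 1) (hca : c ≠ a)
    (hcen : ∀ r ∈ R, r * a = a * r → r = 1 ∨ r = a ∨ r = c ∨ r = a * c) :
    (∀ r ∈ R, r * a = a * r) ∨ SectionalPRankLE 2 4 G := by
  have : Fact (Nat.Prime 2) := ⟨Nat.prime_two⟩
  by_cases hab : ∀ r ∈ R, r * a = a * r
  · exact Or.inl hab
  right
  by_cases h8 : 8 < Nat.card R
  · refine rank_of_max hT hRT hn hPT hsup ?_ hP.rank ha haa ha1 hc hcc hc1 hca hcen h8
    intro p hp
    have h1 : p ^ 4 = (p * p) * (p * p) := by rw [pow_succ, pow_succ, pow_two]; group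
    rw [h1]
    rcases hP.pow p hp with h2 | h2
    · rw [h2, one_mul]; exact R.one_mem
    · rw [h2, hP.sq]; exact R.one_mem
  · push Not at hab
    obtain ⟨r, hr, hra⟩ := hab
    have hcT : ∀ t ∈ T, c * t = t * c := fun t ht => (mem_centralizer_singleton_iff.1 (hT.le ht)).symm
    have hcard : Nat.card R = 8 := by
      obtain ⟨n, hn⟩ := IsPGroup.iff_card.mp (hT.two.to_le hRT)
      have h1 : n ≤ 3 := by
        by_contra hlt
        apply h8
        rw [hn]
        calc 8 < 2 ^ 4 := by norm_num
          _ ≤ 2 ^ n := Nat.pow_le_pow_right (by norm_num) (by omega)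
      have h2 : n ≠ 0 ∧ n ≠ 1 ∧ n ≠ 2 := by
        have key : ∀ k, k ≤ 2 → n ≠ k := by
          intro k hk hnk
          apply hra
          have h3 : IsMulCommutative ↥R := by
            rw [hnk] at hn
            interval_cases k
            · have : Subsingleton ↥R := (Nat.card_eq_one_iff_unique.1 (by simpa using hn)).1
              exact ⟨⟨fun u v => Subsingleton.elim _ _⟩⟩
            · have hcy : IsCyclic ↥R := isCyclic_of_prime_card (p := 2) (by simpa using hn)
              exact hcy.isMulCommutative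
            · exact IsPGroup.isMulCommutative_of_card_eq_prime_sq hn
          exact congrArg Subtype.val (h3.is_comm.comm (⟨r, hr⟩ : ↥R) ⟨a, ha⟩)
        exact ⟨key 0 (by norm_num), key 1 (by norm_num), key 2 (by norm_num)⟩
      have h3 : n = 3 := by omega
      rw [hn, h3]; norm_num
    obtain ⟨c', hR⟩ := exists_eightS hcard ⟨r, hr, a, ha, hra⟩
    have h1 : c = c' := by
      rcases hR.cen' c hc (fun q hq => hcT q (hRT hq)) with h2 | h2
      · exact absurd h2 hc1
      · exact h2
    rw [← h1] at hR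
    exact rank_of_twist hT hP hPT hRT hsup hinf hn ha haa ha1 hPa hR hca hcen

end Cfsg.Agent.UGT.A7
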