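import Cfsg.Agent.UGT.A7.Star7
import Cfsg.Agent.UGT.A7.Twist
import Cfsg.Agent.UGT.FrameRank
import Cfsg.Agent.UAlt.CaseDA

/-!
# Sections (7.1), (7.2): `T ∈ Syl₂(C(w))` or the sectional 2-rank is at most 4
-/

set_option autoImplicit false
set_option linter.unusedSectionVars false

open Cfsg Subgroup Equiv Equiv.Perm
open Cfsg.Agent.UAlt
open Cfsg.Agent.SignalizersComponents Cfsg.Agent.Lib
open Cfsg.Agent.SignalizersComponents.IntrinsicBasic
open Cfsg.Agent.Intrinsic.Basic Cfsg.Agent.Intrinsic.Cen Cfsg.Agent.Intrinsic.Diag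
open Cfsg.Agent.UGT.Triple Cfsg.Agent.UGT.TriBase

namespace Cfsg.Agent.UGT.A7

universe u

variable {G : Type u} [Group G] [Finite G]

/-- two labellings which agree on `cmp t` agree on the normalizer, on the points fixed by `t` -/
theorem agree {α : Type*} [Fintype α] [DecidableEq α] {S S' : Finset α} {K N : Subgroup G} (M : Mod K S)
    (M' : Mod N S') {t g : G} (ht : t ∈ normalizer (K : Set G)) (htt : t * t = 1)
    (h5 : 5 ≤ (fixIn S (M.φ t)).card) (hle : M.cmp t ≤ N) (hφ : ∀ y ∈ M.cmp t, M'.φ y = M.φ y)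
    (hg : g ∈ normalizer (K : Set G)) (hgN : g ∈ normalizer (N : Set G)) (hgt : g * t = t * g) :
    ∀ i ∈ fixIn S (M.φ t), M'.φ g i = M.φ g i := by
  intro i hi
  have h1 : ((M.φ g)⁻¹ * M'.φ g) i = i := by
    refine apply_of_comm_alt (S := fixIn S (M.φ t)) (by omega) (fun σ hσ => ?_) hi
    obtain ⟨y, hy, rfl⟩ := M.cmp_lift ht htt h5 hσ
    have hyK := le_normalizer (M.cmp_le t hy)
    have hyN := le_normalizer (hle hy)
    have h2 := M'.conj hgN hyN
    have h3 := M.conj hg hyK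
    have h4 : g * y * g⁻¹ ∈ M.cmp t :=
      (mem_normalizer_iff.mp (M.mem_normalizer_cmp ht hg hgt) y).mp hy
    rw [hφ _ h4, h3, hφ y hy] at h2
    calc (M.φ g)⁻¹ * M'.φ g * M.φ y = (M.φ g)⁻¹ * (M'.φ g * M.φ y * (M'.φ g)⁻¹) * M'.φ g := by group
      _ = (M.φ g)⁻¹ * (M.φ g * M.φ y * (M.φ g)⁻¹) * M'.φ g := by rw [h2]
      _ = M.φ y * ((M.φ g)⁻¹ * M'.φ g) := by group
  rw [Perm.mul_apply] at h1
  have h2 := congrArg (M.φ g) h1
  exact (Equiv.apply_symm_apply _ _).symm.trans h2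

theorem mem_fixIn_w0 {i : Fin 7} : i ∈ fixIn (Finset.univ : Finset (Fin 7)) w0 ↔ i ≠ 4 ∧ i ≠ 5 := by
  revert i
  decide

theorem card_fixIn_w0 : (fixIn (Finset.univ : Finset (Fin 7)) w0).card = 5 := by decide

variable {x a w : G} {L T : Subgroup G} {M : Lab L}

namespace Sm

variable (S : Sm a w L T M)

include S

theorem w1 : w ≠ 1 := by
  intro h
  have h1 := S.φw
  rw [h, M.one] at h1
  exact absurd h1 (by decide)

theorem wo : orderOf w = 2 := orderOf_eq_prime (by rw [pow_two, S.ww]) S.w1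

theorem w_ne_a : w ≠ a := by
  intro h
  have h1 := S.φw
  rw [h, S.toFr7.φa] at h1
  exact absurd h1 (by decide)

theorem T_le : T ≤ centralizer ({w} : Set G) := fun t ht =>
  mem_centralizer_singleton_iff.2 (S.Qs_central w S.w_mem t ht)

theorem wN : w ∈ normalizer (L : Set G) := S.toFr7.TN S.wT

theorem h5 : 5 ≤ (fixIn (Finset.univ : Finset (Fin 7)) (M.φ w)).card := by rw [S.φw, card_fixIn_w0]

/-- an element of `T` acting trivially on the five points lies in `Q*` -/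
theorem mem_Qs_of {t : G} (ht : t ∈ T) (h : ∀ i, i ≠ 4 → i ≠ 5 → M.φ t i = i) :
    t ∈ Qs T L M S.toFr7.TN := mem_Qs.2 ⟨ht, eq_of_fix h⟩

theorem eq_one_of {p : G} (hp : p ∈ T ⊓ L) (h : ∀ i, i ≠ 4 → i ≠ 5 → M.φ p i = i) : p = 1 :=
  S.toFr7.twoP.inf p hp (S.mem_Qs_of hp.1 h)

variable {N : Subgroup G}

theorem agree' {S' : Finset (Fin 7)} (M' : Mod N S') (hle : M.cmp w ≤ N)
    (hφ : ∀ y ∈ M.cmp w, M'.φ y = M.φ y) {g : G} (hg : g ∈ T) (hgN : g ∈ normalizer (N : Set G)) {i : Fin 7}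
    (h4 : i ≠ 4) (h5 : i ≠ 5) : M'.φ g i = M.φ g i := by
  refine agree M M' S.wN S.ww S.h5 hle hφ (S.toFr7.TN hg) hgN
    (mem_centralizer_singleton_iff.1 (S.T_le hg)) i ?_
  rw [S.φw, mem_fixIn_w0]
  exact ⟨h4, h5⟩

/-- **(7.2)** -/
theorem two_case (hNor : Normal7 G) (hN : IsTriple x w N)
    (hle : M.cmp w ≤ N) (M₁ : Lab N) (ha : M₁.φ a = swap 4 5)
    (hφ : ∀ y ∈ M.cmp w, M₁.φ y = M.φ y) :
    IsSyl (centralizer ({w} : Set G)) T ∨ SectionalPRankLE 2 4 G := by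
  obtain ⟨T', hT', hTT'⟩ := exists_isSyl S.two S.T_le
  have hnN : centralizer ({w} : Set G) ≤ normalizer (N : Set G) := hNor x w N M₁ hN
  obtain ⟨M', g, hM', F'⟩ := exists_fr7 M₁ hN.comp hnN hT' S.ww S.w1
  have hTN : T ≤ normalizer (N : Set G) := S.T_le.trans hnN
  have hφw : M₁.φ w = 1 := (M₁.fixes_iff (hTN S.wT)).2 (fixes_self' hN.comp.le)
  have hsw : (swap 4 5 : Perm (Fin 7)) ≠ 1 := by decide
  -- the kernel of `T` on `N`
  have hker : ∀ s ∈ T, M₁.φ s = 1 → s = 1 ∨ s = w := by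
    intro s hs h1
    obtain ⟨p, hp, q, hq, rfl⟩ := S.toFr7.twoP.sup s hs
    have hqT := (mem_Qs.1 hq).1
    have h2 : M₁.φ q = 1 ∨ M₁.φ q = swap 4 5 := by
      rcases S.Qs_form q hq with rfl | rfl | rfl | rfl
      · exact Or.inl M₁.one
      · exact Or.inr ha
      · exact Or.inl hφw
      · right
        rw [M₁.mul _ _ (hTN S.toFr7.aT) (hTN S.wT), ha, hφw, mul_one]
    rw [M₁.mul _ _ (hTN hp.1) (hTN hqT)] at h1
    have h3 : p = 1 := by
      refine S.eq_one_of hp fun i h4 h5 => ?_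
      rw [← S.agree' M₁ hle hφ hp.1 (hTN hp.1) h4 h5]
      rcases h2 with h2 | h2
      · rw [h2, mul_one] at h1
        rw [h1]; rfl
      · rw [h2] at h1
        have h6 : M₁.φ p = swap 4 5 := by
          rw [eq_inv_of_mul_eq_one_left h1, swap_inv]
        rw [h6, swap_apply_of_ne_of_ne h4 h5]
    rw [h3, M₁.one, one_mul] at h1
    rw [h3, one_mul]
    rcases S.Qs_form q hq with rfl | rfl | rfl | rfl
    · exact Or.inl rfl
    · exact absurd (ha.symm.trans h1) hsw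
    · exact Or.inr rfl
    · exfalso
      rw [M₁.mul _ _ (hTN S.toFr7.aT) (hTN S.wT), ha, hφw, mul_one] at h1
      exact hsw h1
  have hker' : ∀ s ∈ T, M'.φ s = 1 → s = 1 ∨ s = w := by
    intro s hs h1
    apply hker s hs
    rw [hM'] at h1
    calc M₁.φ s = g⁻¹ * (g * M₁.φ s * g⁻¹) * g := by group
      _ = 1 := by rw [h1]; group
  -- the image of `T` is `W0`
  let f : ↥T →* ↥W0 :=
    { toFun := fun s => ⟨M'.φ s, F'.inW s (hTT' s.2)⟩
      map_one' := Subtype.ext M'.one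
      map_mul' := fun s t => Subtype.ext (M'.mul _ _ (hTN s.2) (hTN t.2)) }
  have hkerf : Nat.card f.ker ≤ 2 := by
    have h1 : (f.ker : Set ↥T) ⊆ {1, ⟨w, S.wT⟩} := by
      intro s hs
      have h2 : M'.φ s = 1 := congrArg Subtype.val (MonoidHom.mem_ker.1 hs)
      rcases hker' s s.2 h2 with h3 | h3
      · left; exact Subtype.ext h3
      · right; exact Subtype.ext h3
    have h2 := Set.ncard_le_ncard h1 (Set.toFinite _)
    have h3 : (f.ker : Set ↥T).ncard = Nat.card f.ker := rfl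
    have h4 : ({1, ⟨w, S.wT⟩} : Set ↥T).ncard ≤ 2 := by
      refine (Set.ncard_insert_le _ _).trans ?_
      rw [Set.ncard_singleton]
    omega
  have hsurj : Function.Surjective f := by
    rw [← MonoidHom.range_eq_top]
    apply Subgroup.eq_top_of_le_card
    have h1 : Nat.card f.ker * Nat.card f.range = Nat.card ↥T := by
      rw [← f.ker.card_mul_index, Subgroup.index_ker]
    rw [S.card_T] at h1
    rw [card_W0]
    by_contra hcon
    push Not at hcon
    have h2 : Nat.card f.ker * Nat.card f.range < 2 * 16 :=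
      lt_of_le_of_lt (Nat.mul_le_mul_right _ hkerf) (by omega)
    omega
  have hφa : M'.φ a = w0 := by
    have h1 : M'.φ a = swap (g 4) (g 5) := by rw [hM', ha, Equiv.swap_apply_apply]
    rw [h1]
    apply swap_central
    · intro h
      exact absurd (g.injective h) (by decide)
    · intro σ hσ
      obtain ⟨s, hs⟩ := hsurj ⟨σ, hσ⟩
      have h2 : M'.φ s = σ := congrArg Subtype.val hs
      rw [← h1, ← h2]
      exact M'.comm (hTN S.toFr7.aT) (hTN s.2) (S.toFr7.a_comm s.2).symm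
  have hTa : ∀ t ∈ T', t * a = a * t → t ∈ T := fun t ht hta =>
    mem_of_fix S.syl hT'.two hTT' ht (mem_centralizer_singleton_iff.2 hta)
  have hTP' := F'.twoP
  have haQ : a ∈ Qs T' N M' F'.TN := mem_Qs.2 ⟨hTT' S.toFr7.aT, Or.inr hφa⟩
  have hw0 : w0 * w0 = 1 := by decide
  have hcen : ∀ r ∈ Qs T' N M' F'.TN, r * a = a * r → r = 1 ∨ r = a ∨ r = w ∨ r = a * w := by
    intro r hr hra
    obtain ⟨h1, h2⟩ := mem_Qs.1 hr
    have hrT := hTa r h1 hra
    rcases h2 with h2 | h2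
    · rcases hker' r hrT h2 with h3 | h3
      · exact Or.inl h3
      · exact Or.inr (Or.inr (Or.inl h3))
    · have h3 : M'.φ (a * r) = 1 := by
        rw [M'.mul _ _ (hTN S.toFr7.aT) (hTN hrT), hφa, h2, hw0]
      have h4 : r = a * (a * r) := by rw [← mul_assoc, S.aa, one_mul]
      rcases hker' _ (T.mul_mem S.toFr7.aT hrT) h3 with h5 | h5
      · rw [h5, mul_one] at h4
        exact Or.inr (Or.inl h4)
      · rw [h5] at h4
        exact Or.inr (Or.inr (Or.inr h4))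
  obtain ⟨z', hz'⟩ := F'.exists_z
  by_cases hab : ∀ r ∈ Qs T' N M' F'.TN, r * a = a * r
  · left
    have h1 : Nat.card ↥(Qs T' N M' F'.TN) ≤ 4 := by
      have h2 : (Qs T' N M' F'.TN : Set G) ⊆ {1, a, w, a * w} := by
        intro r hr
        have := hcen r hr (hab r hr)
        simpa only [Set.mem_insert_iff, Set.mem_singleton_iff] using this
      have h3 := Set.ncard_le_ncard h2 (Set.toFinite _)
      have h4 : (Qs T' N M' F'.TN : Set G).ncard = Nat.card ↥(Qs T' N M' F'.TN) := rfl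
      have h5 : ({1, a, w, a * w} : Set G).ncard ≤ 4 := by
        refine (Set.ncard_insert_le _ _).trans ?_
        refine Nat.succ_le_succ ((Set.ncard_insert_le _ _).trans ?_)
        refine Nat.succ_le_succ ((Set.ncard_insert_le _ _).trans ?_)
        rw [Set.ncard_singleton]
      omega
    have h2 : T = T' := by
      apply Subgroup.eq_of_le_of_card_ge hTT'
      rw [hTP'.card, S.card_T, F'.P8]
      omega
    rw [h2]
    exact hT'
  · right
    push Not at hab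
    exact rank_of_D3 hT' hz' hTP' haQ S.aa S.a1 (F'.a_mem_Qs) S.ww S.w1 S.w_ne_a hcen hab

/-- `T` normalizes the pump-up of `cmp w` -/
theorem T_le_N (hN : IsComp (centralizer ({w} : Set G)) N) (hle : M.cmp w ≤ N) :
    T ≤ normalizer (N : Set G) := by
  intro t ht
  rw [mem_normalizer_iff_cj]
  have htC := S.T_le ht
  have h1 : IsComp (centralizer ({w} : Set G)) (cj t N) := by
    have := hN.cj t
    rwa [cj_eq_self_of_mem htC] at this
  have h2 : M.cmp w ≤ cj t N := by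
    have h3 : cj t (M.cmp w) = M.cmp w := mem_normalizer_iff_cj.mp
      (M.mem_normalizer_cmp S.wN (S.toFr7.TN ht) (mem_centralizer_singleton_iff.1 htC))
    rw [← h3]
    exact cj_mono hle
  exact (M.isComp_cmp S.wN S.ww S.h5).unique h1 hN h2 hle

/-- **(7.1)** -/
theorem one_case (hN : IsTriple x w N) (hle : M.cmp w ≤ N) (M₁ : Lab5 N (M.φ w))
    (hφ : ∀ y ∈ M.cmp w, M₁.φ y = M.φ y) (hfa : Fixes a N) :
    IsSyl (centralizer ({w} : Set G)) T ∨ SectionalPRankLE 2 4 G := by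
  have hp : Fact (Nat.Prime 2) := ⟨Nat.prime_two⟩
  have hTN := S.T_le_N hN.comp hle
  obtain ⟨E, hE⟩ : ∃ E, E = centralizer ({w} : Set G) ⊓ normalizer (N : Set G) := ⟨_, rfl⟩
  have hTE : T ≤ E := hE ▸ le_inf S.T_le hTN
  have hEC : E ≤ centralizer ({w} : Set G) := hE ▸ inf_le_left
  have hEN : E ≤ normalizer (N : Set G) := hE ▸ inf_le_right
  obtain ⟨T', hT', hTT'⟩ := exists_isSyl S.two hTE
  have hTN' : T' ≤ normalizer (N : Set G) := hT'.le.trans hEN
  have hTa : ∀ t ∈ T', t * a = a * t → t ∈ T := fun t ht hta =>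
    mem_of_fix S.syl hT'.two hTT' ht (mem_centralizer_singleton_iff.2 hta)
  obtain ⟨R, hR⟩ : ∃ R, R = fix T' N := ⟨_, rfl⟩
  have hRT : R ≤ T' := hR ▸ fix_le T' N
  have hmemR : ∀ {s : G}, s ∈ R ↔ s ∈ T' ∧ Fixes s N := by
    intro s
    rw [hR]
    exact mem_fix
  have hR2 : IsPGroup 2 ↥R := hT'.two.to_le hRT
  have haR : a ∈ R := hmemR.2 ⟨hTT' S.toFr7.aT, hfa⟩
  have hfw : Fixes w N := fixes_self' hN.comp.le
  have hwR : w ∈ R := hmemR.2 ⟨hTT' S.wT, hfw⟩
  have hlab : ∀ s ∈ T, Fixes s N → ∀ i, i ≠ 4 → i ≠ 5 → M.φ s i = i := by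
    intro s hs hsf i h4 h5
    rw [← S.agree' M₁ hle hφ hs (hTN hs) h4 h5, (M₁.fixes_iff (hTN hs)).2 hsf]
    rfl
  have hinf : ∀ p ∈ T ⊓ L, p ∈ R → p = 1 := fun p hp hpR =>
    S.eq_one_of hp (hlab p hp.1 (hmemR.1 hpR).2)
  have hcen : ∀ r ∈ R, r * a = a * r → r = 1 ∨ r = a ∨ r = w ∨ r = a * w := by
    intro r hr hra
    obtain ⟨h1, h2⟩ := hmemR.1 hr
    have hrT := hTa r h1 hra
    exact S.Qs_form r (S.mem_Qs_of hrT (hlab r hrT h2))
  -- `T' = P R`
  have hsup : ∀ t ∈ T', ∃ p ∈ T ⊓ L, ∃ r ∈ R, t = p * r := by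
    let f : ↥T' →* Perm (Fin 7) :=
      { toFun := fun s => M₁.φ s
        map_one' := M₁.one
        map_mul' := fun s t => M₁.mul _ _ (hTN' s.2) (hTN' t.2) }
    have hf2 : IsPGroup 2 ↥f.range := hT'.two.of_surjective f.rangeRestrict f.rangeRestrict_surjective
    have hle' : f.range ≤ sym (fixIn (Finset.univ : Finset (Fin 7)) (M.φ w)) := by
      rintro _ ⟨s, rfl⟩
      exact M₁.mem_sym _ (hTN' s.2)
    have h120 : Nat.card ↥(sym (fixIn (Finset.univ : Finset (Fin 7)) (M.φ w))) = 120 := by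
      rw [← Nat.card_congr (symEquiv _).toEquiv, Nat.card_eq_fintype_card, Fintype.card_perm,
        Fintype.card_coe, S.φw, card_fixIn_w0]
      rfl
    have h8 : Nat.card ↥f.range ≤ 8 := by
      obtain ⟨n, hn⟩ := IsPGroup.iff_card.mp hf2
      have h1 := card_dvd_of_le hle'
      rw [h120, hn] at h1
      rw [hn]
      have h2 : n ≤ 3 := by
        by_contra hlt
        have h3 : 2 ^ 4 ∣ 120 := (pow_dvd_pow 2 (by omega)).trans h1
        omega
      calc 2 ^ n ≤ 2 ^ 3 := Nat.pow_le_pow_right (by norm_num) h2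
        _ = 8 := by norm_num
    let k : ↥(T ⊓ L : Subgroup G) → ↥f.range := fun p => ⟨M₁.φ p, ⟨⟨p, hTT' p.2.1⟩, rfl⟩⟩
    have hk : Function.Injective k := by
      intro p q hpq
      have h1 : M₁.φ p = M₁.φ q := congrArg Subtype.val hpq
      have h2 : (p : G)⁻¹ * q = 1 := by
        refine hinf _ (mul_mem (inv_mem p.2) q.2) (hmemR.2 ⟨T'.mul_mem (T'.inv_mem (hTT' p.2.1))
          (hTT' q.2.1), ?_⟩)
        rw [← M₁.fixes_iff (mul_mem (inv_mem (hTN p.2.1)) (hTN q.2.1)),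
          M₁.mul _ _ (inv_mem (hTN p.2.1)) (hTN q.2.1), M₁.inv (hTN p.2.1), h1, inv_mul_cancel]
      exact Subtype.ext (inv_mul_eq_one.1 h2)
    have hkb : Function.Bijective k := by
      have := Fintype.ofFinite ↥(T ⊓ L : Subgroup G)
      have := Fintype.ofFinite ↥f.range
      rw [Fintype.bijective_iff_injective_and_card]
      refine ⟨hk, ?_⟩
      rw [← Nat.card_eq_fintype_card, ← Nat.card_eq_fintype_card]
      refine le_antisymm (Nat.card_le_card_of_injective k hk) ?_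
      rw [S.toFr7.P8]
      exact h8
    intro t ht
    obtain ⟨p, hp⟩ := hkb.2 ⟨M₁.φ t, ⟨⟨t, ht⟩, rfl⟩⟩
    have h1 : M₁.φ p = M₁.φ t := congrArg Subtype.val hp
    refine ⟨p, p.2, (p : G)⁻¹ * t, hmemR.2 ⟨T'.mul_mem (T'.inv_mem (hTT' p.2.1)) ht, ?_⟩, by group⟩
    rw [← M₁.fixes_iff (mul_mem (inv_mem (hTN p.2.1)) (hTN' ht)),
      M₁.mul _ _ (inv_mem (hTN p.2.1)) (hTN' ht), M₁.inv (hTN p.2.1), h1, inv_mul_cancel]
  -- `N` is normal in `C(w)`
  have hnor : centralizer ({w} : Set G) ≤ normalizer (N : Set G) := by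
    intro g hg
    by_contra hgN
    have hne : cj g N ≠ N := fun h => hgN (mem_normalizer_iff_cj.mpr h)
    have hN' : IsComp (centralizer ({w} : Set G)) (cj g N) := by
      have := hN.comp.cj g
      rwa [cj_eq_self_of_mem hg] at this
    have hfix : ∀ y ∈ cj g N, Fixes y N := fun y hy => hN.comp.fixes_of_mem hN' hne.symm hy
    obtain ⟨M', hM'⟩ : ∃ M' : Lab5 (cj g N) (M.φ w), M' = M₁.cj g := ⟨_, rfl⟩
    have hmem : ∀ σ : Perm (Fin 7), σ ∈ alternatingGroup (Fin 7) → σ 4 = 4 → σ 5 = 5 →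
        σ ∈ alt (fixIn (Finset.univ : Finset (Fin 7)) (M.φ w)) := by
      intro σ h1 h4 h5
      refine ⟨h1, fun i hi => ?_⟩
      rw [S.φw, mem_fixIn_w0] at hi
      by_cases hi4 : i = 4
      · rw [hi4, h4]
      · by_cases hi5 : i = 5
        · rw [hi5, h5]
        · exact absurd ⟨hi4, hi5⟩ hi
    obtain ⟨k₁, hk₁, hkk₁, -, hφ₁⟩ := M'.exists_inv_lift (t := 1) (one_mem _) (n := 0) (one_pow _)
      (hmem (swap 0 1 * swap 2 3) (by rw [mem_alternatingGroup]; decide) (by decide) (by decide))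
      (by decide) (by rw [M'.one, one_mul, mul_one])
    obtain ⟨k₂, hk₂, hkk₂, hk₁₂, hφ₂⟩ := M'.exists_inv_lift (t := k₁) (le_normalizer hk₁) (n := 1)
      (by rw [pow_one, pow_two, hkk₁])
      (hmem (swap 0 2 * swap 1 3) (by rw [mem_alternatingGroup]; decide) (by decide) (by decide))
      (by decide) (by rw [hφ₁]; decide)
    have hwN' : w ∈ normalizer (cj g N : Set G) := (fixes_self' hN'.le).1
    have hφw : M'.φ w = 1 := (M'.fixes_iff hwN').2 (fixes_self' hN'.le)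
    have hkw : ∀ k ∈ cj g N, k * w = w * k := fun k hk => mem_centralizer_singleton_iff.1 (hN'.le hk)
    have hφ₁₂ : M'.φ (k₁ * k₂) = swap 0 1 * swap 2 3 * (swap 0 2 * swap 1 3) := by
      rw [M'.mul _ _ (le_normalizer hk₁) (le_normalizer hk₂), hφ₁, hφ₂]
    have hne' : ∀ {u v : G}, M'.φ u ≠ M'.φ v → u ≠ v := fun h h1 => h (by rw [h1])
    obtain ⟨V, hV8, hV⟩ := FrameRank.exists_E8 hkk₁ hkk₂ S.ww hk₁₂ (hkw k₁ hk₁) (hkw k₂ hk₂)
      (hne' (by rw [hφ₁, M'.one]; decide)) (hne' (by rw [hφ₂, M'.one]; decide))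
      (hne' (by rw [hφ₁, hφ₂]; decide)) S.w1 (hne' (by rw [hφw, hφ₁]; decide))
      (hne' (by rw [hφw, hφ₂]; decide)) (hne' (by rw [hφw, hφ₁₂]; decide))
    have hbl : ∀ (u : G) (A : Subgroup G), u ∈ A → ∀ i, FrameRank.bl u i ∈ A := by
      intro u A hu i
      cases i
      · exact A.one_mem
      · exact hu
    have hVE : ∀ v ∈ V, v ∈ E ∧ Fixes v N := by
      have h1 : V ≤ E ⊓ fix E N := by
        intro v hv
        obtain ⟨i, j, k, rfl⟩ := (hV v).1 hv
        have h2 : ∀ y ∈ cj g N, y ∈ E ⊓ fix E N := by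
          intro y hy
          have h3 : y ∈ E := by
            rw [hE]
            exact ⟨hN'.le hy, (hfix y hy).1⟩
          exact ⟨h3, h3, hfix y hy⟩
        have h4 : w ∈ E ⊓ fix E N := ⟨hTE S.wT, hTE S.wT, hfw⟩
        exact mul_mem (mul_mem (hbl _ _ (h2 _ hk₁) i) (hbl _ _ (h2 _ hk₂) j)) (hbl _ _ h4 k)
      intro v hv
      exact ⟨(h1 hv).1, (h1 hv).2.2⟩
    have hV2 : ∀ v ∈ V, v * v = 1 := by
      intro v hv
      obtain ⟨i, j, k, rfl⟩ := (hV v).1 hv
      have e1 := FrameRank.bl_mul hkk₁ i i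
      have e2 := FrameRank.bl_mul hkk₂ j j
      have e3 := FrameRank.bl_mul S.ww k k
      have c1 := FrameRank.bl_comm hk₁₂ i j
      have c2 := FrameRank.bl_comm (hkw k₁ hk₁) i k
      have c3 := FrameRank.bl_comm (hkw k₂ hk₂) j k
      obtain ⟨p, hp⟩ : ∃ p, p = FrameRank.bl k₁ i := ⟨_, rfl⟩
      obtain ⟨q, hq⟩ : ∃ q, q = FrameRank.bl k₂ j := ⟨_, rfl⟩
      obtain ⟨r, hr⟩ : ∃ r, r = FrameRank.bl w k := ⟨_, rfl⟩
      rw [← hp] at e1 c1 c2 ⊢
      rw [← hq] at e2 c1 c3 ⊢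
      rw [← hr] at e3 c2 c3 ⊢
      rw [Bool.xor_self] at e1 e2 e3
      have e0 : ∀ u : G, FrameRank.bl u false = 1 := fun u => rfl
      rw [e0] at e1 e2 e3
      calc p * q * r * (p * q * r) = p * q * (r * p) * q * r := by group
        _ = p * q * (p * r) * q * r := by rw [c2]
        _ = p * (q * p) * (r * q) * r := by group
        _ = p * (p * q) * (q * r) * r := by rw [c1, c3]
        _ = (p * p) * (q * q) * (r * r) := by group
        _ = 1 := by rw [e1, e2, e3, one_mul, one_mul]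
    have hVp : IsPGroup 2 ↥V := Mu.isPGroup_of_sq hV2
    obtain ⟨h, hhE, hVh⟩ := hT'.conj hVp (fun v hv => (hVE v hv).1)
    have hhN : cj h⁻¹ N = N := mem_normalizer_iff_cj.mp (inv_mem (hEN hhE))
    refine no_E8 (E := cj h⁻¹ V) hR2 haR S.aa S.a1 hwR S.ww S.w1 S.w_ne_a S.wa hcen ?_ ?_ ?_
    · rintro _ ⟨v, hv, rfl⟩
      have h1 := hVh hv
      rw [mem_cj] at h1
      refine hmemR.2 ⟨?_, ?_⟩
      · change h⁻¹ * v * h⁻¹⁻¹ ∈ T'
        rwa [inv_inv]
      · have h2 := (hVE v hv).2.cj h⁻¹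
        rwa [hhN] at h2
    · rw [card_cj, hV8]
    · rintro _ ⟨v, hv, rfl⟩
      change h⁻¹ * v * h⁻¹⁻¹ * (h⁻¹ * v * h⁻¹⁻¹) = 1
      calc h⁻¹ * v * h⁻¹⁻¹ * (h⁻¹ * v * h⁻¹⁻¹) = h⁻¹ * (v * v) * h := by group
        _ = 1 := by rw [hV2 v hv]; group
  have hEeq : E = centralizer ({w} : Set G) := by
    rw [hE]
    exact inf_of_le_left hnor
  rw [hEeq] at hT'
  obtain ⟨z, hz⟩ := S.toFr7.exists_z
  have hn : ∀ t ∈ T', ∀ y ∈ R, t * y * t⁻¹ ∈ R := by
    intro t ht y hy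
    obtain ⟨h1, h2⟩ := hmemR.1 hy
    refine hmemR.2 ⟨T'.mul_mem (T'.mul_mem ht h1) (T'.inv_mem ht), ?_⟩
    have h3 := h2.cj t
    rwa [mem_normalizer_iff_cj.mp (hTN' ht)] at h3
  rcases rank_of_PR hT' hz (inf_le_left.trans hTT') hRT hsup hinf hn haR S.aa S.a1
    (fun p hp => S.toFr7.a_comm hp.1) hwR S.ww S.w1 S.w_ne_a hcen with h1 | h1
  · left
    have h2 : T' = T := by
      refine le_antisymm (fun t ht => ?_) hTT'
      obtain ⟨p, hp, r, hr, rfl⟩ := hsup t ht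
      exact T.mul_mem hp.1 (hTa r (hRT hr) (h1 r hr))
    rwa [h2] at hT'
  · exact Or.inr h1

end Sm

end Cfsg.Agent.UGT.A7
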