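import Cfsg.Agent.UGT.A7.Five

/-!
# Facts on permutations of five points commuting with a transposition
-/

set_option autoImplicit false

namespace Cfsg.Agent.UGT.A7.Dg

open Equiv Equiv.Perm

/-- the transposition `(0 1)` -/
def e0 : P5 := swap 0 1
/-- the three-cycle `(2 3 4)` -/
def c0 : P5 := swap 2 3 * swap 3 4
/-- `(0 1)(2 3)` -/
def a0 : P5 := swap 0 1 * swap 2 3
/-- `(0 2)(1 3)` -/
def b0 : P5 := swap 0 2 * swap 1 3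

/-- the centralizer of `e0` -/
def CL : List P5 := [1, c0, c0⁻¹, swap 2 3, swap 2 4, swap 3 4, e0, e0 * c0, e0 * c0⁻¹, e0 * swap 2 3,
  e0 * swap 2 4, e0 * swap 3 4]

theorem mem_CL : ∀ g : P5, g * e0 = e0 * g → g ∈ CL := by decide +kernel

theorem CL_six : ∀ g ∈ CL, g ^ 6 = 1 := by decide +kernel

theorem CL_three : ∀ g ∈ CL, g ^ 3 = 1 → g = 1 ∨ g = c0 ∨ g = c0⁻¹ := by decide +kernel

theorem CL_pm : ∀ g ∈ CL, (g * c0 * g⁻¹ = c0 ∧ g * c0⁻¹ * g⁻¹ = c0⁻¹) ∨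
    (g * c0 * g⁻¹ = c0⁻¹ ∧ g * c0⁻¹ * g⁻¹ = c0) := by decide +kernel

theorem CL_even : ∀ g ∈ CL, sign g = 1 → g * g = 1 → g ≠ 1 → g * c0 * g⁻¹ = c0⁻¹ ∧ g * c0⁻¹ * g⁻¹ = c0 := by
  decide +kernel

theorem CL_cent : ∀ g ∈ CL, g * g = 1 → (g * c0 = c0 * g ∨ g * c0⁻¹ = c0⁻¹ * g) → g = 1 ∨ g = e0 := by
  decide +kernel

theorem c0_facts : c0 ≠ 1 ∧ c0 ^ 3 = 1 ∧ c0 ≠ c0⁻¹ ∧ c0 * e0 = e0 * c0 ∧ sign c0 = 1 := by decide +kernel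

theorem e0_facts : e0 ≠ 1 ∧ e0 * e0 = 1 ∧ sign e0 = -1 := by decide +kernel

theorem a0_facts : a0 ≠ 1 ∧ a0 * a0 = 1 ∧ sign a0 = 1 ∧ a0 * e0 = e0 * a0 := by decide +kernel

theorem b0_facts : b0 ≠ 1 ∧ b0 * b0 = 1 ∧ sign b0 = 1 ∧ a0 * b0 = b0 * a0 ∧ e0 * b0 * e0 = b0 * a0 := by
  decide +kernel

theorem exists_other : ∀ g : P5, g * g = 1 → ∃ s : P5, sign s = 1 ∧ s * s = 1 ∧ s ≠ 1 ∧ s ≠ g ∧ g * s = s * g := by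
  decide +kernel

theorem swap_of_fix : ∀ g : P5, g * g = 1 → (UAlt.fixIn Finset.univ g).card = 3 →
    ∃ s : P5, s * g * s⁻¹ = e0 := by decide +kernel

end Cfsg.Agent.UGT.A7.Dg
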