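import Cfsg.Agent.UGT.A7.Swap
import Cfsg.Agent.UGT.TriBase
import Cfsg.Agent.GH.ESuzMain

/-!
# Lemma D: Sylow 2-subgroups `T` of `C(c)` of the form `P × R`
-/

set_option autoImplicit false
set_option linter.unusedSectionVars false

namespace Cfsg.Agent.UGT.A7

open Subgroup Cfsg Cfsg.Agent.TwoFusion.SectionalRank
open Cfsg.Agent.UGT.TriBase

variable {G : Type*} [Group G] {T P R : Subgroup G} {z c : G}

/-! ### the action of `N(T)` on `{z, c}` -/

theorem split_comm (h : TwoP T P R) {p q p₁ r₁ : G} (hp : p ∈ P) (hq : q ∈ R) (hp₁ : p₁ ∈ P) (hr₁ : r₁ ∈ R)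
    (hc : (p₁ * r₁) * (p * q) = (p * q) * (p₁ * r₁)) : p₁ * p = p * p₁ ∧ r₁ * q = q * r₁ := by
  have e1 : (p₁ * r₁) * (p * q) = (p₁ * p) * (r₁ * q) := by
    calc (p₁ * r₁) * (p * q) = p₁ * (r₁ * p) * q := by group
      _ = p₁ * (p * r₁) * q := by rw [h.comm p hp r₁ hr₁]
      _ = _ := by group
  have e2 : (p * q) * (p₁ * r₁) = (p * p₁) * (q * r₁) := by
    calc (p * q) * (p₁ * r₁) = p * (q * p₁) * r₁ := by group
      _ = p * (p₁ * q) * r₁ := by rw [h.comm p₁ hp₁ q hq]
      _ = _ := by group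
  rw [e1, e2] at hc
  have e3 : (p * p₁)⁻¹ * (p₁ * p) = (q * r₁) * (r₁ * q)⁻¹ := by
    rw [inv_mul_eq_iff_eq_mul, ← mul_assoc, eq_mul_inv_iff_mul_eq]
    exact hc
  have h1 : (p * p₁)⁻¹ * (p₁ * p) ∈ P := P.mul_mem (P.inv_mem (P.mul_mem hp hp₁)) (P.mul_mem hp₁ hp)
  have h2 : (q * r₁) * (r₁ * q)⁻¹ ∈ R := R.mul_mem (R.mul_mem hq hr₁) (R.inv_mem (R.mul_mem hr₁ hq))
  have h3 := h.inf _ h1 (e3 ▸ h2)
  refine ⟨(inv_mul_eq_one.1 h3).symm, ?_⟩
  rw [e3, mul_inv_eq_one] at h3
  exact h3.symm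

/-- `[p r, p' r'] = [p, p'] [r, r']` -/
theorem comm_eq (h : TwoP T P R) {p r p' r' : G} (hp : p ∈ P) (hr : r ∈ R) (hp' : p' ∈ P) (hr' : r' ∈ R) :
    (p * r) * (p' * r') * (p * r)⁻¹ * (p' * r')⁻¹ = (p * p' * p⁻¹ * p'⁻¹) * (r * r' * r⁻¹ * r'⁻¹) := by
  have e1 : (p * r) * (p' * r') = (p * p') * (r * r') := by
    calc (p * r) * (p' * r') = p * (r * p') * r' := by group
      _ = p * (p' * r) * r' := by rw [h.comm p' hp' r hr]
      _ = _ := by group
  have e2 : (p * r)⁻¹ = p⁻¹ * r⁻¹ := by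
    rw [h.comm p hp r hr, mul_inv_rev]
  have e3 : (p' * r')⁻¹ = p'⁻¹ * r'⁻¹ := by
    rw [h.comm p' hp' r' hr', mul_inv_rev]
  rw [e1, e2, e3]
  have e4 := h.comm p⁻¹ (P.inv_mem hp) (r * r') (R.mul_mem hr hr')
  have e5 := h.comm p'⁻¹ (P.inv_mem hp') (r * r' * r⁻¹) (R.mul_mem (R.mul_mem hr hr') (R.inv_mem hr))
  calc p * p' * (r * r') * (p⁻¹ * r⁻¹) * (p'⁻¹ * r'⁻¹)
      = p * p' * ((r * r') * p⁻¹) * r⁻¹ * p'⁻¹ * r'⁻¹ := by group
    _ = p * p' * (p⁻¹ * (r * r')) * r⁻¹ * p'⁻¹ * r'⁻¹ := by rw [e4]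
    _ = p * p' * p⁻¹ * ((r * r' * r⁻¹) * p'⁻¹) * r'⁻¹ := by group
    _ = p * p' * p⁻¹ * (p'⁻¹ * (r * r' * r⁻¹)) * r'⁻¹ := by rw [e5]
    _ = _ := by group

/-- commutators in the centralizer of a noncentral element -/
theorem comm_cent (hP : EightS P z) (hR : EightS R c) (h : TwoP T P R) {w s t : G} (hw : w ∈ T)
    (hwn : ∃ t ∈ T, w * t ≠ t * w) (hs : s ∈ T) (ht : t ∈ T) (hsw : s * w = w * s) (htw : t * w = w * t) :
    s * t * s⁻¹ * t⁻¹ = 1 ∨ s * t * s⁻¹ * t⁻¹ = z ∨ s * t * s⁻¹ * t⁻¹ = c := by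
  obtain ⟨p, hp, q, hq, rfl⟩ := h.sup w hw
  obtain ⟨p₁, hp₁, r₁, hr₁, rfl⟩ := h.sup s hs
  obtain ⟨p₂, hp₂, r₂, hr₂, rfl⟩ := h.sup t ht
  obtain ⟨h1, h2⟩ := split_comm h hp hq hp₁ hr₁ hsw
  obtain ⟨h3, h4⟩ := split_comm h hp hq hp₂ hr₂ htw
  rw [comm_eq h hp₁ hr₁ hp₂ hr₂]
  by_cases hpc : ∃ v ∈ P, p * v ≠ v * p
  · obtain ⟨v, hv, hpv⟩ := hpc
    have h5 := hP.ab p hp v hv hpv p₁ hp₁ p₂ hp₂ h1 h3
    have h6 : p₁ * p₂ * p₁⁻¹ * p₂⁻¹ = 1 := by rw [h5]; group
    rw [h6, one_mul]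
    rcases hR.com r₁ hr₁ r₂ hr₂ with h7 | h7
    · exact Or.inl h7
    · exact Or.inr (Or.inr h7)
  · push Not at hpc
    have hqc : ∃ v ∈ R, q * v ≠ v * q := by
      by_contra hcon
      push Not at hcon
      obtain ⟨t, ht, hwt⟩ := hwn
      obtain ⟨p₃, hp₃, r₃, hr₃, rfl⟩ := h.sup t ht
      apply hwt
      calc p * q * (p₃ * r₃) = p * (q * p₃) * r₃ := by group
        _ = p * (p₃ * q) * r₃ := by rw [h.comm p₃ hp₃ q hq]
        _ = (p * p₃) * (q * r₃) := by group
        _ = (p₃ * p) * (r₃ * q) := by rw [hpc p₃ hp₃, hcon r₃ hr₃]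
        _ = p₃ * (p * r₃) * q := by group
        _ = p₃ * (r₃ * p) * q := by rw [h.comm p hp r₃ hr₃]
        _ = _ := by group
    obtain ⟨v, hv, hpv⟩ := hqc
    have h5 := hR.ab q hq v hv hpv r₁ hr₁ r₂ hr₂ h2 h4
    have h6 : r₁ * r₂ * r₁⁻¹ * r₂⁻¹ = 1 := by rw [h5]; group
    rw [h6, mul_one]
    rcases hP.com p₁ hp₁ p₂ hp₂ with h7 | h7
    · exact Or.inl h7
    · exact Or.inr (Or.inl h7)

theorem EightS.exists_comm (h : EightS P z) : ∃ p ∈ P, ∃ q ∈ P, p * q ≠ q * p ∧ p * q * p⁻¹ * q⁻¹ = z := by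
  obtain ⟨p, hp, q, hq, hpq⟩ := h.nab
  refine ⟨p, hp, q, hq, hpq, ?_⟩
  rcases h.com p hp q hq with h1 | h1
  · exfalso
    apply hpq
    calc p * q = (p * q * p⁻¹ * q⁻¹) * (q * p) := by group
      _ = q * p := by rw [h1, one_mul]
  · exact h1

/-- `N(T)` permutes `{z, c}` -/
theorem conj_c (hP : EightS P z) (hR : EightS R c) (h : TwoP T P R) {g : G}
    (hg : ∀ t ∈ T, g * t * g⁻¹ ∈ T) : g * c * g⁻¹ = c ∨ g * c * g⁻¹ = z := by
  obtain ⟨r, hr, s, hs, -, hrs⟩ := hR.exists_comm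
  obtain ⟨v, hv, w, hw, hvw⟩ := hP.nab
  have e : ∀ a b : G, a * b = b * a → g * a * g⁻¹ * (g * b * g⁻¹) = g * b * g⁻¹ * (g * a * g⁻¹) := by
    intro a b hab
    calc g * a * g⁻¹ * (g * b * g⁻¹) = g * (a * b) * g⁻¹ := by group
      _ = g * (b * a) * g⁻¹ := by rw [hab]
      _ = _ := by group
  have h1 := comm_cent hP hR h (hg v (h.PT hv)) ⟨g * w * g⁻¹, hg w (h.PT hw), fun h2 => hvw (by
      have h3 : g * (v * w) * g⁻¹ = g * (w * v) * g⁻¹ := by
        calc g * (v * w) * g⁻¹ = g * v * g⁻¹ * (g * w * g⁻¹) := by group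
          _ = g * w * g⁻¹ * (g * v * g⁻¹) := h2
          _ = _ := by group
      exact mul_left_cancel (mul_right_cancel h3))⟩
    (hg r (h.RT hr)) (hg s (h.RT hs)) (e r v (h.comm v hv r hr).symm) (e s v (h.comm v hv s hs).symm)
  have h2 : g * r * g⁻¹ * (g * s * g⁻¹) * (g * r * g⁻¹)⁻¹ * (g * s * g⁻¹)⁻¹ = g * c * g⁻¹ := by
    rw [← hrs]; group
  rw [h2] at h1
  rcases h1 with h1 | h1 | h1
  · exfalso
    apply hR.ne
    have h3 : g * c = g := by
      calc g * c = (g * c * g⁻¹) * g := by group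
        _ = g := by rw [h1, one_mul]
    exact mul_eq_left.1 h3
  · exact Or.inr h1
  · exact Or.inl h1

/-! ### Sylow subgroups -/

variable [Finite G]

/-- a Sylow 2-subgroup of `G` containing `T` -/
theorem exists_sylow_ge {T : Subgroup G} (hT : IsPGroup 2 ↥T) : ∃ S : Sylow 2 G, T ≤ S := hT.exists_le_sylow

/-- elements of `C(c)` normalizing `T` and generating with `T` a 2-group lie in `T` -/
theorem mem_of_fix {E T S : Subgroup G} (hT : IsSyl E T) (hS : IsPGroup 2 ↥S) (hTS : T ≤ S) {u : G}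
    (hu : u ∈ S) (huE : u ∈ E) : u ∈ T := by
  have h1 : IsPGroup 2 ↥(S ⊓ E) := hS.to_le inf_le_left
  have h2 := hT.max (S ⊓ E) h1 inf_le_right (le_inf hTS hT.le)
  rw [← h2]
  exact ⟨hu, huE⟩

/-- If `N(T)` fixes `c` then `T ∈ Syl₂(C(c))` is a Sylow subgroup of `G`. -/
theorem sylow_of_fix {T : Subgroup G} {c : G} (hT : IsSyl (centralizer ({c} : Set G)) T)
    (hfix : ∀ g : G, (∀ t ∈ T, g * t * g⁻¹ ∈ T) → g * c * g⁻¹ = c) (S : Sylow 2 G) (hTS : T ≤ S) :
    (S : Subgroup G) = T := by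
  by_contra hne
  obtain ⟨y, hy, hyT, hn⟩ := GH.E.exists_mem_normalizer S.isPGroup' hTS (fun h => hne h.symm)
  apply hyT
  refine mem_of_fix hT S.isPGroup' hTS hy ?_
  rw [mem_centralizer_singleton_iff]
  exact mul_inv_eq_iff_eq_mul.1 (hfix y hn)

theorem c_mem_center_T (hR : EightS R c) (h : TwoP T P R) {t : G} (ht : t ∈ T) : t * c = c * t :=
  central_c hR h ht

/-- **`T = P × R ∈ Syl₂(C(c))` with `P`, `R` nonabelian of order 8, `c ∈ Z(R)`: sectional rank at most 4.** -/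
theorem rank_of_eight (hP : EightS P z) (hR : EightS R c) (h : TwoP T P R)
    (hT : IsSyl (centralizer ({c} : Set G)) T) : SectionalPRankLE 2 4 G := by
  have : Fact (Nat.Prime 2) := ⟨Nat.prime_two⟩
  obtain ⟨S, hTS⟩ := exists_sylow_ge hT.two
  apply sectionalPRankLE_of_sylow S
  have hzc := z_ne_c hP hR h
  have hcz : c * z = z * c := (hP.cen · · |>.symm) |> fun _ => (central_c hR h (h.PT hP.mem)).symm
  -- normalizing elements
  have hconj : ∀ u : G, (∀ t ∈ T, u * t * u⁻¹ ∈ T) →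
      (u * c * u⁻¹ = c ∨ u * c * u⁻¹ = z) ∧ (u * z * u⁻¹ = z ∨ u * z * u⁻¹ = c) := fun u hu =>
    ⟨conj_c hP hR h hu, conj_c hR hP h.symm hu⟩
  have hinj : ∀ (u a b : G), u * a * u⁻¹ = u * b * u⁻¹ → a = b := fun u a b h1 =>
    mul_left_cancel (mul_right_cancel h1)
  have hswap : ∀ u ∈ (S : Subgroup G), (∀ t ∈ T, u * t * u⁻¹ ∈ T) → u ∉ T →
      u * z * u⁻¹ = c ∧ u * c * u⁻¹ = z := by
    intro u hu hn huT
    obtain ⟨h1, h2⟩ := hconj u hn
    have h3 : u * c * u⁻¹ = z := by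
      rcases h1 with h1 | h1
      · exfalso
        apply huT
        refine mem_of_fix hT S.isPGroup' hTS hu ?_
        rw [mem_centralizer_singleton_iff]
        exact mul_inv_eq_iff_eq_mul.1 h1
      · exact h1
    refine ⟨?_, h3⟩
    rcases h2 with h2 | h2
    · exact absurd (hinj u c z (h3.trans h2.symm)) hzc.symm
    · exact h2
  obtain ⟨M, hM⟩ : ∃ M : Subgroup G, M = (S : Subgroup G) ⊓ normalizer (T : Set G) := ⟨_, rfl⟩
  have hMS : M ≤ S := hM ▸ inf_le_left
  have hMn : ∀ u ∈ M, ∀ t ∈ T, u * t * u⁻¹ ∈ T := by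
    intro u hu t ht
    rw [hM] at hu
    exact (mem_normalizer_iff.1 hu.2 t).1 ht
  have hTM : T ≤ M := by
    rw [hM]
    exact le_inf hTS le_normalizer
  have hsw : ∀ u ∈ M, u ∉ T → u * z * u⁻¹ = c ∧ u * c * u⁻¹ = z := fun u hu huT =>
    hswap u (hMS hu) (hMn u hu) huT
  have hmulT : ∀ u ∈ M, ∀ v ∈ M, u ∉ T → v ∉ T → u⁻¹ * v ∈ T := by
    intro u hu v hv huT hvT
    refine mem_of_fix hT S.isPGroup' hTS (hMS (M.mul_mem (M.inv_mem hu) hv)) ?_
    rw [mem_centralizer_singleton_iff]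
    have h2 := (hsw v hv hvT).2
    have h3 : v * c = z * v := mul_inv_eq_iff_eq_mul.1 h2
    have h6 : u * c * u⁻¹ = z := (hsw u hu huT).2
    calc u⁻¹ * v * c = u⁻¹ * (v * c) := by group
      _ = u⁻¹ * (z * v) := by rw [h3]
      _ = u⁻¹ * ((u * c * u⁻¹) * v) := by rw [h6]
      _ = c * (u⁻¹ * v) := by group
  have hidx0 : T.relIndex M ≠ 0 := index_ne_zero_of_finite (H := T.subgroupOf M)
  have hidx : T.relIndex M ≤ 2 := by
    by_cases hMT : ∃ u ∈ M, u ∉ T
    · obtain ⟨u, hu, huT⟩ := hMT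
      have h1 : T.relIndex M = 2 := by
        rw [relIndex, index_eq_two_iff]
        refine ⟨⟨u⁻¹, M.inv_mem hu⟩, fun b => ?_⟩
        have huT' : u⁻¹ ∉ T := fun h2 => huT (by rw [← inv_inv u]; exact T.inv_mem h2)
        rw [mem_subgroupOf, mem_subgroupOf]
        by_cases hb : (b : G) ∈ T
        · refine Or.inr ⟨hb, fun h2 => huT' ?_⟩
          have h3 := T.mul_mem (T.inv_mem hb) h2
          change (b : G)⁻¹ * ((b : G) * u⁻¹) ∈ T at h3
          rwa [inv_mul_cancel_left] at h3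
        · refine Or.inl ⟨?_, hb⟩
          change (b : G) * u⁻¹ ∈ T
          have h3 := hmulT (b : G)⁻¹ (M.inv_mem b.2) u⁻¹ (M.inv_mem hu)
            (fun h2 => hb (by rw [← inv_inv (b : G)]; exact T.inv_mem h2)) huT'
          rwa [inv_inv] at h3
      omega
    · push Not at hMT
      rw [relIndex_eq_one.2 hMT]
      omega
  -- `M = S`
  have hMS' : M = (S : Subgroup G) := by
    by_contra hne
    have hMT : ∃ u ∈ M, u ∉ T := by
      by_contra hcon
      push Not at hcon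
      have h1 : T ≠ (S : Subgroup G) := fun h2 => hne (le_antisymm hMS (by rw [← h2]; exact hTM))
      obtain ⟨y, hy, hyT, hn⟩ := GH.E.exists_mem_normalizer S.isPGroup' hTS h1
      apply hyT
      apply hcon
      rw [hM]
      exact ⟨hy, mem_normalizer_fintype hn⟩
    obtain ⟨u, hu, huT⟩ := hMT
    obtain ⟨s, hs, hsM, hsn⟩ := GH.E.exists_mem_normalizer S.isPGroup' hMS hne
    obtain ⟨huz, huc⟩ := hsw u hu huT
    -- `Z(T)` in `M`
    have hcz1 : c * z ≠ 1 := fun h5 => hzc (by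
      have := eq_inv_of_mul_eq_one_right h5
      rw [this, inv_eq_of_mul_eq_one_right hR.sq])
    have hczT : ∀ t ∈ T, t * (c * z) = (c * z) * t := fun t ht => by
      rw [← mul_assoc, central_c hR h ht, mul_assoc, central_z hP h ht, mul_assoc]
    have hA : ∀ m ∈ M, (∀ y ∈ M, m * y * m⁻¹ * y⁻¹ = 1 ∨ m * y * m⁻¹ * y⁻¹ = c * z) →
        m = 1 ∨ m = z ∨ m = c ∨ m = c * z := by
      intro m hm hmy
      by_cases hmT : m ∈ T
      · obtain ⟨p, hp, r, hr, rfl⟩ := h.sup m hmT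
        have h1 : p = 1 ∨ p = z := by
          refine hP.cen' p hp fun y hy => ?_
          have h2 := comm_eq h hp hr hy R.one_mem
          rw [mul_one] at h2
          have h3 : r * 1 * r⁻¹ * (1 : G)⁻¹ = 1 := by group
          rw [h3, mul_one] at h2
          have h4 := hmy y (hTM (h.PT hy))
          rw [h2] at h4
          have h5 : p * y * p⁻¹ * y⁻¹ = 1 := by
            rcases h4 with h4 | h4
            · exact h4
            · rcases hP.com p hp y hy with h6 | h6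
              · exact h6
              · exfalso
                rw [h6] at h4
                exact hR.ne (mul_eq_right.1 h4.symm)
          calc p * y = (p * y * p⁻¹ * y⁻¹) * (y * p) := by group
            _ = y * p := by rw [h5, one_mul]
        have h1' : r = 1 ∨ r = c := by
          refine hR.cen' r hr fun y hy => ?_
          have h2 := comm_eq h hp hr P.one_mem hy
          rw [one_mul] at h2
          have h3 : p * 1 * p⁻¹ * (1 : G)⁻¹ = 1 := by group
          rw [h3, one_mul] at h2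
          have h4 := hmy y (hTM (h.RT hy))
          rw [h2] at h4
          have h5 : r * y * r⁻¹ * y⁻¹ = 1 := by
            rcases h4 with h4 | h4
            · exact h4
            · rcases hR.com r hr y hy with h6 | h6
              · exact h6
              · exfalso
                rw [h6] at h4
                exact hP.ne (mul_eq_left.1 h4.symm)
          calc r * y = (r * y * r⁻¹ * y⁻¹) * (y * r) := by group
            _ = y * r := by rw [h5, one_mul]
        rcases h1 with rfl | rfl <;> rcases h1' with rfl | rfl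
        · exact Or.inl (one_mul 1)
        · exact Or.inr (Or.inr (Or.inl (one_mul _)))
        · exact Or.inr (Or.inl (mul_one _))
        · exact Or.inr (Or.inr (Or.inr (hcz.symm)))
      · exfalso
        obtain ⟨hmz, hmc⟩ := hsw m hm hmT
        obtain ⟨r, hr, t, ht, -, hrt⟩ := hR.exists_comm
        have key : ∀ r ∈ R, ∃ e, (∀ t ∈ T, t * e = e * t) ∧ m * r * m⁻¹ = e * r := by
          intro r hr
          refine ⟨m * r * m⁻¹ * r⁻¹, ?_, by group⟩
          intro t ht
          rcases hmy r (hTM (h.RT hr)) with h2 | h2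
          · rw [h2, mul_one, one_mul]
          · rw [h2]
            exact hczT t ht
        obtain ⟨e, he, h1⟩ := key r hr
        obtain ⟨f, hf, h2⟩ := key t ht
        have hrT := h.RT hr
        have htT := h.RT ht
        have heT : e ∈ T := by
          have h4 := T.mul_mem (hMn m hm r hrT) (T.inv_mem hrT)
          rw [h1, mul_inv_cancel_right] at h4
          exact h4
        have hfT : f ∈ T := by
          have h4 := T.mul_mem (hMn m hm t htT) (T.inv_mem htT)
          rw [h2, mul_inv_cancel_right] at h4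
          exact h4
        have h3 : (e * r) * (f * t) * (e * r)⁻¹ * (f * t)⁻¹ = r * t * r⁻¹ * t⁻¹ := by
          have a1 : r * f = f * r := hf r hrT
          have a2 : (e * r) * (f * t) = (e * f) * (r * t) := by
            calc (e * r) * (f * t) = e * (r * f) * t := by group
              _ = e * (f * r) * t := by rw [a1]
              _ = _ := by group
          have a3 : (f * t) * (e * r) = (e * f) * (t * r) := by
            calc (f * t) * (e * r) = f * (t * e) * r := by group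
              _ = f * (e * t) * r := by rw [he t htT]
              _ = (f * e) * (t * r) := by group
              _ = (e * f) * (t * r) := by rw [he f hfT]
          have a4 : (e * r) * (f * t) * (e * r)⁻¹ * (f * t)⁻¹ =
              ((e * r) * (f * t)) * ((f * t) * (e * r))⁻¹ := by group
          rw [a4, a2, a3]
          have a5 : (e * f) * (r * t) * ((e * f) * (t * r))⁻¹ =
              (e * f) * (r * t * r⁻¹ * t⁻¹) * (e * f)⁻¹ := by group
          rw [a5, hrt]
          have a6 : (e * f) * c = c * (e * f) := by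
            rw [mul_assoc, ← hf c (h.RT hR.mem), ← mul_assoc, ← he c (h.RT hR.mem), mul_assoc]
          rw [a6, mul_inv_cancel_right]
        rw [← h1, ← h2, hrt] at h3
        have h4 : m * r * m⁻¹ * (m * t * m⁻¹) * (m * r * m⁻¹)⁻¹ * (m * t * m⁻¹)⁻¹ =
            m * (r * t * r⁻¹ * t⁻¹) * m⁻¹ := by group
        rw [h4, hrt, hmc] at h3
        exact hzc h3
    have hsN : s ∈ normalizer (M : Set G) := mem_normalizer_fintype hsn
    have hpull : ∀ y ∈ M, ∃ y' ∈ M, y = s * y' * s⁻¹ := by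
      intro y hy
      refine ⟨s⁻¹ * y * s, ?_, by group⟩
      have h1 := (mem_normalizer_iff''.1 hsN y).1 hy
      exact h1
    have hczM : ∀ y ∈ M, y * (c * z) * y⁻¹ = c * z := by
      intro y hy
      by_cases hyT : y ∈ T
      · rw [hczT y hyT, mul_inv_cancel_right]
      · obtain ⟨h1, h2⟩ := hsw y hy hyT
        calc y * (c * z) * y⁻¹ = (y * c * y⁻¹) * (y * z * y⁻¹) := by group
          _ = z * c := by rw [h1, h2]
          _ = c * z := hcz.symm
    have hcA : ∀ y ∈ M, c * y * c⁻¹ * y⁻¹ = 1 ∨ c * y * c⁻¹ * y⁻¹ = c * z := by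
      intro y hy
      by_cases hyT : y ∈ T
      · left
        rw [← central_c hR h hyT]; group
      · right
        obtain ⟨h1, h2⟩ := hsw y hy hyT
        have h3 : c⁻¹ = c := inv_eq_of_mul_eq_one_right hR.sq
        calc c * y * c⁻¹ * y⁻¹ = c * (y * c⁻¹ * y⁻¹) := by group
          _ = c * (y * c * y⁻¹) := by rw [h3]
          _ = c * z := by rw [h2]
    have hczin : c * z ∈ M := hTM (T.mul_mem (h.RT hR.mem) (h.PT hP.mem))
    have hscz : s * (c * z) * s⁻¹ = c * z := by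
      have h1 : ∀ y ∈ M, y * (s * (c * z) * s⁻¹) = (s * (c * z) * s⁻¹) * y := by
        intro y hy
        obtain ⟨y', hy', rfl⟩ := hpull y hy
        have h2 := mul_inv_eq_iff_eq_mul.1 (hczM y' hy')
        calc s * y' * s⁻¹ * (s * (c * z) * s⁻¹) = s * (y' * (c * z)) * s⁻¹ := by group
          _ = s * ((c * z) * y') * s⁻¹ := by rw [h2]
          _ = _ := by group
      have h2 := hA _ (hsn _ hczin) (fun y hy => Or.inl (by
        rw [← h1 y hy]; group))
      rcases h2 with h2 | h2 | h2 | h2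
      · exfalso
        apply hcz1
        have h3 : s * (c * z) = s := by
          calc s * (c * z) = (s * (c * z) * s⁻¹) * s := by group
            _ = s := by rw [h2, one_mul]
        exact mul_eq_left.1 h3
      · exfalso
        have h3 := h1 u hu
        rw [h2] at h3
        exact hzc ((mul_inv_eq_iff_eq_mul.2 h3).symm.trans huz)
      · exfalso
        have h3 := h1 u hu
        rw [h2] at h3
        exact hzc (((mul_inv_eq_iff_eq_mul.2 h3).symm.trans huc).symm)
      · exact h2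
    have hsc := hA (s * c * s⁻¹) (hsn _ (hTM (h.RT hR.mem))) (by
      intro y hy
      obtain ⟨y', hy', rfl⟩ := hpull y hy
      have h1 : s * c * s⁻¹ * (s * y' * s⁻¹) * (s * c * s⁻¹)⁻¹ * (s * y' * s⁻¹)⁻¹ =
          s * (c * y' * c⁻¹ * y'⁻¹) * s⁻¹ := by group
      rw [h1]
      rcases hcA y' hy' with h2 | h2
      · left
        rw [h2]; group
      · right
        rw [h2, hscz])
    rcases hsc with h1 | h1 | h1 | h1
    · apply hR.ne
      have h3 : s * c = s := by
        calc s * c = (s * c * s⁻¹) * s := by group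
          _ = s := by rw [h1, one_mul]
      exact mul_eq_left.1 h3
    · -- `s c s⁻¹ = z`
      apply hsM
      have h2 : u⁻¹ * s ∈ T := by
        refine mem_of_fix hT S.isPGroup' hTS (S.1.mul_mem (S.1.inv_mem (hMS hu)) hs) ?_
        rw [mem_centralizer_singleton_iff]
        have h3 : s * c = z * s := mul_inv_eq_iff_eq_mul.1 h1
        calc u⁻¹ * s * c = u⁻¹ * (s * c) := by group
          _ = u⁻¹ * (z * s) := by rw [h3]
          _ = u⁻¹ * ((u * c * u⁻¹) * s) := by rw [huc]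
          _ = c * (u⁻¹ * s) := by group
      have h3 := M.mul_mem hu (hTM h2)
      rwa [mul_inv_cancel_left] at h3
    · apply hsM
      apply hTM
      refine mem_of_fix hT S.isPGroup' hTS hs ?_
      rw [mem_centralizer_singleton_iff]
      exact mul_inv_eq_iff_eq_mul.1 h1
    · have h2 := hinj s c (c * z) (h1.trans hscz.symm)
      exact hP.ne (mul_eq_left.1 h2.symm)
  rw [← hMS', sectionalPRankLE_iff]
  intro X Y hXY
  have h1 := card_le_swap hP hR h hidx hidx0 hMn hsw (hXY.map M.subtype) (map_subtype_le X)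
  rw [card_map_of_injective M.subtype_injective, card_map_of_injective M.subtype_injective] at h1
  exact h1

end Cfsg.Agent.UGT.A7
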