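import Cfsg.Agent.UGT.A7.LemD
import Cfsg.Agent.S0112
import Cfsg.Agent.S0113

/-!
# Lemma D, `R` of maximal class of order at least 16
-/

set_option autoImplicit false
set_option linter.unusedSectionVars false

namespace Cfsg.Agent.UGT.A7

open Subgroup Cfsg Cfsg.Agent.TwoFusion.SectionalRank
open Cfsg.Agent.UGT.TriBase

variable {G : Type*} [Group G]

/-- `R` is a 2-group of maximal class of order `2 ^ (m + 4)`: `x` generates the cyclic subgroup of index 2, `a` is an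
involution outside, `a x a⁻¹ = x ^ r`. -/
structure MaxC (R : Subgroup G) (a x : G) (r : ℤ) (m : ℕ) : Prop where
  aR : a ∈ R
  xR : x ∈ R
  aa : a * a = 1
  ord : orderOf x = 2 ^ (m + 3)
  act : a * x * a⁻¹ = x ^ r
  r4 : (2 : ℤ) ^ (m + 2) ∣ 1 + r
  cov : ∀ y ∈ R, (∃ k : ℤ, y = x ^ k) ∨ ∃ k : ℤ, y = a * x ^ k

theorem exists_maxC [Finite G] {R : Subgroup G} (hR : IsPGroup 2 ↥R) {a c : G} (ha : a ∈ R) (haa : a * a = 1)
    (ha1 : a ≠ 1) (hc : c ∈ R) (hcc : c * c = 1) (hc1 : c ≠ 1) (hca : c ≠ a) (hcac : c * a = a * c)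
    (hcen : ∀ r ∈ R, r * a = a * r → r = 1 ∨ r = a ∨ r = c ∨ r = a * c) (h8 : 8 < Nat.card R) :
    ∃ x r m, MaxC R a x r m := by
  have : Fact (Nat.Prime 2) := ⟨Nat.prime_two⟩
  obtain ⟨n, hn⟩ := IsPGroup.iff_card.mp hR
  obtain ⟨a', ha'⟩ : ∃ a' : ↥R, a' = ⟨a, ha⟩ := ⟨_, rfl⟩
  obtain ⟨c', hc'⟩ : ∃ c' : ↥R, c' = ⟨c, hc⟩ := ⟨_, rfl⟩
  obtain ⟨A, hA⟩ : ∃ A, A = centralizer ({a'} : Set ↥R) := ⟨_, rfl⟩
  have hAmem : ∀ y : ↥R, y ∈ A ↔ (y : G) * a = a * y := by
    intro y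
    rw [hA, mem_centralizer_singleton_iff, ha']
    exact ⟨fun h => congrArg Subtype.val h, fun h => Subtype.ext h⟩
  have hAset : (A : Set ↥R) = {1, a', c', a' * c'} := by
    ext y
    simp only [Set.mem_insert_iff, Set.mem_singleton_iff]
    constructor
    · intro hy
      rcases hcen y y.2 ((hAmem y).1 hy) with h | h | h | h
      · exact Or.inl (Subtype.ext h)
      · exact Or.inr (Or.inl (Subtype.ext (by rw [h, ha'])))
      · exact Or.inr (Or.inr (Or.inl (Subtype.ext (by rw [h, hc']))))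
      · exact Or.inr (Or.inr (Or.inr (Subtype.ext (by rw [h, ha', hc']; rfl))))
    · rintro (rfl | rfl | rfl | rfl)
      · exact A.one_mem
      · rw [SetLike.mem_coe, hAmem, ha']
      · rw [SetLike.mem_coe, hAmem, hc']; exact hcac
      · rw [SetLike.mem_coe, hAmem, ha', hc']
        change a * c * a = a * (a * c)
        rw [mul_assoc, hcac]
  have hA4 : Nat.card A = 4 := by
    have h1 : (A : Set ↥R).ncard = 4 := by
      rw [hAset]
      have h2 : a' ≠ 1 := fun h => ha1 (by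
        have := congrArg Subtype.val h
        rw [ha'] at this; exact this)
      have h3 : c' ≠ 1 := fun h => hc1 (by
        have := congrArg Subtype.val h
        rw [hc'] at this; exact this)
      have h4 : c' ≠ a' := fun h => hca (by
        have := congrArg Subtype.val h
        rw [hc', ha'] at this; exact this)
      have h5 : a' * c' ≠ 1 := fun h => h4 (by
        have h6 : a' * a' = 1 := by rw [ha']; exact Subtype.ext haa
        have h7 := eq_inv_of_mul_eq_one_right h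
        rw [h7, inv_eq_of_mul_eq_one_right h6])
      have h6 : a' * c' ≠ a' := fun h => h3 (mul_eq_left.1 h)
      have h7 : a' * c' ≠ c' := fun h => h2 (mul_eq_right.1 h)
      rw [Set.ncard_insert_of_notMem, Set.ncard_insert_of_notMem, Set.ncard_insert_of_notMem,
        Set.ncard_singleton]
      · simpa using h7.symm
      · simp only [Set.mem_insert_iff, Set.mem_singleton_iff, not_or]
        exact ⟨h4.symm, h6.symm⟩
      · simp only [Set.mem_insert_iff, Set.mem_singleton_iff, not_or]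
        exact ⟨h2.symm, h3.symm, h5.symm⟩
    exact h1
  have hCA : centralizer (A : Set ↥R) = A := by
    apply le_antisymm
    · intro g hg
      rw [hA, mem_centralizer_singleton_iff]
      refine (mem_centralizer_iff.mp hg a' ?_).symm
      rw [hAset]; simp
    · have h4 : Nat.card A = 2 ^ 2 := by rw [hA4]; norm_num
      have hcom := IsPGroup.isMulCommutative_of_card_eq_prime_sq (p := 2) h4
      intro g hg
      rw [mem_centralizer_iff]
      intro y hy
      exact congrArg Subtype.val (hcom.is_comm.comm (⟨y, hy⟩ : A) ⟨g, hg⟩)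
  have hclass := Cfsg.Agent.S0112.result (p := 2) n hn A (by rw [hA4]; norm_num) hCA
  have hn4 : 4 ≤ n := by
    by_contra hlt
    rw [hn] at h8
    have h1 : n ≤ 3 := by omega
    have h2 : 2 ^ n ≤ 2 ^ 3 := Nat.pow_le_pow_right (by norm_num) h1
    omega
  obtain ⟨C, hC, hCidx⟩ := Cfsg.Agent.S0113.result n (by omega) hn hclass
  obtain ⟨m, rfl⟩ := Nat.exists_eq_add_of_le' hn4
  obtain ⟨x, hxC, hCx⟩ : ∃ x : ↥R, x ∈ C ∧ C = zpowers x := by
    obtain ⟨x, hx⟩ := hC.exists_generator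
    refine ⟨x, x.2, ?_⟩
    ext g
    constructor
    · intro hg
      obtain ⟨k, hk⟩ := mem_zpowers_iff.mp (hx ⟨g, hg⟩)
      rw [mem_zpowers_iff]
      exact ⟨k, by simpa using congrArg Subtype.val hk⟩
    · intro hg
      obtain ⟨k, hk⟩ := mem_zpowers_iff.mp hg
      rw [← hk]
      exact C.zpow_mem x.2 k
  have hCcard : Nat.card C = 2 ^ (m + 3) := by
    have h1 := card_mul_index C
    rw [hCidx, hn] at h1
    have h2 : (2 : ℕ) ^ (m + 4) = 2 ^ (m + 3) * 2 := by ring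
    rw [h2] at h1
    exact Nat.eq_of_mul_eq_mul_right (by norm_num) h1
  have hxord : orderOf x = 2 ^ (m + 3) := by rw [← hCcard, hCx, Nat.card_zpowers]
  have hCn : C.Normal := normal_of_index_eq_two hCidx
  have hpow8 : 8 ≤ 2 ^ (m + 3) := by
    calc 8 = 2 ^ 3 := by norm_num
      _ ≤ 2 ^ (m + 3) := Nat.pow_le_pow_right (by norm_num) (by omega)
  have haC : a' ∉ C := by
    intro h
    have h1 : C ≤ A := by
      intro y hy
      rw [hA, mem_centralizer_singleton_iff]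
      rw [hCx] at h hy
      obtain ⟨i, rfl⟩ := mem_zpowers_iff.1 h
      obtain ⟨j, rfl⟩ := mem_zpowers_iff.1 hy
      exact (Commute.refl x).zpow_zpow j i
    have h2 := card_le_of_le h1
    rw [hCcard, hA4] at h2
    omega
  have haa' : a' * a' = 1 := by rw [ha']; exact Subtype.ext haa
  obtain ⟨r, hr⟩ : ∃ r : ℤ, x ^ r = a' * x * a'⁻¹ := by
    have := hCn.conj_mem x hxC a'
    rw [hCx] at this
    exact mem_zpowers_iff.1 this
  have h1 : a' * x ^ r * a'⁻¹ = x := by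
    rw [hr]
    calc a' * (a' * x * a'⁻¹) * a'⁻¹ = (a' * a') * x * (a' * a')⁻¹ := by group
      _ = x := by rw [haa']; group
  have h2 : a' * x ^ (1 + r) * a'⁻¹ = x ^ (1 + r) := by
    have h3 : a' * x ^ (1 + r) * a'⁻¹ = (a' * x * a'⁻¹) * (a' * x ^ r * a'⁻¹) := by
      rw [zpow_add, zpow_one]; group
    rw [h3, h1, ← hr, ← zpow_add_one, add_comm]
  have h4 : x ^ (2 * (1 + r)) = 1 := by
    have h5 : x ^ (1 + r) ∈ A := by
      rw [hA, mem_centralizer_singleton_iff]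
      exact (mul_inv_eq_iff_eq_mul.1 h2).symm
    have h6 : ∀ y ∈ A, y * y = 1 := by
      intro y hy
      have hy' : y ∈ (A : Set ↥R) := hy
      rw [hAset] at hy'
      simp only [Set.mem_insert_iff, Set.mem_singleton_iff] at hy'
      have hcc' : c' * c' = 1 := by rw [hc']; exact Subtype.ext hcc
      have hac' : c' * a' = a' * c' := by rw [hc', ha']; exact Subtype.ext hcac
      rcases hy' with rfl | rfl | rfl | rfl
      · exact mul_one 1
      · exact haa'
      · exact hcc'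
      · calc a' * c' * (a' * c') = a' * (c' * a') * c' := by group
          _ = a' * (a' * c') * c' := by rw [hac']
          _ = (a' * a') * (c' * c') := by group
          _ = 1 := by rw [haa', hcc', one_mul]
    rw [mul_comm, zpow_mul, zpow_two]
    exact h6 _ h5
  have h5 : ((2 : ℤ) ^ (m + 3)) ∣ 2 * (1 + r) := by
    have := orderOf_dvd_iff_zpow_eq_one.mpr h4
    rw [hxord] at this
    exact_mod_cast this
  have h6 : (2 : ℤ) ^ (m + 2) ∣ 1 + r := by
    obtain ⟨e, he⟩ := h5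
    refine ⟨e, ?_⟩
    have : (2 : ℤ) ^ (m + 3) = 2 * 2 ^ (m + 2) := by ring
    rw [this] at he
    linarith
  refine ⟨x, r, m, ha, x.2, haa, by rw [Subgroup.orderOf_coe]; exact hxord, ?_, h6, ?_⟩
  · have := congrArg Subtype.val hr
    rw [ha'] at this
    simpa using this.symm
  · intro y hy
    by_cases hyC : (⟨y, hy⟩ : ↥R) ∈ C
    · left
      rw [hCx] at hyC
      obtain ⟨k, hk⟩ := mem_zpowers_iff.1 hyC
      refine ⟨k, ?_⟩
      have := congrArg Subtype.val hk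
      simpa using this.symm
    · right
      have h7 : a'⁻¹ * ⟨y, hy⟩ ∈ C := by
        rw [mul_mem_iff_of_index_two hCidx]
        simp only [inv_mem_iff]
        exact ⟨fun h => absurd h haC, fun h => absurd h hyC⟩
      rw [hCx] at h7
      obtain ⟨k, hk⟩ := mem_zpowers_iff.1 h7
      refine ⟨k, ?_⟩
      have h8 := congrArg Subtype.val (eq_inv_mul_iff_mul_eq.1 hk)
      rw [ha'] at h8
      simpa using h8.symm

section

variable {R : Subgroup G} {a x : G} {r : ℤ} {m : ℕ}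

theorem MaxC.two_dvd (M : MaxC R a x r m) : x ^ (2 * (1 + r)) = 1 := by
  rw [← orderOf_dvd_iff_zpow_eq_one, M.ord]
  obtain ⟨e, he⟩ := M.r4
  refine ⟨e, ?_⟩
  push_cast
  rw [he]; ring

/-- `y x y⁻¹ = x ^ r` for `y ∈ R` outside `⟨x⟩` -/
theorem MaxC.act_out (M : MaxC R a x r m) (k : ℤ) : (a * x ^ k) * x * (a * x ^ k)⁻¹ = x ^ r := by
  rw [← M.act]
  have : x ^ k * x * (x ^ k)⁻¹ = x := by
    rw [(Commute.refl x).zpow_left k |>.eq, mul_inv_cancel_right]
  calc (a * x ^ k) * x * (a * x ^ k)⁻¹ = a * (x ^ k * x * (x ^ k)⁻¹) * a⁻¹ := by group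
    _ = _ := by rw [this]

theorem conj_zpow_exp {u x : G} {k : ℤ} (h : u * x * u⁻¹ = x ^ k) (i : ℤ) :
    u * x ^ i * u⁻¹ = x ^ (k * i) := by
  rw [zpow_mul, ← h, conj_zpow]

theorem MaxC.pow_out (M : MaxC R a x r m) (k : ℤ) : (a * x ^ k) ^ 4 = 1 := by
  have hai : a⁻¹ = a := inv_eq_of_mul_eq_one_left M.aa
  have h1 : a * x ^ k * a = x ^ (r * k) := by
    have := conj_zpow_exp M.act k
    rwa [hai] at this
  have h2 : (a * x ^ k) ^ 2 = x ^ ((1 + r) * k) := by
    calc (a * x ^ k) ^ 2 = (a * x ^ k * a) * x ^ k := by rw [pow_two]; group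
      _ = x ^ (r * k) * x ^ k := by rw [h1]
      _ = x ^ ((1 + r) * k) := by rw [← zpow_add]; congr 1; ring
  calc (a * x ^ k) ^ 4 = ((a * x ^ k) ^ 2) ^ 2 := by rw [← pow_mul]
    _ = (x ^ ((1 + r) * k)) ^ 2 := by rw [h2]
    _ = (x ^ (2 * (1 + r))) ^ k := by
        rw [← zpow_natCast, ← zpow_mul, ← zpow_mul]; congr 1; push_cast; ring
    _ = 1 := by rw [M.two_dvd, one_zpow]

theorem MaxC.x4 (M : MaxC R a x r m) : x ^ 4 ≠ 1 := by
  intro h
  have h1 := orderOf_dvd_of_pow_eq_one h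
  rw [M.ord] at h1
  have h2 := Nat.le_of_dvd (by norm_num) h1
  have h3 : 8 ≤ 2 ^ (m + 3) := by
    calc 8 = 2 ^ 3 := by norm_num
      _ ≤ 2 ^ (m + 3) := Nat.pow_le_pow_right (by norm_num) (by omega)
  omega

theorem MaxC.r_mod (M : MaxC R a x r m) : (4 : ℤ) ∣ 1 + r := by
  refine dvd_trans ?_ M.r4
  exact ⟨2 ^ m, by ring⟩

theorem MaxC.dvd_of_zpow (M : MaxC R a x r m) {k : ℤ} (h : x ^ k = 1) : (8 : ℤ) ∣ k := by
  have h1 := orderOf_dvd_iff_zpow_eq_one.mpr h
  rw [M.ord] at h1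
  refine dvd_trans ?_ h1
  exact ⟨2 ^ m, by push_cast; ring⟩

/-- `T ≤ N(R)` normalizes `⟨x⟩` -/
theorem MaxC.norm (M : MaxC R a x r m) {t : G} (ht : ∀ y ∈ R, t * y * t⁻¹ ∈ R) :
    ∃ k : ℤ, t * x * t⁻¹ = x ^ k := by
  rcases M.cov _ (ht x M.xR) with h | ⟨k, hk⟩
  · exact h
  · exfalso
    apply M.x4
    have h1 : (t * x * t⁻¹) ^ 4 = 1 := by rw [hk, M.pow_out]
    rw [conj_pow] at h1
    have h2 : t * x ^ 4 = t := by
      calc t * x ^ 4 = (t * x ^ 4 * t⁻¹) * t := by group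
        _ = t := by rw [h1, one_mul]
    exact mul_eq_left.1 h2

/-- fourth powers lie in `⟨x⟩` -/
theorem MaxC.pow_four (M : MaxC R a x r m) {t : G} (ht : ∀ y ∈ R, t * y * t⁻¹ ∈ R) (h4 : t ^ 4 ∈ R) :
    ∃ k : ℤ, t ^ 4 = x ^ k := by
  rcases M.cov _ h4 with h | ⟨j, hj⟩
  · exact h
  · exfalso
    obtain ⟨k, hk⟩ := M.norm ht
    have e : ∀ n : ℕ, t ^ n * x * (t ^ n)⁻¹ = x ^ (k ^ n) := by
      intro n
      induction n with
      | zero => simp
      | succ n ih =>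
        calc t ^ (n + 1) * x * (t ^ (n + 1))⁻¹ = t * (t ^ n * x * (t ^ n)⁻¹) * t⁻¹ := by
              rw [pow_succ']; group
          _ = t * x ^ (k ^ n) * t⁻¹ := by rw [ih]
          _ = x ^ (k * k ^ n) := conj_zpow_exp hk _
          _ = x ^ (k ^ (n + 1)) := by rw [pow_succ']
    have h1 := e 4
    rw [hj, M.act_out] at h1
    have h2 : x ^ (k ^ 4 - r) = 1 := by rw [zpow_sub, ← h1, mul_inv_cancel]
    have h3 := M.dvd_of_zpow h2
    have h5 := M.r_mod
    have h6 : (4 : ℤ) ∣ k ^ 4 + 1 := by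
      have h7 : (4 : ℤ) ∣ k ^ 4 - r := dvd_trans ⟨2, by norm_num⟩ h3
      have h8 := dvd_add h7 h5
      have h9 : k ^ 4 - r + (1 + r) = k ^ 4 + 1 := by ring
      rwa [h9] at h8
    have h7 : k ^ 4 % 4 = 0 ∨ k ^ 4 % 4 = 1 := by
      have h8 : k % 4 = 0 ∨ k % 4 = 1 ∨ k % 4 = 2 ∨ k % 4 = 3 := by omega
      rcases h8 with h8 | h8 | h8 | h8 <;> simp [pow_succ, Int.mul_emod, h8]
    omega

/-- the involution of `⟨x⟩` -/
theorem MaxC.inv_eq (M : MaxC R a x r m) {y : G} (hy : ∃ k : ℤ, y = x ^ k) (hyy : y * y = 1) (hy1 : y ≠ 1) :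
    y = x ^ (2 ^ (m + 2) : ℤ) := by
  obtain ⟨k, rfl⟩ := hy
  rw [← zpow_add] at hyy
  have h1 := orderOf_dvd_iff_zpow_eq_one.mpr hyy
  rw [M.ord] at h1
  have h2 : ((2 : ℤ) ^ (m + 2)) ∣ k := by
    obtain ⟨c, hc⟩ := h1
    refine ⟨c, ?_⟩
    have : ((2 ^ (m + 3) : ℕ) : ℤ) = 2 * 2 ^ (m + 2) := by push_cast; ring
    rw [this] at hc
    linarith
  obtain ⟨c, rfl⟩ := h2
  rcases Int.even_or_odd c with ⟨d, hd⟩ | ⟨d, hd⟩
  · exfalso
    apply hy1
    rw [← orderOf_dvd_iff_zpow_eq_one, M.ord, hd]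
    push_cast
    exact ⟨d, by ring⟩
  · rw [zpow_eq_zpow_iff_modEq, M.ord, hd]
    push_cast
    exact (Int.modEq_iff_dvd.mpr ⟨-d, by ring⟩)

/-- `⟨x⟩` has index at most 2: `R` has sectional rank at most 2 -/
theorem MaxC.rank [Finite G] (M : MaxC R a x r m) : SectionalPRankLE 2 2 R := by
  obtain ⟨x', hx'⟩ : ∃ x' : ↥R, x' = ⟨x, M.xR⟩ := ⟨_, rfl⟩
  have h1 : (zpowers x').index ≤ 2 ^ 1 := by
    rw [index_eq_card]
    have h2 : Function.Surjective (fun b : Bool => (QuotientGroup.mk (bif b then ⟨a, M.aR⟩ else 1) :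
        ↥R ⧸ zpowers x')) := by
      intro q
      obtain ⟨⟨y, hy⟩, rfl⟩ := QuotientGroup.mk_surjective q
      rcases M.cov y hy with ⟨k, hk⟩ | ⟨k, hk⟩
      · refine ⟨false, ?_⟩
        change (QuotientGroup.mk (1 : ↥R) : ↥R ⧸ zpowers x') = _
        rw [QuotientGroup.eq, inv_one, one_mul, hx', mem_zpowers_iff]
        exact ⟨k, Subtype.ext (by simp [hk])⟩
      · refine ⟨true, ?_⟩
        change (QuotientGroup.mk (⟨a, M.aR⟩ : ↥R) : ↥R ⧸ zpowers x') = _
        rw [QuotientGroup.eq, hx', mem_zpowers_iff]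
        exact ⟨k, Subtype.ext (by simp [hk])⟩
    have h3 := Nat.card_le_card_of_surjective _ h2
    have h4 : Nat.card Bool = 2 := by simp
    rw [h4] at h3
    simpa using h3
  have h2 := sectionalPRankLE_of_cyclic (p := 2) (k := 1) (by norm_num) (zpowers x') h1
  exact h2

end

/-- `(p r) ^ n ∈ p ^ n R` -/
theorem mul_pow_mem {R : Subgroup G} {p r : G} (hp : ∀ y ∈ R, p⁻¹ * y * p ∈ R) (hr : r ∈ R) (n : ℕ) :
    ∃ s ∈ R, (p * r) ^ n = p ^ n * s := by
  have h1 : ∀ n : ℕ, ∀ y ∈ R, (p ^ n)⁻¹ * y * p ^ n ∈ R := by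
    intro n
    induction n with
    | zero => intro y hy; simpa using hy
    | succ n ih =>
      intro y hy
      have h2 := ih _ (hp y hy)
      have h3 : (p ^ (n + 1))⁻¹ * y * p ^ (n + 1) = (p ^ n)⁻¹ * (p⁻¹ * y * p) * p ^ n := by
        rw [pow_succ']; group
      rw [h3]; exact h2
  induction n with
  | zero => exact ⟨1, R.one_mem, by simp⟩
  | succ n ih =>
    obtain ⟨s, hs, h2⟩ := ih
    refine ⟨(p⁻¹ * s * p) * r, R.mul_mem (hp s hs) hr, ?_⟩
    rw [pow_succ, h2, pow_succ]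
    group

/-- the rank of `T = P R` -/
theorem rank_ext [Finite G] {T P R : Subgroup G} (hRT : R ≤ T) (hn : ∀ t ∈ T, ∀ y ∈ R, t * y * t⁻¹ ∈ R)
    (hPT : P ≤ T) (hsup : ∀ t ∈ T, ∃ p ∈ P, ∃ y ∈ R, t = p * y) {i j : ℕ} (hR : SectionalPRankLE 2 i R)
    (hP : SectionalPRankLE 2 j P) : SectionalPRankLE 2 (i + j) T := by
  have hnor : (R.subgroupOf T).Normal := ⟨fun y hy t => hn t t.2 y hy⟩
  refine GH.Rank.of_normal (R.subgroupOf T) ?_ ?_
  · exact GH.Rank.of_equiv hR (subgroupOfEquivOfLe hRT).symm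
  · refine GH.Rank.of_surjective hP
      ((QuotientGroup.mk' (R.subgroupOf T)).comp (inclusion hPT)) ?_
    intro q
    obtain ⟨⟨t, ht⟩, rfl⟩ := QuotientGroup.mk_surjective q
    obtain ⟨p, hp, y, hy, rfl⟩ := hsup t ht
    refine ⟨⟨p, hp⟩, ?_⟩
    change (QuotientGroup.mk (⟨p, hPT hp⟩ : ↥T) : ↥T ⧸ R.subgroupOf T) = _
    rw [QuotientGroup.eq, mem_subgroupOf]
    change p⁻¹ * (p * y) ∈ R
    rw [inv_mul_cancel_left]
    exact hy

/-- **`T = P R ∈ Syl₂(C(c))`, `R` normal of maximal class of order at least 16: sectional rank at most 4.** -/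
theorem rank_of_max [Finite G] {T P R : Subgroup G} {a c : G} (hT : IsSyl (centralizer ({c} : Set G)) T)
    (hRT : R ≤ T) (hn : ∀ t ∈ T, ∀ y ∈ R, t * y * t⁻¹ ∈ R) (hPT : P ≤ T)
    (hsup : ∀ t ∈ T, ∃ p ∈ P, ∃ y ∈ R, t = p * y) (hP4 : ∀ p ∈ P, p ^ 4 ∈ R)
    (hP : SectionalPRankLE 2 2 P) (ha : a ∈ R) (haa : a * a = 1) (ha1 : a ≠ 1) (hc : c ∈ R)
    (hcc : c * c = 1) (hc1 : c ≠ 1) (hca : c ≠ a)
    (hcen : ∀ r ∈ R, r * a = a * r → r = 1 ∨ r = a ∨ r = c ∨ r = a * c) (h8 : 8 < Nat.card R) :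
    SectionalPRankLE 2 4 G := by
  have : Fact (Nat.Prime 2) := ⟨Nat.prime_two⟩
  have hcT : ∀ t ∈ T, c * t = t * c := fun t ht => (mem_centralizer_singleton_iff.1 (hT.le ht)).symm
  have hR2 : IsPGroup 2 ↥R := hT.two.to_le hRT
  obtain ⟨x, r, m, M⟩ := exists_maxC hR2 ha haa ha1 hc hcc hc1 hca (hcT a (hRT ha)) hcen h8
  have h4 : ∀ t ∈ T, t ^ 4 ∈ R := by
    intro t ht
    obtain ⟨p, hp, y, hy, rfl⟩ := hsup t ht
    obtain ⟨s, hs, h1⟩ := mul_pow_mem (R := R) (p := p) (r := y) (fun w hw => by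
      have := hn p⁻¹ (T.inv_mem (hPT hp)) w hw
      rwa [inv_inv] at this) hy 4
    rw [h1]
    exact R.mul_mem (hP4 p hp) hs
  -- `c ∈ ⟨x⟩`
  have hcx : ∃ k : ℤ, c = x ^ k := by
    rcases M.cov c hc with h | ⟨k, hk⟩
    · exact h
    · exfalso
      have h1 := M.act_out k
      rw [← hk, hcT x (hRT M.xR), mul_inv_cancel_right] at h1
      have h2 : x ^ (1 - r) = 1 := by rw [zpow_sub, zpow_one, ← h1, mul_inv_cancel]
      have h3 := M.dvd_of_zpow h2
      have h5 := M.r_mod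
      omega
  have hc' := M.inv_eq hcx hcc hc1
  have hfix : ∀ g : G, (∀ t ∈ T, g * t * g⁻¹ ∈ T) → g * c * g⁻¹ = c := by
    intro g hg
    obtain ⟨y, hy⟩ : ∃ y, y = x ^ (2 ^ m : ℤ) := ⟨_, rfl⟩
    have hyT : y ∈ T := hy ▸ hRT (R.zpow_mem M.xR _)
    have hyc : y ^ 4 = c := by
      rw [hc', hy, ← zpow_natCast, ← zpow_mul]
      congr 1
      push_cast
      ring
    have h1 : (g * y * g⁻¹) ^ 4 = g * c * g⁻¹ := by rw [conj_pow, hyc]
    have h2 := M.pow_four (t := g * y * g⁻¹) (hn _ (hg y hyT)) (h4 _ (hg y hyT))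
    rw [h1] at h2
    rw [hc']
    rw [hc'] at h2
    refine M.inv_eq h2 ?_ ?_
    · rw [← hc']
      calc g * c * g⁻¹ * (g * c * g⁻¹) = g * (c * c) * g⁻¹ := by group
        _ = 1 := by rw [hcc]; group
    · rw [← hc']
      intro h5
      apply hc1
      have h6 : g * c = g := by
        calc g * c = (g * c * g⁻¹) * g := by group
          _ = g := by rw [h5, one_mul]
      exact mul_eq_left.1 h6
  obtain ⟨S, hTS⟩ := exists_sylow_ge hT.two
  apply sectionalPRankLE_of_sylow S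
  rw [sylow_of_fix hT hfix S hTS]
  exact rank_ext hRT hn hPT hsup M.rank hP

/-- **Lemma D3**: `T = P × R ∈ Syl₂(C(c))`, `P` nonabelian of order 8, `|C_R(a)| = 4`, `R` nonabelian. -/
theorem rank_of_D3 [Finite G] {T P R : Subgroup G} {z a c : G} (hT : IsSyl (centralizer ({c} : Set G)) T)
    (hP : EightS P z) (h : TwoP T P R) (ha : a ∈ R) (haa : a * a = 1) (ha1 : a ≠ 1) (hc : c ∈ R)
    (hcc : c * c = 1) (hc1 : c ≠ 1) (hca : c ≠ a)
    (hcen : ∀ r ∈ R, r * a = a * r → r = 1 ∨ r = a ∨ r = c ∨ r = a * c) (hna : ∃ r ∈ R, r * a ≠ a * r) :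
    SectionalPRankLE 2 4 G := by
  have : Fact (Nat.Prime 2) := ⟨Nat.prime_two⟩
  have hcT : ∀ t ∈ T, c * t = t * c := fun t ht => (mem_centralizer_singleton_iff.1 (hT.le ht)).symm
  by_cases h8 : 8 < Nat.card R
  · refine rank_of_max hT h.RT ?_ h.PT h.sup ?_ hP.rank ha haa ha1 hc hcc hc1 hca hcen h8
    · intro t ht y hy
      obtain ⟨p, hp, r, hr, rfl⟩ := h.sup t ht
      have h1 : p * r * y * (p * r)⁻¹ = p * (r * y * r⁻¹) * p⁻¹ := by group
      rw [h1, h.comm p hp _ (R.mul_mem (R.mul_mem hr hy) (R.inv_mem hr)), mul_inv_cancel_right]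
      exact R.mul_mem (R.mul_mem hr hy) (R.inv_mem hr)
    · intro p hp
      have h1 : p ^ 4 = (p * p) * (p * p) := by rw [pow_succ, pow_succ, pow_two]; group
      rw [h1]
      rcases hP.pow p hp with h2 | h2
      · rw [h2, one_mul]; exact R.one_mem
      · rw [h2, hP.sq]; exact R.one_mem
  · obtain ⟨r, hr, hra⟩ := hna
    have hcard : Nat.card R = 8 := by
      obtain ⟨n, hn⟩ := IsPGroup.iff_card.mp (hT.two.to_le h.RT)
      have h1 : n ≤ 3 := by
        by_contra hlt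
        apply h8
        rw [hn]
        calc 8 < 2 ^ 4 := by norm_num
          _ ≤ 2 ^ n := Nat.pow_le_pow_right (by norm_num) (by omega)
      have h2 : n ≠ 0 ∧ n ≠ 1 ∧ n ≠ 2 := by
        have key : ∀ k, k ≤ 2 → n ≠ k := by
          intro k hk hnk
          apply hra
          have h3 : IsMulCommutative ↥R := by
            rw [hnk] at hn
            interval_cases k
            · have : Subsingleton ↥R := (Nat.card_eq_one_iff_unique.1 (by simpa using hn)).1
              exact ⟨⟨fun u v => Subsingleton.elim _ _⟩⟩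
            · have hcy : IsCyclic ↥R := isCyclic_of_prime_card (p := 2) (by simpa using hn)
              exact hcy.isMulCommutative
            · exact IsPGroup.isMulCommutative_of_card_eq_prime_sq hn
          exact congrArg Subtype.val (h3.is_comm.comm (⟨r, hr⟩ : ↥R) ⟨a, ha⟩)
        exact ⟨key 0 (by norm_num), key 1 (by norm_num), key 2 (by norm_num)⟩
      have h3 : n = 3 := by omega
      rw [hn, h3]; norm_num
    obtain ⟨c', hR⟩ := exists_eightS hcard ⟨r, hr, a, ha, hra⟩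
    have h1 : c = c' := by
      rcases hR.cen' c hc (fun q hq => hcT q (h.RT hq)) with h2 | h2
      · exact absurd h2 hc1
      · exact h2
    rw [← h1] at hR
    exact rank_of_eight hP hR h hT

end Cfsg.Agent.UGT.A7
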