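import Cfsg.Agent.UAlt.Root

/-!
# Inner unbalancing triples of type `A₇`: the `μ`-argument

Section (1) of the `A₇` branch of the Unbalanced Group Theorem.
-/

set_option autoImplicit false
set_option linter.unusedSectionVars false

open Cfsg Subgroup Equiv Equiv.Perm
open Cfsg.Agent.UAlt
open Cfsg.Agent.SignalizersComponents Cfsg.Agent.Lib
open Cfsg.Agent.SignalizersComponents.IntrinsicBasic
open Cfsg.Agent.Intrinsic.Basic Cfsg.Agent.Intrinsic.Cen Cfsg.Agent.Intrinsic.Diag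
open Cfsg.Agent.McLLyComp.Act
open Cfsg.Agent.UGT.Triple Cfsg.Agent.UGT.PumpGen
open Cfsg.Agent.StdAlt (V4 four4 mem_four4)
open scoped commutatorElement

namespace Cfsg.Agent.UGT.A7.Mu

/-! ### permutations of seven points -/

/-- every permutation of order `≤ 2` of 7 points centralizes a regular four-group of four points -/
theorem exists_V4_comm (σ : Perm (Fin 7)) (hσ : σ * σ = 1) :
    ∃ a b c d : Fin 7, [a, b, c, d].Nodup ∧ ∀ τ, V4 a b c d τ → σ * τ = τ * σ := by
  have h2 : ∀ i, σ (σ i) = i := fun i => by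
    have := congrArg (fun z : Perm (Fin 7) => z i) hσ
    simpa using this
  -- the fixed points
  by_cases h4 : 4 ≤ (fixIn Finset.univ σ).card
  · obtain ⟨F, hF, hF4⟩ := Finset.exists_subset_card_eq h4
    obtain ⟨a, b, c, d, hab, hac, had, hbc, hbd, hcd, rfl⟩ := Finset.card_eq_four.mp hF4
    have hnd : [a, b, c, d].Nodup := StdAlt.PermTypes.nodup_four hab hac had hbc hbd hcd
    refine ⟨a, b, c, d, hnd, fun τ hτ => ?_⟩
    symm
    apply comm_of_mem_sym_fixIn (S := Finset.univ)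
    intro x hx
    apply hτ.fix
    intro hx'
    apply hx
    apply hF
    rcases mem_four4.mp hx' with rfl | rfl | rfl | rfl <;> simp
  · -- two cycles
    have h5 : 4 ≤ (Finset.univ.filter fun i => σ i ≠ i).card := by
      have h6 := Finset.card_filter_add_card_filter_not (s := (Finset.univ : Finset (Fin 7)))
        (p := fun i => σ i = i)
      rw [Finset.card_univ, Fintype.card_fin] at h6
      have h7 : (fixIn Finset.univ σ).card = (Finset.univ.filter fun i => σ i = i).card := rfl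
      have h8 : (Finset.univ.filter fun i => ¬ σ i = i).card =
        (Finset.univ.filter fun i => σ i ≠ i).card := rfl
      omega
    obtain ⟨a, ha⟩ : ∃ a, σ a ≠ a := by
      have : 0 < (Finset.univ.filter fun i => σ i ≠ i).card := by omega
      obtain ⟨a, ha⟩ := Finset.card_pos.mp this
      exact ⟨a, (Finset.mem_filter.mp ha).2⟩
    obtain ⟨c, hc, hca, hcb⟩ : ∃ c, σ c ≠ c ∧ c ≠ a ∧ c ≠ σ a := by
      have h1 : 0 < (((Finset.univ.filter fun i => σ i ≠ i).erase a).erase (σ a)).card := by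
        have h2 := Finset.pred_card_le_card_erase (s := Finset.univ.filter fun i => σ i ≠ i) (a := a)
        have h3 := Finset.pred_card_le_card_erase
          (s := (Finset.univ.filter fun i => σ i ≠ i).erase a) (a := σ a)
        omega
      obtain ⟨c, hc⟩ := Finset.card_pos.mp h1
      simp only [Finset.mem_erase, Finset.mem_filter] at hc
      exact ⟨c, hc.2.2.2, hc.2.1, hc.1⟩
    have hda : σ c ≠ a := fun e => hcb (by rw [← e, h2])
    have hdb : σ c ≠ σ a := fun e => hca (σ.injective e)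
    have hnd : [a, σ a, c, σ c].Nodup :=
      StdAlt.PermTypes.nodup_four ha.symm hca.symm hda.symm hcb.symm hdb.symm hc.symm
    refine ⟨a, σ a, c, σ c, hnd, fun τ hτ => ?_⟩
    obtain ⟨⟨m1, m2, m3⟩, ⟨m4, m5⟩, m6⟩ := StdAlt.PermTypes.of_nodup_four hnd
    set ρ := swap a (σ a) * swap c (σ c) with hρ
    have hfix : ∀ x, x ∈ four4 a (σ a) c (σ c) → (ρ⁻¹ * σ) x = x := by
      intro x hx
      rw [Perm.mul_apply, Perm.inv_eq_iff_eq, hρ, Perm.mul_apply]
      rcases mem_four4.mp hx with h1 | h1 | h1 | h1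
      · rw [h1, swap_apply_of_ne_of_ne m2 m3, swap_apply_left]
      · rw [h1, h2, swap_apply_of_ne_of_ne m4 m5, swap_apply_right]
      · rw [h1, swap_apply_left, swap_apply_of_ne_of_ne m3.symm m5.symm]
      · rw [h1, h2, swap_apply_right, swap_apply_of_ne_of_ne m2.symm m4.symm]
    have h6 : τ * (ρ⁻¹ * σ) = (ρ⁻¹ * σ) * τ := by
      apply comm_of_mem_sym_fixIn (S := Finset.univ)
      intro x hx
      apply hτ.fix
      intro hx'
      exact hx (mem_fixIn.mpr ⟨Finset.mem_univ _, hfix x hx'⟩)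
    have h7 : ρ * τ = τ * ρ := ((StdAlt.V4.comm hnd hτ).1).symm
    have h8 : σ = ρ * (ρ⁻¹ * σ) := by group
    rw [h8, mul_assoc, ← h6, ← mul_assoc, h7, mul_assoc]

/-! ### definitions -/

section defs

variable {G : Type*} [Group G]

/-- labellings of `L / O(L)` by `A₇` -/
abbrev M7 (L : Subgroup G) := Mod (α := Fin 7) L Finset.univ

/-- `L / O(L) ≅ A₇` -/
def IsA7 (L : Subgroup G) : Prop := Nonempty (M7 L)

/-- inner unbalancing triples of type `A₇` -/
structure T7 (x a : G) (L : Subgroup G) : Prop where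
  tri : IsTriple x a L
  a7 : IsA7 L
  inn : ∃ r ∈ L, Fixes (x * r⁻¹) L

/-- the centralizer of `a`, `x` and `L / O(L)` -/
def FF (x a : G) (L : Subgroup G) : Subgroup G where
  carrier := {g | g * a = a * g ∧ g * x = x * g ∧ Fixes g L}
  mul_mem' := by
    rintro g h ⟨h1, h2, h3⟩ ⟨h4, h5, h6⟩
    refine ⟨?_, ?_, fixes_mul h3 h6⟩
    · rw [mul_assoc, h4, ← mul_assoc, h1, mul_assoc]
    · rw [mul_assoc, h5, ← mul_assoc, h2, mul_assoc]
  one_mem' := ⟨by rw [one_mul, mul_one], by rw [one_mul, mul_one], fixes_one L⟩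
  inv_mem' := by
    rintro g ⟨h1, h2, h3⟩
    refine ⟨?_, ?_, fixes_inv h3⟩
    · rw [inv_mul_eq_iff_eq_mul, ← mul_assoc, h1, mul_inv_cancel_right]
    · rw [inv_mul_eq_iff_eq_mul, ← mul_assoc, h2, mul_inv_cancel_right]

theorem mem_FF {x a g : G} {L : Subgroup G} :
    g ∈ FF x a L ↔ g * a = a * g ∧ g * x = x * g ∧ Fixes g L := Iff.rfl

/-- inner triples of type `A₇` have pump-ups of type `A₇` (existential form) -/
def Pump7 (G : Type*) [Group G] : Prop :=
  ∀ (x a c : G) (L : Subgroup G), T7 x a L → orderOf c = 2 → c * a = a * c → c * x = x * c →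
    Fixes c L → ∃ N : Subgroup G, IsTriple x c N ∧ IsA7 N ∧
    ((a ∈ normalizer (N : Set G) ∧ cen L c ≤ N) ∨
      (IntrinsicBasic.cj a N ≠ N ∧ cen L c = diag (centralizer ({c} : Set G)) N a))

/-- **(β')** for the special triples (`x ∈ L ∪ aL`): a Sylow 2-subgroup `Q` of the centralizer of
`x`, `a`, `L / O(L)` has one involution, or is a four-group acting faithfully as a regular four-group on
`K / O(K) ≅ A₇` for some triple `(x, v, K)`, `v ∈ xQ`. -/
def BetaP (G : Type*) [Group G] : Prop :=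
  ∀ (x a : G) (L Q : Subgroup G), T7 x a L → (x ∈ L ∨ x * a ∈ L) → IsPGroup 2 Q → Q ≤ FF x a L →
    (∀ R : Subgroup G, Q ≤ R → IsPGroup 2 R → R ≤ FF x a L → R = Q) →
    (∀ g ∈ Q, g * g = 1 → g = 1 ∨ g = a) ∨
    (Nat.card Q = 4 ∧ (∀ g ∈ Q, g * g = 1) ∧
      ∃ (v : G) (K : Subgroup G) (M : M7 K), (∃ r ∈ Q, v = x * r) ∧ T7 x v K ∧
        ∀ g ∈ Q, g ≠ 1 → g ∈ normalizer (K : Set G) ∧
          ∀ i : Fin 7, M.φ g i = i ↔ i ∈ ({4, 5, 6} : Finset (Fin 7)))

end defs

/-! ### elementary abelian groups -/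

section elem

variable {G : Type*} [Group G]

theorem isPGroup_of_sq {E : Subgroup G} (h : ∀ e ∈ E, e * e = 1) : IsPGroup 2 E := by
  rintro ⟨e, he⟩
  exact ⟨1, Subtype.ext (by show e ^ 2 ^ 1 = 1; rw [pow_one, pow_two]; exact h e he)⟩

/-- the product of two commuting elementary abelian groups with trivial intersection -/
theorem exists_prod {A B : Subgroup G} (hA : ∀ a ∈ A, a * a = 1) (hB : ∀ b ∈ B, b * b = 1)
    (hAB : ∀ a ∈ A, ∀ b ∈ B, a * b = b * a) (hd : ∀ g ∈ A, g ∈ B → g = 1) :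
    ∃ E : Subgroup G, (∀ g, g ∈ E ↔ ∃ a ∈ A, ∃ b ∈ B, g = a * b) ∧ (∀ g ∈ E, g * g = 1) ∧
      Nat.card E = Nat.card A * Nat.card B := by
  have hinvA : ∀ a ∈ A, a⁻¹ = a := fun a ha => inv_eq_of_mul_eq_one_left (hA a ha)
  have hinvB : ∀ a ∈ B, a⁻¹ = a := fun a ha => inv_eq_of_mul_eq_one_left (hB a ha)
  let E : Subgroup G :=
    { carrier := {g | ∃ a ∈ A, ∃ b ∈ B, g = a * b}
      mul_mem' := by
        rintro _ _ ⟨a, ha, b, hb, rfl⟩ ⟨a', ha', b', hb', rfl⟩
        refine ⟨a * a', mul_mem ha ha', b * b', mul_mem hb hb', ?_⟩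
        calc a * b * (a' * b') = a * (b * a') * b' := by group
          _ = a * (a' * b) * b' := by rw [hAB a' ha' b hb]
          _ = _ := by group
      one_mem' := ⟨1, one_mem _, 1, one_mem _, by rw [mul_one]⟩
      inv_mem' := by
        rintro _ ⟨a, ha, b, hb, rfl⟩
        refine ⟨a, ha, b, hb, ?_⟩
        rw [mul_inv_rev, hinvA a ha, hinvB b hb, hAB a ha b hb] }
  refine ⟨E, fun g => Iff.rfl, ?_, ?_⟩
  · rintro _ ⟨a, ha, b, hb, rfl⟩
    calc a * b * (a * b) = a * (b * a) * b := by group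
      _ = a * (a * b) * b := by rw [hAB a ha b hb]
      _ = (a * a) * (b * b) := by group
      _ = 1 := by rw [hA a ha, hB b hb, one_mul]
  · rw [← Nat.card_prod]
    refine (Nat.card_congr (Equiv.ofBijective
      (fun p : A × B => (⟨(p.1 : G) * p.2, p.1, p.1.2, p.2, p.2.2, rfl⟩ : E)) ⟨?_, ?_⟩)).symm
    · rintro ⟨⟨a, ha⟩, ⟨b, hb⟩⟩ ⟨⟨a', ha'⟩, ⟨b', hb'⟩⟩ h
      have h1 : a * b = a' * b' := congrArg Subtype.val h
      have h2 : a'⁻¹ * a = b' * b⁻¹ := by
        rw [inv_mul_eq_iff_eq_mul, ← mul_assoc, ← h1, mul_inv_cancel_right]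
      have h3 : a'⁻¹ * a = 1 := by
        apply hd _ (mul_mem (inv_mem ha') ha)
        rw [h2]
        exact mul_mem hb' (inv_mem hb)
      have h4 : b' * b⁻¹ = 1 := by rw [← h2, h3]
      have h5 : a' = a := inv_mul_eq_one.mp h3
      have h6 : b' = b := mul_inv_eq_one.mp h4
      subst h5 h6
      rfl
    · rintro ⟨_, a, ha, b, hb, rfl⟩
      exact ⟨(⟨a, ha⟩, ⟨b, hb⟩), rfl⟩

/-- the group `{1, u}` -/
theorem exists_two {u : G} (hu : u * u = 1) (hu1 : u ≠ 1) :
    ∃ B : Subgroup G, (∀ g, g ∈ B ↔ g = 1 ∨ g = u) ∧ Nat.card B = 2 := by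
  have h1 : ∀ g, g ∈ zpowers u ↔ g = 1 ∨ g = u := by
    intro g
    constructor
    · rintro ⟨n, rfl⟩
      rcases Int.even_or_odd' n with ⟨k, rfl | rfl⟩
      · left
        change u ^ (2 * k) = 1
        rw [zpow_mul, zpow_ofNat, pow_two, hu, one_zpow]
      · right
        change u ^ (2 * k + 1) = u
        rw [zpow_add, zpow_mul, zpow_ofNat, pow_two, hu, one_zpow, one_mul, zpow_one]
    · rintro (rfl | rfl)
      · exact one_mem _
      · exact mem_zpowers _
  refine ⟨zpowers u, h1, ?_⟩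
  rw [Nat.card_zpowers]
  exact orderOf_eq_prime (by rw [pow_two, hu]) hu1

/-- adjoining an involution -/
theorem exists_adjoin {E : Subgroup G} (hE : ∀ e ∈ E, e * e = 1) {u : G} (hu : u * u = 1)
    (huE : u ∉ E) (hc : ∀ e ∈ E, e * u = u * e) :
    ∃ E' : Subgroup G, E ≤ E' ∧ u ∈ E' ∧ (∀ g ∈ E', g ∈ E ∨ g * u ∈ E) ∧ (∀ g ∈ E', g * g = 1) ∧
      Nat.card E' = Nat.card E * 2 := by
  have hu1 : u ≠ 1 := fun h => huE (h ▸ one_mem _)
  obtain ⟨B, hB, hB2⟩ := exists_two hu hu1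
  obtain ⟨E', h1, h2, h3⟩ := exists_prod (A := E) (B := B) hE (by
      intro b hb
      rcases (hB b).mp hb with rfl | rfl
      · rw [one_mul]
      · exact hu) (by
      intro a ha b hb
      rcases (hB b).mp hb with rfl | rfl
      · rw [one_mul, mul_one]
      · exact hc a ha) (by
      intro g hg hgB
      rcases (hB g).mp hgB with rfl | rfl
      · rfl
      · exact absurd hg huE)
  refine ⟨E', fun e he => (h1 e).mpr ⟨e, he, 1, one_mem _, (mul_one e).symm⟩,
    (h1 u).mpr ⟨1, one_mem _, u, (hB u).mpr (Or.inr rfl), (one_mul u).symm⟩, ?_, h2, by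
      rw [h3, hB2]⟩
  intro g hg
  obtain ⟨e, he, b, hb, rfl⟩ := (h1 g).mp hg
  rcases (hB b).mp hb with rfl | rfl
  · left; rwa [mul_one]
  · right; rwa [mul_assoc, hu, mul_one]

end elem

/-! ### basic facts -/

section basic

variable {G : Type*} [Group G] [Finite G] {x a c : G} {L N : Subgroup G}

theorem T7.xx (T : T7 x a L) : x * x = 1 := sq_of_order T.tri.invx

theorem T7.aa (T : T7 x a L) : a * a = 1 := sq_of_order T.tri.inva

theorem T7.ax (T : T7 x a L) : a * x = x * a := T.tri.comm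

theorem T7.fixes_a (T : T7 x a L) : Fixes a L := by
  refine ⟨?_, fun y hy => ?_⟩
  · rw [_root_.Subgroup.mem_normalizer_iff]
    intro y
    constructor
    · intro hy
      have h1 : y * a = a * y := comm_c (T.tri.comp.le hy)
      rw [← h1, mul_inv_cancel_right]
      exact hy
    · intro hy
      have h1 : a * y * a⁻¹ * a = a * (a * y * a⁻¹) := comm_c (T.tri.comp.le hy)
      have h2 : y * a⁻¹ = a * y * a⁻¹ * a⁻¹ := by
        calc y * a⁻¹ = a⁻¹ * (a * y * a⁻¹) := by group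
          _ = a⁻¹ * (a * (a * y * a⁻¹)) * a⁻¹ := by rw [← h1]; group
          _ = _ := by group
      have h3 : y = a * y * a⁻¹ := by
        have := congrArg (· * a) h2
        simpa [mul_assoc] using this
      rwa [← h3] at hy
  · have h1 : y * a = a * y := comm_c (T.tri.comp.le hy)
    rw [commutatorElement_def, ← h1, mul_inv_cancel_right, mul_inv_cancel]
    exact one_mem _

theorem T7.a_mem (T : T7 x a L) : a ∈ FF x a L := ⟨rfl, T.ax, T.fixes_a⟩

theorem T7.φ_mem (T : T7 x a L) (M : M7 L) : M.φ x ∈ alt (Finset.univ : Finset (Fin 7)) := by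
  obtain ⟨r, hr, hf⟩ := T.inn
  have h1 : M.φ (x * r⁻¹) = 1 := (M.fixes_iff hf.1).mpr hf
  rw [M.mul _ _ T.tri.x_mem (inv_mem (le_normalizer hr)), M.inv (le_normalizer hr),
    mul_inv_eq_one] at h1
  rw [h1]
  exact M.mem_alt r hr

theorem T7.φ_ne (T : T7 x a L) (M : M7 L) : M.φ x ≠ 1 := fun h =>
  T.tri.not_fixes ((M.fixes_iff T.tri.x_mem).mp h)

/-- `x ↦ l ∈ L`, commuting with a 2-group `E ≤ N(L) ∩ C(x)` -/
theorem T7.exists_l (T : T7 x a L) (M : M7 L) {E : Subgroup G} (hE : IsPGroup 2 E)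
    (hEL : E ≤ normalizer (L : Set G)) (hEx : ∀ e ∈ E, e * x = x * e) :
    ∃ l ∈ L, l * l = 1 ∧ l * x = x * l ∧ (∀ e ∈ E, l * e = e * l) ∧ M.φ l = M.φ x := by
  have hx2 := T.xx
  have hxN := T.tri.x_mem
  have hxp : IsPGroup 2 (zpowers x) := BalanceAux.isPGroup_zpowers_of_orderOf (by
    rw [T.tri.invx])
  have hn : E ≤ normalizer (zpowers x : Set G) := by
    intro e he
    rw [mem_normalizer_iff_cj]
    have : IntrinsicBasic.cj e (zpowers x) = zpowers (e * x * e⁻¹) := by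
      rw [IntrinsicBasic.cj_def]
      exact MonoidHom.map_zpowers _ _
    rw [this, hEx e he, mul_inv_cancel_right]
  have hP : IsPGroup 2 (E ⊔ zpowers x : Subgroup G) := IsPGroup.to_sup_of_normal_right' hE hxp hn
  have hPN : E ⊔ zpowers x ≤ normalizer (L : Set G) := sup_le hEL (by rwa [zpowers_le])
  have hPx : ∀ p ∈ E ⊔ zpowers x, p * x = x * p := by
    have : E ⊔ zpowers x ≤ centralizer ({x} : Set G) := by
      refine sup_le (fun e he => mem_c (hEx e he)) ?_
      rw [zpowers_le]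
      exact mem_c rfl
    exact fun p hp => comm_c (this hp)
  obtain ⟨Q, h1, h2, h3, h4, h5, h6⟩ := M.exists_group_lift hP hPN
    (Q₀ := zpowers (M.φ x)) (by
      rintro ⟨σ, hσ⟩
      obtain ⟨n, rfl⟩ := mem_zpowers_iff.mp hσ
      refine ⟨1, Subtype.ext ?_⟩
      show (M.φ x ^ n) ^ 2 ^ 1 = 1
      rw [pow_one, ← zpow_natCast, ← zpow_mul, mul_comm, zpow_mul, zpow_natCast, pow_two,
        M.sq hxN hx2, one_zpow]) (by
      rw [zpowers_le]; exact T.φ_mem M) (by
      intro p hp σ hσ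
      obtain ⟨n, rfl⟩ := mem_zpowers_iff.mp hσ
      have h7 : Commute (M.φ p) (M.φ x) := M.comm (hPN hp) hxN (hPx p hp)
      exact (h7.zpow_right n))
  obtain ⟨l, hl, hlx⟩ := h5 _ (mem_zpowers (M.φ x))
  refine ⟨l, h1 hl, ?_, h3 l hl x (mem_sup_right (mem_zpowers x)),
    fun e he => h3 l hl e (mem_sup_left he), hlx⟩
  apply h6 _ (mul_mem hl hl)
  rw [M.mul _ _ (le_normalizer (h1 hl)) (le_normalizer (h1 hl)), hlx, M.sq hxN hx2]

/-- the element `q = x l` -/
theorem T7.q_mem (T : T7 x a L) (M : M7 L) {l : G} (hl : l ∈ L) (hll : l * l = 1)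
    (hlx : l * x = x * l) (hφ : M.φ l = M.φ x) :
    x * l ∈ FF x a L ∧ (x * l) * (x * l) = 1 := by
  have hxN := T.tri.x_mem
  have hla : l * a = a * l := comm_c (T.tri.comp.le hl)
  refine ⟨⟨?_, ?_, ?_⟩, ?_⟩
  · rw [mul_assoc, hla, ← mul_assoc, ← T.ax, mul_assoc]
  · rw [mul_assoc, hlx]
  · rw [← M.fixes_iff (mul_mem hxN (le_normalizer hl)), M.mul _ _ hxN (le_normalizer hl), hφ,
      M.sq hxN T.xx]
  · calc (x * l) * (x * l) = x * (l * x) * l := by group
      _ = x * (x * l) * l := by rw [hlx]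
      _ = (x * x) * (l * l) := by group
      _ = 1 := by rw [T.xx, hll, one_mul]

/-- elements of `C(c)` fixing `L` commute with `cen L c` modulo `O(C(c))` -/
theorem comm_cen_mem_core (hL : IsComp (centralizer ({a} : Set G)) L)
    (hcc : c * c = 1) (hca : c * a = a * c) (hcL : Fixes c L) {X : Subgroup G} {e : G}
    (hX : core (cen L c) ≤ core X)
    (he : Fixes e L) (hec : e * c = c * e) {m : G} (hm : m ∈ cen L c) : ⁅e, m⁆ ∈ core X := by
  apply hX
  rw [core_cen hL (mem_c hca) hcc hcL]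
  refine ⟨?_, he.2 m (cen_le L c hm)⟩
  rw [commutatorElement_def]
  exact (cen L c).mul_mem
    ((_root_.Subgroup.mem_normalizer_iff.mp (mem_normalizer_cen he.1 hec) m).mp hm)
    ((cen L c).inv_mem hm)

/-- diagonal pump-up: an element fixing `L` fixes `N` if it normalizes `N` -/
theorem fixes_of_diag (hL : IsComp (centralizer ({a} : Set G)) L) (haa : a * a = 1)
    (hcc : c * c = 1) (hca : c * a = a * c) (hcL : Fixes c L)
    (hN : IsComp (centralizer ({c} : Set G)) N) (hne : IntrinsicBasic.cj a N ≠ N)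
    (hd : cen L c = diag (centralizer ({c} : Set G)) N a) {e : G} (he : Fixes e L)
    (hec : e * c = c * e) (hea : e * a = a * e) (heN : e ∈ normalizer (N : Set G)) :
    Fixes e N := by
  have haC : a ∈ centralizer ({c} : Set G) := mem_c hca.symm
  obtain ⟨h1, h2, h3, h4, -⟩ := exists_diag hN haC haa hne
  have heN' : e ∈ normalizer (IntrinsicBasic.cj a N : Set G) := by
    rw [mem_normalizer_iff_cj] at heN ⊢
    rw [← IntrinsicBasic.cj_mul, hea, IntrinsicBasic.cj_mul, heN]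
  refine fixes_of_comm_diag hN haC haa hne (mem_c hec) heN heN' fun m hm => ?_
  rw [← hd] at hm
  refine comm_cen_mem_core hL hcc hca hcL ?_ he hec hm
  rw [hd, h4]
  exact inf_le_right

/-- trivial pump-up: an element fixing `L` fixes `N` -/
theorem fixes_of_triv (hL : IsComp (centralizer ({a} : Set G)) L)
    (hcc : c * c = 1) (hca : c * a = a * c) (hcL : Fixes c L)
    (hN : IsComp (centralizer ({c} : Set G)) N)
    (hs : cen L c ⊔ core N = N) {e : G} (he : Fixes e L) (hec : e * c = c * e) :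
    Fixes e N := by
  obtain ⟨h1, h2⟩ := isComp_cen hL (mem_c hca) hcc hcL
  exact fixes_of_cover hN h1 hs (mem_c hec) (fixes_of_cover' h2 he (mem_normalizer_cen he.1 hec))

/-- in a trivial pump-up `cen L c` covers `N` -/
theorem sup_of_le (hL : IsComp (centralizer ({a} : Set G)) L) (hcc : c * c = 1)
    (hca : c * a = a * c) (hcL : Fixes c L) (hle : cen L c ≤ N) (M : M7 L) (M' : M7 N) :
    cen L c ⊔ core N = N := by
  obtain ⟨h1, h2⟩ := isComp_cen hL (mem_c hca) hcc hcL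
  -- `|cen L c / core| = |A₇|`
  have e1 := (exists_quotEquiv h2).choose
  have hcard : Nat.card (↥(cen L c) ⧸ oddCore ↥(cen L c)) = Nat.card (↥N ⧸ oddCore ↥N) := by
    rw [Nat.card_congr e1.toEquiv, Nat.card_congr M.quotEquiv.toEquiv,
      Nat.card_congr M'.quotEquiv.toEquiv]
  let f : ↥(cen L c) →* (↥N ⧸ oddCore ↥N) := (QuotientGroup.mk' (oddCore ↥N)).comp (inclusion hle)
  have hker : f.ker ≤ oddCore ↥(cen L c) := by
    have hodd : Odd (Nat.card f.ker) := by
      have h3 : f.ker.map (cen L c).subtype ≤ core N := by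
        rintro _ ⟨m, hm, rfl⟩
        have : (inclusion hle m) ∈ oddCore ↥N := (QuotientGroup.eq_one_iff _).mp hm
        exact (mem_core_iff (hle m.2)).mpr this
      have h4 := Subgroup.card_dvd_of_le h3
      rw [Subgroup.card_map_of_injective (Subgroup.subtype_injective _)] at h4
      exact Odd.of_dvd_nat (odd_card_core N) h4
    exact Cores.le_pPrimeCore inferInstance (Nat.coprime_two_right.mpr hodd)
  have hsurj : Function.Surjective f := by
    have h5 : Nat.card f.range * Nat.card f.ker = Nat.card ↥(cen L c) := by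
      rw [mul_comm, ← f.ker.card_mul_index, Subgroup.index_ker]
    have h6 : Nat.card (↥(cen L c) ⧸ oddCore ↥(cen L c)) * Nat.card (oddCore ↥(cen L c)) =
        Nat.card ↥(cen L c) := (Subgroup.card_eq_card_quotient_mul_card_subgroup _).symm
    have h7 : Nat.card f.ker ≤ Nat.card (oddCore ↥(cen L c)) := Subgroup.card_le_of_le hker
    have h8 : Nat.card (↥N ⧸ oddCore ↥N) ≤ Nat.card f.range := by
      rw [← hcard]
      by_contra hcon
      push Not at hcon
      have h9 : 0 < Nat.card f.ker := Nat.card_pos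
      have h10 : Nat.card f.range * Nat.card f.ker <
          Nat.card (↥(cen L c) ⧸ oddCore ↥(cen L c)) * Nat.card (oddCore ↥(cen L c)) :=
        lt_of_lt_of_le (Nat.mul_lt_mul_of_pos_right hcon h9) (Nat.mul_le_mul_left _ h7)
      omega
    rw [← MonoidHom.range_eq_top]
    exact Subgroup.eq_top_of_le_card _ h8
  refine sup_of_exists hle fun y hy => ?_
  obtain ⟨j, hj⟩ := hsurj (QuotientGroup.mk ⟨y, hy⟩)
  refine ⟨j, j.2, ?_⟩
  have h9 : (inclusion hle j)⁻¹ * (⟨y, hy⟩ : ↥N) ∈ oddCore ↥N := QuotientGroup.eq.mp hj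
  exact (mem_core_iff (N.mul_mem (N.inv_mem (hle j.2)) hy)).mpr h9

/-- elements normalizing `L` and commuting with `a`, `c` permute `N`, `N^a` -/
theorem cj_or (haa : a * a = 1) (hca : c * a = a * c)
    (hN : IsComp (centralizer ({c} : Set G)) N) (hne : IntrinsicBasic.cj a N ≠ N)
    (hd : cen L c = diag (centralizer ({c} : Set G)) N a) {e : G}
    (he : e ∈ normalizer (L : Set G)) (hec : e * c = c * e) (hea : e * a = a * e) :
    IntrinsicBasic.cj e N = N ∨ IntrinsicBasic.cj e N = IntrinsicBasic.cj a N := by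
  have haC : a ∈ centralizer ({c} : Set G) := mem_c hca.symm
  by_contra hcon
  push Not at hcon
  have hN2 : IsComp (centralizer ({c} : Set G)) (IntrinsicBasic.cj e N) :=
    isComp_cj_of_mem hN (mem_c hec)
  have hne2 : IntrinsicBasic.cj a (IntrinsicBasic.cj e N) ≠ IntrinsicBasic.cj e N := by
    rw [← IntrinsicBasic.cj_mul, ← hea, IntrinsicBasic.cj_mul]
    exact fun h => hne (cj_injective e h)
  have h1 := diag_ne hN haC haa hne hN2 hne2 hcon.1 hcon.2
  apply h1
  have h2 := cj_diag e (centralizer ({c} : Set G)) N a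
  rw [cj_eq_self_of_mem (mem_c hec), hea, mul_inv_cancel_right] at h2
  rw [← h2, ← hd]
  exact mem_normalizer_iff_cj.mp (mem_normalizer_cen he hec)

/-- the pump-up of an inner triple of type `A₇` is one -/
theorem T7.pump_inn (T : T7 x a L) (hcc : c * c = 1) (hca : c * a = a * c) (hcx : c * x = x * c)
    (hcL : Fixes c L) (hN : IsTriple x c N)
    (hor : (a ∈ normalizer (N : Set G) ∧ cen L c ⊔ core N = N) ∨
      (IntrinsicBasic.cj a N ≠ N ∧ cen L c = diag (centralizer ({c} : Set G)) N a)) :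
    ∃ r ∈ N, Fixes (x * r⁻¹) N := by
  obtain ⟨M⟩ := T.a7
  have haa := T.aa
  obtain ⟨l, hl, hll, hlx, hlE, hφ⟩ := T.exists_l M (E := zpowers c)
    (isPGroup_of_sq (by
      intro e he
      obtain ⟨n, rfl⟩ := mem_zpowers_iff.mp he
      rw [← zpow_add, ← two_mul, zpow_mul, zpow_ofNat, pow_two, hcc, one_zpow]))
    (by rw [zpowers_le]; exact hcL.1)
    (by
      intro e he
      obtain ⟨n, rfl⟩ := mem_zpowers_iff.mp he
      have h1 : Commute c x := hcx
      exact (h1.zpow_left n))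
  have hlc : l * c = c * l := hlE c (mem_zpowers c)
  obtain ⟨⟨hqa, hqx, hqL⟩, hqq⟩ := T.q_mem M hl hll hlx hφ
  have hqc : x * l * c = c * (x * l) := by rw [mul_assoc, hlc, ← mul_assoc, ← hcx, mul_assoc]
  have hlcen : l ∈ cen L c := mem_cen_of_sq hl hlc hll
  have hli : l⁻¹ = l := inv_eq_of_mul_eq_one_left hll
  rcases hor with ⟨haN, hs⟩ | ⟨hne, hd⟩
  · have hlN : l ∈ N := by rw [← hs]; exact mem_sup_left hlcen
    refine ⟨l, hlN, ?_⟩
    rw [hli]
    exact fixes_of_triv T.tri.comp hcc hca hcL hN.comp hs hqL hqc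
  · have haC : a ∈ centralizer ({c} : Set G) := mem_c hca.symm
    obtain ⟨h1, h2, h3, h4, -⟩ := exists_diag hN.comp haC haa hne
    have hld := hlcen
    rw [hd] at hld
    obtain ⟨k, hk, hlk⟩ := h2 l hld
    have hlX : l ∈ centralizer ({c} : Set G) := mem_c hlc
    have h5 := fixes_inv_mul hN.comp haC hne hk hlX hlk
    have hlN : l ∈ normalizer (N : Set G) := by
      have := mul_mem (le_normalizer hk) h5.1
      rwa [mul_inv_cancel_left] at this
    have hqN : Fixes (x * l) N := fixes_of_diag T.tri.comp haa hcc hca hcL hN.comp hne hd hqL hqc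
      hqa (mul_mem hN.x_mem hlN)
    refine ⟨k, hk, ?_⟩
    have h6 : x * k⁻¹ = (x * l) * (k * (k⁻¹ * l) * k⁻¹) := by
      calc x * k⁻¹ = x * (l * l) * k⁻¹ := by rw [hll, mul_one]
        _ = _ := by group
    rw [h6]
    exact fixes_mul hqN (fixes_conj h5 (le_normalizer hk))

/-- **the pump-up of an inner triple of type `A₇`** -/
theorem T7.pump (hP : Pump7 G) (T : T7 x a L) (hc : orderOf c = 2) (hca : c * a = a * c)
    (hcx : c * x = x * c) (hcL : Fixes c L) : ∃ N, T7 x c N ∧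
      ((cen L c ⊔ core N = N ∧ ∀ e, Fixes e L → e * c = c * e → Fixes e N) ∨
      (IntrinsicBasic.cj a N ≠ N ∧ cen L c = diag (centralizer ({c} : Set G)) N a)) := by
  obtain ⟨N, hN, h7, hor⟩ := hP x a c L T hc hca hcx hcL
  have hcc := sq_of_order hc
  obtain ⟨M⟩ := T.a7
  obtain ⟨M'⟩ := h7
  rcases hor with ⟨haN, hle⟩ | ⟨hne, hd⟩
  · have hs := sup_of_le T.tri.comp hcc hca hcL hle M M'
    exact ⟨N, ⟨hN, ⟨M'⟩, T.pump_inn hcc hca hcx hcL hN (Or.inl ⟨haN, hs⟩)⟩, Or.inl ⟨hs,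
      fun e he hec => fixes_of_triv T.tri.comp hcc hca hcL hN.comp hs he hec⟩⟩
  · exact ⟨N, ⟨hN, ⟨M'⟩, T.pump_inn hcc hca hcx hcL hN (Or.inr ⟨hne, hd⟩)⟩, Or.inr ⟨hne, hd⟩⟩

/-- **growth**: a diagonal pump-up -/
theorem grow_diag (T : T7 x a L) (hc : orderOf c = 2) {E : Subgroup G} (hE : E ≤ FF x a L)
    (hsq : ∀ e ∈ E, e * e = 1) (haE : a ∈ E) (hcE : c ∈ E) (hN : T7 x c N)
    (hne : IntrinsicBasic.cj a N ≠ N)
    (hd : cen L c = diag (centralizer ({c} : Set G)) N a) :
    ∃ E', E' ≤ FF x c N ∧ (∀ e ∈ E', e * e = 1) ∧ Nat.card E' = 2 * Nat.card E := by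
  have hcc := sq_of_order hc
  have haa := T.aa
  have hcomm : ∀ e ∈ E, ∀ f ∈ E, e * f = f * e := fun e he f hf =>
    comm_of_sq (fun v hv => hsq v hv) he hf
  have hca : c * a = a * c := hcomm c hcE a haE
  have hcF := hE hcE
  have hcx : c * x = x * c := hcF.2.1
  have hcL : Fixes c L := hcF.2.2
  have haC : a ∈ centralizer ({c} : Set G) := mem_c hca.symm
  -- the part of `E` normalizing `N`
  obtain ⟨E₀, hE₀⟩ : ∃ E₀, E₀ = E ⊓ normalizer (N : Set G) := ⟨_, rfl⟩
  have hE₀E : E₀ ≤ E := hE₀ ▸ inf_le_left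
  have haE₀ : a ∉ E₀ := fun h => hne (mem_normalizer_iff_cj.mp ((hE₀ ▸ h : a ∈ E ⊓ _).2))
  have hrel : E₀.relIndex E = 2 := by
    rw [Subgroup.relIndex_eq_two_iff]
    refine ⟨a, haE, fun b hb => ?_⟩
    rcases cj_or (L := L) haa hca hN.tri.comp hne hd (hE hb).2.2.1 (hcomm b hb c hcE) (hcomm b hb a haE)
      with h | h
    · right
      refine ⟨hE₀ ▸ ⟨hb, mem_normalizer_iff_cj.mpr h⟩, fun h2 => ?_⟩
      have h3 : IntrinsicBasic.cj (b * a) N = N := mem_normalizer_iff_cj.mp ((hE₀ ▸ h2 : _ ∈ E ⊓ _).2)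
      rw [hcomm b hb a haE, IntrinsicBasic.cj_mul, h] at h3
      exact hne h3
    · left
      refine ⟨hE₀ ▸ ⟨mul_mem hb haE, mem_normalizer_iff_cj.mpr ?_⟩, fun h2 => ?_⟩
      · rw [hcomm b hb a haE, IntrinsicBasic.cj_mul, h, ← IntrinsicBasic.cj_mul, haa,
          IntrinsicBasic.cj_one]
      · have h3 : IntrinsicBasic.cj b N = N := mem_normalizer_iff_cj.mp ((hE₀ ▸ h2 : _ ∈ E ⊓ _).2)
        rw [h] at h3
        exact hne h3
  have hcard : Nat.card E = 2 * Nat.card E₀ := by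
    have h1 := Subgroup.relIndex_mul_relIndex ⊥ E₀ E bot_le hE₀E
    rw [Subgroup.relIndex_bot_left, Subgroup.relIndex_bot_left, hrel] at h1
    rw [← h1, mul_comm]
  have hE₀N : ∀ e ∈ E₀, Fixes e N := by
    intro e he
    have he' := hE₀E he
    exact fixes_of_diag T.tri.comp haa hcc hca hcL hN.tri.comp hne hd (hE he').2.2
      (hcomm e he' c hcE) (hcomm e he' a haE) ((hE₀ ▸ he : e ∈ E ⊓ _).2)
  -- the other factor
  have hN' : IsComp (centralizer ({c} : Set G)) (IntrinsicBasic.cj a N) :=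
    isComp_cj_of_mem hN.tri.comp haC
  have haxi : a * x * a⁻¹ = x := by rw [T.ax, mul_inv_cancel_right]
  have hxN' : x ∈ normalizer (IntrinsicBasic.cj a N : Set G) := by
    have h1 := hN.tri.x_mem
    rw [mem_normalizer_iff_cj] at h1 ⊢
    rw [← IntrinsicBasic.cj_mul, ← T.ax, IntrinsicBasic.cj_mul, h1]
  have hE₀N' : ∀ e ∈ E₀, Fixes e (IntrinsicBasic.cj a N) := by
    intro e he
    have h1 := (hE₀N e he).cj a
    have h2 : a * e * a⁻¹ = e := by rw [hcomm a haE e (hE₀E he), mul_inv_cancel_right]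
    rwa [h2] at h1
  obtain ⟨MN⟩ := hN.a7
  obtain ⟨M', -⟩ : ∃ M' : M7 (IntrinsicBasic.cj a N), True := ⟨MN.cj a, trivial⟩
  obtain ⟨p1, p2, p3, p4, hnd, hV4⟩ := exists_V4_comm (M'.φ x) (M'.sq hxN' T.xx)
  -- the 2-group `E₀ ⊔ ⟨x⟩`
  have hE₀p : IsPGroup 2 E₀ := isPGroup_of_sq fun e he => hsq e (hE₀E he)
  have hxp : IsPGroup 2 (zpowers x) := BalanceAux.isPGroup_zpowers_of_orderOf (by rw [T.tri.invx])
  have hn : E₀ ≤ normalizer (zpowers x : Set G) := by
    intro e he
    rw [mem_normalizer_iff_cj]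
    have : IntrinsicBasic.cj e (zpowers x) = zpowers (e * x * e⁻¹) := by
      rw [IntrinsicBasic.cj_def]
      exact MonoidHom.map_zpowers _ _
    rw [this, (hE (hE₀E he)).2.1, mul_inv_cancel_right]
  have hPp : IsPGroup 2 (E₀ ⊔ zpowers x : Subgroup G) := IsPGroup.to_sup_of_normal_right' hE₀p hxp hn
  let C : Subgroup G :=
    { carrier := {p | p ∈ normalizer (IntrinsicBasic.cj a N : Set G) ∧
        ∀ τ, V4 p1 p2 p3 p4 τ → M'.φ p * τ = τ * M'.φ p}
      mul_mem' := by
        rintro g h ⟨h1, h2⟩ ⟨h3, h4⟩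
        refine ⟨mul_mem h1 h3, fun τ hτ => ?_⟩
        rw [M'.mul _ _ h1 h3, mul_assoc, h4 τ hτ, ← mul_assoc, h2 τ hτ, mul_assoc]
      one_mem' := ⟨one_mem _, fun τ _ => by rw [M'.one, one_mul, mul_one]⟩
      inv_mem' := by
        rintro g ⟨h1, h2⟩
        refine ⟨inv_mem h1, fun τ hτ => ?_⟩
        rw [M'.inv h1, inv_mul_eq_iff_eq_mul, ← mul_assoc, h2 τ hτ, mul_inv_cancel_right] }
  have hPC : E₀ ⊔ zpowers x ≤ C := by
    refine sup_le (fun e he => ⟨(hE₀N' e he).1, fun τ _ => ?_⟩) ?_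
    · rw [(M'.fixes_iff (hE₀N' e he).1).mpr (hE₀N' e he), one_mul, mul_one]
    · rw [zpowers_le]
      exact ⟨hxN', fun τ hτ => hV4 τ hτ⟩
  obtain ⟨V, hV, hVP, -, -⟩ := exists_rootV M' hPp (fun p hp => (hPC hp).1) hnd
    (Finset.subset_univ _) (fun p hp τ hτ => (hPC hp).2 τ hτ)
  obtain ⟨E', h1, h2, h3⟩ := exists_prod (A := E₀) (B := V) (fun e he => hsq e (hE₀E he))
    (fun v hv => hV.sq hv) (fun e he v hv => (hVP v hv e (mem_sup_left he)).symm) (by
      intro g hg hgV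
      exact hV.eq_one hgV ((M'.fixes_iff (hE₀N' g hg).1).mpr (hE₀N' g hg)))
  refine ⟨E', ?_, h2, by rw [h3, hV.card, hcard]; ring⟩
  rintro g hg
  obtain ⟨e, he, v, hv, rfl⟩ := (h1 g).mp hg
  refine mul_mem ?_ ?_
  · exact ⟨hcomm e (hE₀E he) c hcE, (hE (hE₀E he)).2.1, hE₀N e he⟩
  · have hvN' := hV.mem hv
    refine ⟨comm_c (hN'.le hvN'), hVP v hv x (mem_sup_right (mem_zpowers x)), ?_⟩
    exact hN.tri.comp.fixes_of_mem hN' (Ne.symm hne) hvN'

/-- a 2-subgroup of `FF x a L` lies in a maximal one -/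
theorem exists_max {F E : Subgroup G} (hE : IsPGroup 2 E) (hEF : E ≤ F) :
    ∃ Q : Subgroup G, E ≤ Q ∧ IsPGroup 2 Q ∧ Q ≤ F ∧
      ∀ R : Subgroup G, Q ≤ R → IsPGroup 2 R → R ≤ F → R = Q := by
  have : Fact (Nat.Prime 2) := ⟨Nat.prime_two⟩
  obtain ⟨P, hP⟩ := (IsPGroup.of_equiv hE (subgroupOfEquivOfLe hEF).symm :
    IsPGroup 2 (E.subgroupOf F)).exists_le_sylow
  refine ⟨(P : Subgroup F).map F.subtype, ?_, P.2.map _, map_subtype_le _, ?_⟩
  · intro e he
    exact ⟨⟨e, hEF he⟩, hP (show (⟨e, hEF he⟩ : F) ∈ E.subgroupOf F from he), rfl⟩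
  · intro R hQR hR hRF
    have h1 : (P : Subgroup F) ≤ R.subgroupOf F := by
      intro p hp
      exact hQR ⟨p, hp, rfl⟩
    have h2 := P.3 (IsPGroup.of_equiv hR (subgroupOfEquivOfLe hRF).symm) h1
    rw [← h2, subgroupOf_map_subtype, inf_of_le_left hRF]

/-- **(β')** bounds elementary groups -/
theorem card_le_of_special (hB : BetaP G) (T : T7 x a L) (hs : x ∈ L ∨ x * a ∈ L)
    {E : Subgroup G} (hE : E ≤ FF x a L) (hsq : ∀ e ∈ E, e * e = 1) : Nat.card E ≤ 4 := by
  obtain ⟨Q, hEQ, hQ, hQF, hmax⟩ := exists_max (isPGroup_of_sq hsq) hE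
  rcases hB x a L Q T hs hQ hQF hmax with h | ⟨h, -⟩
  · have h1 : (E : Set G) ⊆ {1, a} := by
      intro e he
      rcases h e (hEQ he) (hsq e he) with h | h
      · left; exact h
      · right; exact h
    have h2 : Nat.card E ≤ 2 := by
      have h3 := Set.ncard_le_ncard h1 (Set.toFinite _)
      have h4 : ({1, a} : Set G).ncard ≤ 2 := Set.ncard_insert_le _ _ |>.trans (by
        rw [Set.ncard_singleton])
      rw [← Nat.card_coe_set_eq] at h3
      exact h3.trans h4
    omega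
  · rw [← h]
    exact Subgroup.card_le_of_le hEQ

/-- **growth** -/
theorem grow (hP : Pump7 G) (hB : BetaP G) (T : T7 x a L) {E : Subgroup G} (hE : E ≤ FF x a L)
    (hsq : ∀ e ∈ E, e * e = 1) (h4 : 4 < Nat.card E) :
    ∃ (a' : G) (L' E' : Subgroup G), T7 x a' L' ∧ E' ≤ FF x a' L' ∧ (∀ e ∈ E', e * e = 1) ∧
      Nat.card E < Nat.card E' := by
  have hpos : 0 < Nat.card E := Nat.card_pos
  by_cases haE : a ∈ E
  swap
  · obtain ⟨E', h1, h2, h3, h5, h6⟩ := exists_adjoin hsq T.aa haE fun e he => (hE he).1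
    refine ⟨a, L, E', T, fun g hg => ?_, h5, by omega⟩
    rcases h3 g hg with h | h
    · exact hE h
    · have := mul_mem (hE h) (inv_mem T.a_mem)
      rwa [mul_inv_cancel_right] at this
  obtain ⟨M⟩ := T.a7
  have hcomm : ∀ e ∈ E, ∀ f ∈ E, e * f = f * e := fun e he f hf =>
    comm_of_sq (fun v hv => hsq v hv) he hf
  obtain ⟨l, hl, hll, hlx, hlE, hφ⟩ := T.exists_l M (isPGroup_of_sq hsq)
    (fun e he => (hE he).2.2.1) fun e he => (hE he).2.1
  obtain ⟨hqF, hqq⟩ := T.q_mem M hl hll hlx hφ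
  have hqE' : ∀ e ∈ E, e * (x * l) = (x * l) * e := by
    intro e he
    rw [← mul_assoc, (hE he).2.1, mul_assoc, ← hlE e he, mul_assoc]
  by_cases hqE : x * l ∈ E
  swap
  · obtain ⟨E', h1, h2, h3, h5, h6⟩ := exists_adjoin hsq hqq hqE hqE'
    refine ⟨a, L, E', T, fun g hg => ?_, h5, by omega⟩
    rcases h3 g hg with h | h
    · exact hE h
    · have := mul_mem (hE h) (inv_mem hqF)
      rwa [mul_inv_cancel_right] at this
  by_cases hq1 : x * l = 1
  · have : x ∈ L := by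
      have h1 : x = l⁻¹ := mul_eq_one_iff_eq_inv.mp hq1
      rw [h1]; exact inv_mem hl
    have := card_le_of_special hB T (Or.inl this) hE hsq
    omega
  by_cases hqa : x * l = a
  · have : x * a ∈ L := by
      rw [← hqa, ← mul_assoc, T.xx, one_mul]; exact hl
    have := card_le_of_special hB T (Or.inr this) hE hsq
    omega
  -- the pump-up through `q`
  have hq2 : orderOf (x * l) = 2 := orderOf_eq_prime (by rw [pow_two]; exact hqq) hq1
  obtain ⟨N, hN, h⟩ := T.pump hP hq2 hqF.1 hqF.2.1 hqF.2.2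
  rcases h with ⟨hs, hfix⟩ | ⟨hne, hd⟩
  · have hlN : l ∈ N := by
      rw [← hs]
      refine mem_sup_left (mem_cen_of_sq hl ?_ hll)
      rw [← mul_assoc, hlx, mul_assoc]
    have hsp : x ∈ N ∨ x * (x * l) ∈ N := by
      right
      rw [← mul_assoc, T.xx, one_mul]; exact hlN
    have := card_le_of_special hB hN hsp (E := E) (fun e he =>
      ⟨hqE' e he, (hE he).2.1, hfix e (hE he).2.2 (hqE' e he)⟩) hsq
    omega
  · obtain ⟨E', h1, h2, h3⟩ := grow_diag T hq2 hE hsq haE hqE hN hne hd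
    exact ⟨x * l, N, E', hN, h1, h2, by omega⟩

/-- **μ ≤ 2**: elementary abelian subgroups of `FF x a L` have order at most 4. -/
theorem T7.mu (hP : Pump7 G) (hB : BetaP G) (T : T7 x a L) {E : Subgroup G} (hE : E ≤ FF x a L)
    (hsq : ∀ e ∈ E, e * e = 1) : Nat.card E ≤ 4 := by
  by_contra hcon
  push Not at hcon
  have key : ∀ n : ℕ, ∃ (a' : G) (L' E' : Subgroup G), T7 x a' L' ∧ E' ≤ FF x a' L' ∧
      (∀ e ∈ E', e * e = 1) ∧ n + 4 < Nat.card E' := by
    intro n
    induction n with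
    | zero => exact ⟨a, L, E, T, hE, hsq, by omega⟩
    | succ n ih =>
      obtain ⟨a', L', E', T', hE', hsq', h⟩ := ih
      obtain ⟨a'', L'', E'', T'', hE'', hsq'', h'⟩ := grow hP hB T' hE' hsq' (by omega)
      exact ⟨a'', L'', E'', T'', hE'', hsq'', by omega⟩
  obtain ⟨a', L', E', -, -, -, h⟩ := key (Nat.card G)
  have := Subgroup.card_le_card_group E'
  omega

/-- **no diagonal pump-ups** -/
theorem T7.no_diag (hP : Pump7 G) (hB : BetaP G) (T : T7 x a L) (hc : orderOf c = 2)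
    (hca : c * a = a * c) (hcx : c * x = x * c) (hcL : Fixes c L) (hN : T7 x c N)
    (hne' : IntrinsicBasic.cj a N ≠ N)
    (hd : cen L c = diag (centralizer ({c} : Set G)) N a) : False := by
  have hcc := sq_of_order hc
  by_cases hne : c = a
  · subst hne
    apply hne'
    rw [← mem_normalizer_iff_cj]
    exact hN.fixes_a.1
  obtain ⟨B, hB1, hB2⟩ := exists_two T.aa (ne_one_of_order T.tri.inva)
  have hBsq : ∀ b ∈ B, b * b = 1 := by
    intro b hb
    rcases (hB1 b).mp hb with rfl | rfl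
    · rw [one_mul]
    · exact T.aa
  obtain ⟨E, h1, h2, h3, h4, h5⟩ := exists_adjoin hBsq hcc
    (fun h => by
      rcases (hB1 c).mp h with h | h
      · exact ne_one_of_order hc h
      · exact hne h)
    (fun b hb => by
      rcases (hB1 b).mp hb with rfl | rfl
      · rw [one_mul, mul_one]
      · exact hca.symm)
  have hBF : B ≤ FF x a L := by
    intro b hb
    rcases (hB1 b).mp hb with rfl | rfl
    · exact one_mem _
    · exact T.a_mem
  have hcF : c ∈ FF x a L := ⟨hca, hcx, hcL⟩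
  have hEF : E ≤ FF x a L := by
    intro g hg
    rcases h3 g hg with h | h
    · exact hBF h
    · have := mul_mem (hBF h) (inv_mem hcF)
      rwa [mul_inv_cancel_right] at this
  obtain ⟨E', h6, h7, h8⟩ := grow_diag T hc hEF h4 (h1 ((hB1 a).mpr (Or.inr rfl))) h2 hN hne' hd
  have := hN.mu hP hB h6 h7
  omega

/-- **all pump-ups are trivial** -/
theorem T7.pump_triv (hP : Pump7 G) (hB : BetaP G) (T : T7 x a L) (hc : orderOf c = 2)
    (hca : c * a = a * c) (hcx : c * x = x * c) (hcL : Fixes c L) : ∃ N, T7 x c N ∧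
      cen L c ⊔ core N = N ∧ ∀ e, Fixes e L → e * c = c * e → Fixes e N := by
  obtain ⟨N, hN, h⟩ := T.pump hP hc hca hcx hcL
  rcases h with ⟨hs, hfix⟩ | ⟨hne', hd⟩
  · exact ⟨N, hN, hs, hfix⟩
  · exact (T.no_diag hP hB hc hca hcx hcL hN hne' hd).elim

/-- **the non-special triples**: `x = q l`, `q ∉ {1, a}`. -/
theorem T7.nonspecial (hP : Pump7 G) (hB : BetaP G) (T : T7 x a L) (M : M7 L) {l : G} (hl : l ∈ L)
    (hll : l * l = 1) (hlx : l * x = x * l) (hφ : M.φ l = M.φ x) (hq1 : x * l ≠ 1)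
    (hqa : x * l ≠ a) : ∃ N, T7 x (x * l) N ∧ x * (x * l) ∈ N ∧
      cen L (x * l) ⊔ core N = N ∧ (∀ e, Fixes e L → e * (x * l) = (x * l) * e → Fixes e N) ∧
      (∀ R : Subgroup G, IsPGroup 2 R → R ≤ FF x (x * l) N → a ∈ R → x * l ∈ R → Nat.card R = 4) ∧
      ∀ R : Subgroup G, IsPGroup 2 R → R ≤ FF x a L → (∀ r ∈ R, r * l = l * r) →
        ∀ r ∈ R, r = 1 ∨ r = a ∨ r = x * l ∨ r = a * (x * l) := by
  obtain ⟨hqF, hqq⟩ := T.q_mem M hl hll hlx hφ
  obtain ⟨q, hq⟩ : ∃ q, q = x * l := ⟨_, rfl⟩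
  rw [← hq] at hqF hqq hq1 hqa ⊢
  have hq2 : orderOf q = 2 := orderOf_eq_prime (by rw [pow_two]; exact hqq) hq1
  obtain ⟨N, hN, hs, hfix⟩ := T.pump_triv hP hB hq2 hqF.1 hqF.2.1 hqF.2.2
  have hlq : l * q = q * l := by rw [hq, ← mul_assoc, hlx, mul_assoc]
  have hxq : x * q = l := by rw [hq, ← mul_assoc, T.xx, one_mul]
  have hlN : x * q ∈ N := by
    rw [hxq, ← hs]
    exact mem_sup_left (mem_cen_of_sq hl hlq hll)
  have haq : a * q = q * a := hqF.1.symm
  -- the four-group `⟨a, q⟩`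
  have ha1 : a ≠ 1 := ne_one_of_order T.tri.inva
  obtain ⟨B, hB1, hB2⟩ := exists_two T.aa ha1
  have hBsq : ∀ b ∈ B, b * b = 1 := by
    intro b hb
    rcases (hB1 b).mp hb with rfl | rfl
    · rw [one_mul]
    · exact T.aa
  obtain ⟨E, hBE, hqE, hE3, hEsq, hE5⟩ := exists_adjoin hBsq hqq
    (fun h => by
      rcases (hB1 q).mp h with h | h
      · exact hq1 h
      · exact hqa h)
    (fun b hb => by
      rcases (hB1 b).mp hb with rfl | rfl
      · rw [one_mul, mul_one]
      · exact haq)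
  have haE : a ∈ E := hBE ((hB1 a).mpr (Or.inr rfl))
  have hE4 : Nat.card E = 4 := by rw [hE5, hB2]
  have hEm : ∀ g ∈ E, g = 1 ∨ g = a ∨ g = q ∨ g = a * q := by
    intro g hg
    rcases hE3 g hg with h | h
    · rcases (hB1 g).mp h with h | h
      · exact Or.inl h
      · exact Or.inr (Or.inl h)
    · have hqi : q⁻¹ = q := inv_eq_of_mul_eq_one_left hqq
      rcases (hB1 _).mp h with h | h
      · right; right; left
        rw [← hqi]
        exact mul_eq_one_iff_eq_inv.mp h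
      · right; right; right
        rw [← h, mul_assoc, hqq, mul_one]
  have hEle : ∀ F : Subgroup G, a ∈ F → q ∈ F → E ≤ F := by
    intro F haF hqF' g hg
    rcases hEm g hg with rfl | rfl | rfl | rfl
    · exact one_mem _
    · exact haF
    · exact hqF'
    · exact mul_mem haF hqF'
  -- the bound in `C(q)`
  have h4 : ∀ R : Subgroup G, IsPGroup 2 R → R ≤ FF x q N → a ∈ R → q ∈ R → Nat.card R = 4 := by
    intro R hR hRF haR hqR
    obtain ⟨Q, hEQ, hQ, hQF, hmax⟩ := exists_max hR hRF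
    rcases hB x q N Q hN (Or.inr hlN) hQ hQF hmax with h | ⟨h, -⟩
    · exfalso
      rcases h a (hEQ haR) T.aa with h | h
      · exact ha1 h
      · exact hqa h.symm
    · have h1 : Nat.card R ≤ 4 := by rw [← h]; exact Subgroup.card_le_of_le hEQ
      have h2 : Nat.card E ≤ Nat.card R := Subgroup.card_le_of_le (hEle R haR hqR)
      omega
  refine ⟨N, hN, hlN, hs, hfix, h4, ?_⟩
  intro R hR hRF hRl r hr
  have hRq : ∀ r ∈ R, r * q = q * r := by
    intro r hr
    rw [hq, ← mul_assoc, (hRF hr).2.1, mul_assoc, hRl r hr, mul_assoc]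
  have hRE : R ≤ normalizer (E : Set G) := by
    intro r hr
    rw [mem_normalizer_iff_cj]
    have h1 : ∀ g ∈ E, r * g * r⁻¹ = g := by
      intro g hg
      rw [mul_inv_eq_iff_eq_mul]
      rcases hEm g hg with rfl | rfl | rfl | rfl
      · rw [mul_one, one_mul]
      · exact (hRF hr).1
      · exact hRq r hr
      · rw [← mul_assoc, (hRF hr).1, mul_assoc, hRq r hr, mul_assoc]
    apply le_antisymm
    · rintro _ ⟨g, hg, rfl⟩
      show r * g * r⁻¹ ∈ E
      rw [h1 g hg]; exact hg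
    · intro g hg
      have := conj_mem_cj (g := r) hg
      rwa [h1 g hg] at this
  have hp : IsPGroup 2 (R ⊔ E : Subgroup G) :=
    IsPGroup.to_sup_of_normal_right' hR (isPGroup_of_sq hEsq) hRE
  have hle : R ⊔ E ≤ FF x q N := by
    refine sup_le (fun r hr => ⟨hRq r hr, (hRF hr).2.1, hfix r (hRF hr).2.2 (hRq r hr)⟩) ?_
    exact hEle _ ⟨haq, T.ax, hfix a T.fixes_a haq⟩ ⟨rfl, hqF.2.1, hfix q hqF.2.2 rfl⟩
  have h5 := h4 _ hp hle (mem_sup_right haE) (mem_sup_right hqE)
  have h6 : E = R ⊔ E := Subgroup.eq_of_le_of_card_ge le_sup_right (by rw [h5, hE4])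
  exact hEm r (h6 ▸ mem_sup_left hr)

theorem isA7_of_equiv {K : Subgroup G} {A : Type*} [Group A] (hK : Nonempty (M7 L))
    (e : A ≃* (↥L ⧸ oddCore ↥L)) (e' : A ≃* (↥K ⧸ oddCore ↥K)) : IsA7 K := by
  obtain ⟨M⟩ := hK
  exact Mod.nonempty_of_equiv (by decide) (by simp) ((e'.symm.trans e).trans M.quotEquiv)

theorem IsA7.card (h : IsA7 L) : Nat.card (↥L ⧸ oddCore ↥L) = 2520 := by
  obtain ⟨M⟩ := h
  rw [Nat.card_congr M.quotEquiv.toEquiv]
  have hnt : Nontrivial (Finset.univ : Finset (Fin 7)) :=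
    ⟨⟨0, Finset.mem_univ _⟩, ⟨1, Finset.mem_univ _⟩, by simp⟩
  have h1 := two_mul_nat_card_alternatingGroup (α := (Finset.univ : Finset (Fin 7)))
  rw [Nat.card_perm] at h1
  have h2 : Nat.card (Finset.univ : Finset (Fin 7)) = 7 := by simp
  rw [h2] at h1
  have h3 : Nat.factorial 7 = 5040 := rfl
  omega

theorem IsA7.simple (h : IsA7 L) : IsSimpleGroup (↥L ⧸ oddCore ↥L) := by
  obtain ⟨M⟩ := h
  have h1 : IsSimpleGroup (alternatingGroup (Finset.univ : Finset (Fin 7))) := by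
    have h2 := isSimpleGroup_alt (S := (Finset.univ : Finset (Fin 7))) (by decide)
    have : Nontrivial (alternatingGroup (Finset.univ : Finset (Fin 7))) :=
      (altEquiv (Finset.univ : Finset (Fin 7))).toEquiv.nontrivial
    exact IsSimpleGroup.isSimpleGroup_of_surjective
      (altEquiv (Finset.univ : Finset (Fin 7))).symm.toMonoidHom
      (altEquiv (Finset.univ : Finset (Fin 7))).symm.surjective
  have : Nontrivial (↥L ⧸ oddCore ↥L) := M.quotEquiv.toEquiv.nontrivial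
  exact IsSimpleGroup.isSimpleGroup_of_surjective M.quotEquiv.symm.toMonoidHom
    M.quotEquiv.symm.surjective

theorem isA7_diag {X K : Subgroup G} {v : G} (hA : IsA7 K) (hK : IsComp X K) (hvX : v ∈ X)
    (hv : v * v = 1) (hne : IntrinsicBasic.cj v K ≠ K) : IsA7 (diag X K v) := by
  obtain ⟨h1, -, -, -, f, hf, hker, -, -⟩ := exists_diag hK hvX hv hne
  have hs := hA.simple
  have hz : center (↥K ⧸ oddCore ↥K) = ⊥ := by
    rcases hs.eq_bot_or_eq_top_of_normal (center (↥K ⧸ oddCore ↥K)) inferInstance with h | h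
    · exact h
    · exfalso
      -- `K / O(K)` is perfect
      have h2 : ⁅K, K⁆ = K := hK.perfect
      have h3 : K ≤ core K := by
        refine h2.symm.le.trans (commutator_le.mpr ?_)
        intro k hk m hm
        rw [commutator_mem_core_iff hk hm]
        have h4 : (QuotientGroup.mk' (oddCore ↥K)) ⟨k, hk⟩ ∈ center (↥K ⧸ oddCore ↥K) := by
          rw [h]; trivial
        exact (mem_center_iff.mp h4 _).symm
      exact hK.not_odd (odd_card_core K) h3
  have hinj : Function.Injective f := by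
    rw [injective_iff_map_eq_one]
    intro y hy
    have : y ∈ center (↥K ⧸ oddCore ↥K) := hker hy
    rw [hz] at this
    exact mem_bot.mp this
  exact isA7_of_equiv hA (MulEquiv.refl _) (MulEquiv.ofBijective f ⟨hinj, hf⟩)

/-- a four-group of `L'` commuting with `x`, `L'` of type `A₇` -/
theorem exists_four {K : Subgroup G} {x : G} (hK : IsA7 K) (hx : orderOf x = 2)
    (hxK : x ∈ normalizer (K : Set G)) : ∃ V : Subgroup G, V ≤ K ∧ Nat.card V = 4 ∧
      (∀ v ∈ V, v * v = 1) ∧ (∀ v ∈ V, v * x = x * v) ∧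
      ∀ v ∈ V, (∀ k ∈ K, v * k = k * v) → v = 1 := by
  obtain ⟨M⟩ := hK
  have hxx := sq_of_order hx
  obtain ⟨p1, p2, p3, p4, hnd, hV4⟩ := exists_V4_comm (M.φ x) (M.sq hxK hxx)
  have hxp : IsPGroup 2 (zpowers x) := BalanceAux.isPGroup_zpowers_of_orderOf (by rw [hx])
  obtain ⟨V, hV, hVP, -, -⟩ := exists_rootV M hxp (by rwa [zpowers_le]) hnd
    (Finset.subset_univ _) (fun p hp τ hτ => by
      obtain ⟨n, rfl⟩ := mem_zpowers_iff.mp hp
      rcases Int.even_or_odd' n with ⟨k, rfl | rfl⟩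
      · rw [zpow_mul, zpow_ofNat, pow_two, hxx, one_zpow, M.one, one_mul, mul_one]
      · rw [zpow_add, zpow_mul, zpow_ofNat, pow_two, hxx, one_zpow, one_mul, zpow_one]
        exact hV4 τ hτ)
  refine ⟨V, hV.le, hV.card, fun v hv => hV.sq hv, fun v hv => hVP v hv x (mem_zpowers x), ?_⟩
  intro v hv hvk
  apply hV.eq_one hv
  rw [M.fixes_iff (le_normalizer (hV.mem hv))]
  refine ⟨le_normalizer (hV.mem hv), fun k hk => ?_⟩
  rw [commutatorElement_def, hvk k hk, mul_inv_cancel_right, mul_inv_cancel]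
  exact one_mem _

/-- **uniqueness**: `L` is the only 2-component of `C(a)` of type `A₇`. -/
theorem T7.comp_unique (hP : Pump7 G) (hB : BetaP G) (T : T7 x a L) {L' : Subgroup G}
    (hL' : IsComp (centralizer ({a} : Set G)) L') (h7 : IsA7 L') : L' = L := by
  by_contra hne
  have hxC : x ∈ centralizer ({a} : Set G) := mem_c T.ax.symm
  have haC : a ∈ centralizer ({a} : Set G) := mem_c rfl
  -- it suffices to find a four-group
  have key : ∀ V : Subgroup G, V ≤ centralizer ({a} : Set G) → Nat.card V = 4 →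
      (∀ v ∈ V, v * v = 1) → (∀ v ∈ V, v * x = x * v) → (∀ v ∈ V, Fixes v L) → a ∉ V → False := by
    intro V h1 h2 h3 h4 h5 h6
    obtain ⟨E, e1, e2, e3, e4, e5⟩ := exists_adjoin h3 T.aa h6 fun v hv => comm_c (h1 hv)
    have h7 := T.mu hP hB (E := E) (by
      intro g hg
      rcases e3 g hg with h | h
      · exact ⟨comm_c (h1 h), h4 g h, h5 g h⟩
      · have h8 : g * a ∈ FF x a L := ⟨comm_c (h1 h), h4 _ h, h5 _ h⟩
        have := mul_mem h8 (inv_mem T.a_mem)
        rwa [mul_inv_cancel_right] at this) e4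
    omega
  by_cases hxL : IntrinsicBasic.cj x L' = L'
  · obtain ⟨V, h1, h2, h3, h4, h5⟩ := exists_four h7 T.tri.invx (mem_normalizer_iff_cj.mpr hxL)
    refine key V (h1.trans hL'.le) h2 h3 h4 (fun v hv => ?_) fun ha => ?_
    · exact T.tri.comp.fixes_of_mem hL' (Ne.symm hne) (h1 hv)
    · exact ne_one_of_order T.tri.inva (h5 a ha fun k hk => (comm_c (hL'.le hk)).symm)
  · obtain ⟨h1, h2, -, -, -⟩ := exists_diag hL' hxC T.xx hxL
    have hD := isA7_diag h7 hL' hxC T.xx hxL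
    have hxD : x ∈ normalizer (diag (centralizer ({a} : Set G)) L' x : Set G) := by
      rw [mem_normalizer_iff_cj]
      have h3 : ∀ m ∈ diag (centralizer ({a} : Set G)) L' x, x * m * x⁻¹ = m := by
        intro m hm
        rw [← comm_c (h1.le hm).2, mul_inv_cancel_right]
      apply le_antisymm
      · rintro _ ⟨m, hm, rfl⟩
        show x * m * x⁻¹ ∈ _
        rw [h3 m hm]; exact hm
      · intro m hm
        have := conj_mem_cj (g := x) hm
        rwa [h3 m hm] at this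
    obtain ⟨V, g1, g2, g3, g4, g5⟩ := exists_four hD T.tri.invx hxD
    have hLx : IntrinsicBasic.cj x L = L := mem_normalizer_iff_cj.mp T.tri.x_mem
    refine key V (fun v hv => (h1.le (g1 hv)).1) g2 g3 g4 (fun v hv => ?_) fun ha => ?_
    · have hvC : v ∈ centralizer ({a} : Set G) := (h1.le (g1 hv)).1
      have h6 : ∀ l ∈ L, ⁅v, l⁆ ∈ core (centralizer ({a} : Set G)) := fun l hl =>
        comm_diag_of_ne hL' hxC T.xx hxL T.tri.comp (Ne.symm hne)
          (fun h => hne (by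
            have h7 := congrArg (IntrinsicBasic.cj x) h
            rw [hLx, ← IntrinsicBasic.cj_mul, T.xx, IntrinsicBasic.cj_one] at h7
            exact h7.symm)) (g1 hv) hl
      exact LemG.fixes_of_comm_core T.tri.comp hvC h6
    · exact ne_one_of_order T.tri.inva (g5 a ha fun k hk => (comm_c (h1.le hk).1).symm)

/-- `L` is normal in `C(a)` -/
theorem T7.cent_le (hP : Pump7 G) (hB : BetaP G) (T : T7 x a L) :
    centralizer ({a} : Set G) ≤ normalizer (L : Set G) := by
  intro g hg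
  rw [mem_normalizer_iff_cj]
  obtain ⟨M⟩ := T.a7
  exact T.comp_unique hP hB (isComp_cj_of_mem T.tri.comp hg) ⟨M.cj g⟩

end basic

end Cfsg.Agent.UGT.A7.Mu
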