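import Cfsg.Agent.UGT.A7.SevenZero
import Cfsg.Agent.UGT.SL.OfL2

/-!
# (7.0) with inner `PSL₂(q)` triples allowed

`seven0i : Wi G → Seven0i G`: a fourth case with `N / O(N) ≅ PSL₂(25)`, `x` inner, `a` of field type.
-/

set_option autoImplicit false

open Cfsg Subgroup Equiv
open Cfsg.Agent.SignalizersComponents Cfsg.Agent.Lib
open Cfsg.Agent.SignalizersComponents.IntrinsicBasic
open Cfsg.Agent.UGT.Triple Cfsg.Agent.UGT.Iface Cfsg.Agent.UGT.TriBase
open Cfsg.Agent.UAlt
open Cfsg.Agent.McLLyComp.Act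
open Cfsg.Agent.Intrinsic
open Cfsg.Agent.Intrinsic.Basic (Fixes IsComp core core_le odd_card_core le_normalizer_core
  eq_one_of_mem_core_sq conj_mem_core)
open Cfsg.Agent.Intrinsic.Cen (cen isComp_cen mem_cen)
open Cfsg.Agent.Intrinsic.Diag (diag exists_diag fixes_inv_mul)
open scoped commutatorElement

namespace Cfsg.Agent.UGT.A7.SevenZero

universe u

section field

open Cfsg.Agent.GH.L2Aut Cfsg.Agent.UGT.SL

variable {F : Type*} [Field F] [Finite F] {L : Type*} [Group L] (R : Cfsg.Agent.GH.L2Aut.Rep F L)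

include R in
theorem simple_of_rep (h : 3 < Nat.card F) : IsSimpleGroup L := by
  let _ := Fintype.ofFinite F
  have h1 := Cfsg.Agent.TwoFusion.SLTwoFacts.isSimpleGroup_psl (F := F)
    (by rw [← Nat.card_eq_fintype_card]; exact h)
  exact (toEquiv R).isSimpleGroup

/-- a subnormal perfect group `E` of fixed points with `|E / O| = 60`, `O` odd, of an involution of field type:
`|F| = 25` -/
theorem card_of_subnormal {α : MulAut L} (hα : α * α = 1) (hf : R.fld α ≠ 1)
    (hq : 25 ≤ Nat.card F) {J : Type*} [Group J] [Finite J] (g : J →* L)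
    (hE : g.range ≤ fixSub α) (hp : ⁅(⊤ : Subgroup J), (⊤ : Subgroup J)⁆ = ⊤) {O : Subgroup J} (hOn : O.Normal)
    (hO : Odd (Nat.card O)) (hi : O.index = 60) (hk : g.ker ≤ O)
    (hs : (g.range.subgroupOf (fixSub α)).IsSubnormal) : Nat.card F = 25 := by
  obtain ⟨R', ha, hb, hc', hd⟩ := R.ftype_rep (fun h => hf (R.mem_PGL_iff_fld.1 h)) hα
  obtain ⟨K, hK, hcard⟩ := exists_fixed_field (R.fld α)
  have hm : Even (orderOf (R.fld α)) := by rw [hd]; exact even_two
  have hfin : Finite L := R.finite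
  have hEp : ⁅g.range, g.range⁆ = g.range := by
    rw [MonoidHom.range_eq_map, ← Subgroup.map_commutator, hp]
  have hES : g.range ≤ R'.sub K :=
    PumpL2.le_sub_of_perfect R' hm hK hcard (by rw [← hc']; exact hE) hEp
  have hSf : R'.sub K ≤ fixSub α := by
    have := R'.sub_le_fix hK
    rwa [← hc'] at this
  have hk5 : 5 ≤ Nat.card K := by
    by_contra h
    push Not at h
    rw [hcard, hd] at hq
    have : Nat.card K ^ 2 ≤ 4 ^ 2 := Nat.pow_le_pow_left (by omega) 2
    omega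
  have hSs : IsSimpleGroup (R'.sub K) := simple_of_rep (R'.subRep K) (by omega)
  have h1 : (g.range.subgroupOf (R'.sub K)).IsSubnormal := by
    have h2 := hs.comap (Subgroup.inclusion hSf)
    rw [Subgroup.subgroupOf, Subgroup.comap_comap] at h2
    exact h2
  have hidx : (O.map g.rangeRestrict).index = 60 := by
    rw [Subgroup.index_map_eq _ g.rangeRestrict_surjective (by rw [MonoidHom.ker_rangeRestrict]; exact hk),
      hi]
  have hSE : g.range = R'.sub K := by
    rcases h1.eq_bot_or_top_of_isSimpleGroup hSs with h2 | h2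
    · exfalso
      rw [Subgroup.subgroupOf_eq_bot, disjoint_iff, inf_of_le_left hES] at h2
      have h3 : Nat.card g.range = 1 := by rw [h2, Subgroup.card_bot]
      have h4 := Subgroup.index_dvd_card (O.map g.rangeRestrict)
      rw [hidx, h3] at h4
      exact absurd (Nat.le_of_dvd one_pos h4) (by norm_num)
    · exact le_antisymm hES (Subgroup.subgroupOf_eq_top.mp h2)
  have hEs : IsSimpleGroup g.range := by rw [hSE]; exact hSs
  have hOn' : (O.map g.rangeRestrict).Normal := hOn.map _ g.rangeRestrict_surjective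
  have hO1 : O.map g.rangeRestrict = ⊥ := by
    rcases hOn'.eq_bot_or_eq_top with h2 | h2
    · exact h2
    · exfalso
      rw [h2, Subgroup.index_top] at hidx
      exact absurd hidx (by norm_num)
  have h60 : Nat.card (R'.sub K) = 60 := by
    rw [hO1, Subgroup.index_bot] at hidx
    rw [← hSE]; exact hidx
  have h4 := (R'.subRep K).card_mul_two
  rw [h60] at h4
  have h5 : Nat.card K = 5 := by
    by_contra h6
    have h7 : 6 ≤ Nat.card K := by omega
    have h8 : 6 * (6 ^ 2 - 1) ≤ Nat.card K * (Nat.card K ^ 2 - 1) :=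
      Nat.mul_le_mul h7 (Nat.sub_le_sub_right (Nat.pow_le_pow_left h7 2) 1)
    omega
  rw [hcard, hd, h5]
  norm_num

end field

variable {G : Type u} [Group G] [Finite G]

/-- the type `PSL₂(q)`, `a` normalizes `N`: `a` fixes `N / O(N)`, or `x` is inner, `q = 25` and `a` is of field
type -/
theorem fixes_or_field {x a t : G} {N J : Subgroup G} {σ : Perm (Fin 7)} (B : Lab5 J σ)
    (hσ : (fixIn (Finset.univ : Finset (Fin 7)) σ).card = 5) (T : IsTriple x t N)
    (hxa : x * a = a * x) (ha : a ∈ normalizer (N : Set G)) (haa : a * a = 1)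
    (hE : IsComp (N ⊓ centralizer ({a} : Set G)) J) (h2 : IsL2 (Bar N)) {y : G}
    (hy : y ∈ core (centralizer ({x} : Set G))) (hyJ : y ∈ J) (hyc : y ∉ core J) :
    Fixes a N ∨ (¬ Fixes a N ∧ IsInner x N ∧ ∃ (F : Type) (_ : Field F) (_ : Fintype F),
      Fintype.card F = 25 ∧ ∃ R : GH.L2Aut.Rep F (Bar N), R.fld (act N ⟨a, ha⟩) ≠ 1) := by
  by_cases hf : Fixes a N
  · exact Or.inl hf
  right
  refine ⟨hf, (fixes_or_inner B hσ T hxa ha haa hE h2 hy hyJ hyc).resolve_left hf, ?_⟩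
  obtain ⟨F, i1, i2, hodd, hq, ⟨e⟩⟩ := h2
  have R := GH.L2Aut.Rep.ofEquiv (GH.L2Aut.two_ne_zero_of_odd hodd) e
  have hJN : J ≤ N := hE.le.trans inf_le_left
  have hJa : ∀ y ∈ J, y * a = a * y := fun y hy => comm_c (hE.le hy).2
  -- the image of `J`
  obtain ⟨π, hπ⟩ : ∃ π : ↥N →* Bar N, π = QuotientGroup.mk' (oddCore ↥N) := ⟨_, rfl⟩
  have hπ1 : ∀ (y : G) (hy : y ∈ N), π ⟨y, hy⟩ = QuotientGroup.mk ⟨y, hy⟩ := by
    intro y hy; rw [hπ]; rfl
  have hα2 : act N ⟨a, ha⟩ * act N ⟨a, ha⟩ = 1 := by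
    rw [← act_mul ha ha, act_congr (mul_mem ha ha) haa]
    exact map_one (act N)
  obtain ⟨g, hg⟩ : ∃ g : ↥J →* Bar N, g = π.comp (Subgroup.inclusion hJN) := ⟨_, rfl⟩
  have hg1 : ∀ z : ↥J, g z = QuotientGroup.mk ⟨z, hJN z.2⟩ := by
    intro z; rw [hg, ← hπ1]; rfl
  have hgf : g.range ≤ GH.L2Aut.fixSub (act N ⟨a, ha⟩) := by
    rintro _ ⟨z, rfl⟩
    change act N ⟨a, ha⟩ (g z) = g z
    rw [hg1, act_mk ha (hJN z.2)]
    congr 1
    exact Subtype.ext (by change a * z * a⁻¹ = z; rw [← hJa z z.2]; group)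
  have hper : ⁅(⊤ : Subgroup ↥J), (⊤ : Subgroup ↥J)⁆ = ⊤ := by
    apply Subgroup.map_injective J.subtype_injective
    rw [Subgroup.map_commutator, ← MonoidHom.range_eq_map, Subgroup.range_subtype]
    exact hE.perfect
  have hker : g.ker ≤ oddCore ↥J := by
    intro z hz
    rw [MonoidHom.mem_ker, hg1, mk_eq_one_iff] at hz
    exact (Cfsg.Agent.Intrinsic.Basic.mem_core_iff z.2).mp (inf_core_le hJN ⟨z.2, hz⟩)
  have h60 := card_bar B hσ
  have hodd' : Odd (Nat.card (oddCore ↥J)) := by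
    have := odd_card_core J
    rwa [core, Subgroup.card_map_of_injective J.subtype_injective] at this
  have hcE : 60 ≤ Nat.card g.range := by
    have h5 := Subgroup.index_dvd_of_le hker
    rw [Subgroup.index_ker, h60] at h5
    exact Nat.le_of_dvd Nat.card_pos h5
  have hgp : ⁅g.range, g.range⁆ = g.range := by
    rw [MonoidHom.range_eq_map, ← Subgroup.map_commutator, hper]
  rcases PumpL2.field_of_perfect R hα2 hgf hgp hcE with h3 | ⟨h3, h4⟩
  · exact absurd ((act_eq_one_iff ha).mp h3) hf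
  refine ⟨F, i1, i2, ?_, R, h3⟩
  rw [← Nat.card_eq_fintype_card]
  refine card_of_subnormal R hα2 h3 h4 g hgf hper (Cores.pPrimeCore_normal 2) hodd' h60 hker ?_
  -- subnormality
  obtain ⟨f, hf1⟩ : ∃ f : ↥(N ⊓ centralizer ({a} : Set G)) →* ↥(GH.L2Aut.fixSub (act N ⟨a, ha⟩)),
      ∀ z, ((f z : ↥(GH.L2Aut.fixSub (act N ⟨a, ha⟩))) : Bar N) = QuotientGroup.mk ⟨z, z.2.1⟩ := by
    refine ⟨(π.comp (Subgroup.inclusion inf_le_left)).codRestrict _ ?_, fun z => ?_⟩
    · intro z
      change act N ⟨a, ha⟩ (π ⟨z, z.2.1⟩) = π ⟨z, z.2.1⟩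
      rw [hπ1, act_mk ha z.2.1]
      congr 1
      exact Subtype.ext (by change a * z * a⁻¹ = z; rw [← comm_c z.2.2]; group)
    · rw [← hπ1]; rfl
  have hfs : Function.Surjective f := by
    rintro ⟨z, hz⟩
    obtain ⟨⟨n, hn⟩, rfl⟩ := QuotientGroup.mk_surjective z
    have hz' : act N ⟨a, ha⟩ (QuotientGroup.mk ⟨n, hn⟩) = QuotientGroup.mk ⟨n, hn⟩ := hz
    rw [act_mk ha hn, eq_comm, mk_eq_iff] at hz'
    obtain ⟨o, ho, hco⟩ := Intrinsic.Lifting.exists_commute (n := 1) (odd_card_core N)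
      (by rw [pow_one, pow_two, haa])
      (Cfsg.Agent.Intrinsic.Basic.normalizer_le_normalizer_core N ha) hz'
    refine ⟨⟨n * o, mul_mem hn (core_le N ho), mem_c hco.symm⟩, Subtype.ext ?_⟩
    rw [hf1]
    refine (mk_eq_iff (mul_mem hn (core_le N ho)) hn).mpr ?_
    rw [mul_inv_rev, inv_mul_cancel_right]
    exact inv_mem ho
  have h5 : (J.subgroupOf (N ⊓ centralizer ({a} : Set G))).IsSubnormal := hE.2.1
  have h6 := h5.map hfs
  convert h6 using 1
  ext z
  constructor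
  · rintro ⟨w, hw⟩
    refine ⟨⟨w, hE.le w.2⟩, w.2, Subtype.ext ?_⟩
    rw [hf1]
    rw [hg1] at hw
    exact hw
  · rintro ⟨w, hw, rfl⟩
    refine ⟨⟨w, hw⟩, ?_⟩
    rw [hg1]
    exact (hf1 w).symm

/-- the world of branch A7 with inner `PSL₂(q)` triples -/
def Wi (G : Type u) [Group G] : Prop :=
  Nodes.Types G fun _ L => IsL2 (Bar L) ∨ IsAlt 7 (Bar L)

/-- (7.0) with inner `PSL₂(q)` triples -/
def Seven0i (G : Type u) [Group G] [Finite G] : Prop :=
  ∀ (x a t : G) (L : Subgroup G) (M : Lab L) (i j k l : Fin 7), IsTriple x a L →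
  i ≠ j → i ≠ k → i ≠ l → j ≠ k → j ≠ l → k ≠ l → M.φ x = swap i j * swap k l →
  orderOf t = 2 → t * a = a * t → t * x = x * t → t ∈ normalizer (L : Set G) → M.φ t = swap i j →
  ∃ N : Subgroup G, IsTriple x t N ∧
    ((Fixes a N ∧ M.cmp t ≤ N ∧ ∃ M' : Lab5 N (M.φ t), ∀ y ∈ M.cmp t, M'.φ y = M.φ y) ∨
     (a ∈ normalizer (N : Set G) ∧ M.cmp t ≤ N ∧
        ∃ M' : Lab N, M'.φ a = swap i j ∧ ∀ y ∈ M.cmp t, M'.φ y = M.φ y) ∨
     (cj a N ≠ N ∧ M.cmp t = diag (centralizer ({t} : Set G)) N a ∧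
        ∃ M' : Lab5 N (M.φ t), ∀ y ∈ M.cmp t, M'.φ y = M.φ y) ∨
     (M.cmp t ≤ N ∧ ¬ Fixes a N ∧ IsInner x N ∧ ∃ (ha : a ∈ normalizer (N : Set G)) (F : Type)
        (_ : Field F) (_ : Fintype F), Fintype.card F = 25 ∧ ∃ R : GH.L2Aut.Rep F (Bar N),
        R.fld (act N ⟨a, ha⟩) ≠ 1))

/-- **(7.0)** -/
theorem seven0i (hW : Wi G) : Seven0i G := by
  intro x a t L M i j k l T hij hik hil hjk hjl hkl hx ht hta htx htL htφ
  have htt := sq_of_order ht
  have haa := sq_of_order T.inva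
  have h5 : (fixIn Finset.univ (M.φ t)).card = 5 := by rw [htφ]; exact card_fix_swap hij
  obtain ⟨d, hd, hda, hdt, hdL, hd1, hdφ⟩ := exists_d M T hx hij hik hil hjk hjl ht hta htx htL htφ
  have hsub : fixIn Finset.univ (M.φ x) ⊆ fixIn Finset.univ (M.φ t) := by
    intro p hp
    rw [mem_fixIn] at hp ⊢
    refine ⟨hp.1, ?_⟩
    rw [htφ]
    apply swap_apply_of_ne_of_ne
    · rintro rfl
      have h6 := hp.2
      rw [hx, Perm.mul_apply, swap_apply_of_ne_of_ne hik hil, swap_apply_left] at h6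
      exact hij h6.symm
    · rintro rfl
      have h6 := hp.2
      rw [hx, Perm.mul_apply, swap_apply_of_ne_of_ne hjk hjl, swap_apply_right] at h6
      exact hij h6
  have hnf := not_fixes_cmp M htL htt h5 hsub hdL hd1 hdφ
  have hM := M.isComp_cmp_of T.comp htL htt (by omega)
  rw [inf_comm] at hM
  obtain ⟨N, TN, -, hor⟩ := UGT.PumpGen.pump T.invx ht haa hta htx hM hd hda hdt hnf
  refine ⟨N, TN, ?_⟩
  obtain ⟨B, hB⟩ := M.exists_cmp_five htL htt (by omega) (by omega)
  rcases hor with ⟨haN, hle⟩ | ⟨hne, hJ⟩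
  · have hE : IsComp (N ⊓ centralizer ({a} : Set G)) (M.cmp t) :=
      hM.restrict (inf_le_inf_right _ TN.comp.le) (le_inf hle (hM.le.trans inf_le_right))
    rcases hW x t N TN with h2 | h7
    · obtain ⟨y, hy, hyJ, hy1⟩ := exists_y M T hx hij hik hil hjk hjl hkl ht hta htx htL htφ hd hdt hdL
        hd1 hdφ
      have hyc : y ∉ core (M.cmp t) := fun h => hy1 ((cmp_core_iff M htL htt h5 hyJ).mpr h)
      rcases fixes_or_field B h5 TN T.comm.symm haN haa hE h2 hy hyJ hyc with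
        hf | ⟨hf, hin, F, i1, i2, hF, R, hR⟩
      · left
        refine ⟨hf, hle, ?_⟩
        obtain ⟨hc1, hc2⟩ := isComp_cen TN.comp (mem_c hta.symm) haa hf
        have hE2 : IsComp (N ⊓ centralizer ({a} : Set G)) (cen N a) :=
          hc1.restrict (inf_le_inf_right _ TN.comp.le)
            (le_inf (Cen.cen_le N a) (Cen.cen_le_centralizer N a))
        have hle2 : M.cmp t ≤ cen N a := by
          rw [← hE.pElem_eq]
          exact PComponents.pElem_mono hE.le
        have heq := hE.eq_of_le hE2 hle2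
        obtain ⟨A, hA⟩ := Mod.exists_extend_five B (by omega) (by omega) (K := N)
          (by rw [heq]; exact hc2)
        exact ⟨A, fun y hy => (hA y hy).trans (hB y hy)⟩
      · right; right; right
        exact ⟨hle, hf, hin, haN, F, i1, i2, hF, R, hR⟩
    · right; left
      exact ⟨haN, hle, lab_of_alt M hij htL htt htφ haN haa hE h7⟩
  · right; right; left
    refine ⟨hne, hJ, ?_⟩
    have hc : center (Bar N) = ⊥ := by
      rcases hW x t N TN with h2 | ⟨⟨e⟩⟩
      · exact RedR.center_of_L2 h2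
      · obtain ⟨M₀⟩ := Mod.nonempty_of_equiv (K := N) (S := (Finset.univ : Finset (Fin 7)))
          (by rw [Finset.card_univ, Fintype.card_fin]) (Ω := Fin 7) (by rw [Finset.card_univ]) e
        exact RedR.center_bar M₀
    obtain ⟨M', hM'⟩ := lab_of_diag h5 TN.comp hta haa hne hJ hc B
    exact ⟨M', fun y hy => (hM' y hy).trans (hB y hy)⟩

end Cfsg.Agent.UGT.A7.SevenZero
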