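import Cfsg.Agent.UGT.A7.EightRank

/-!
# Sectional rank of `(P × R) . 2`, the top element interchanging the centers
-/

set_option autoImplicit false

namespace Cfsg.Agent.UGT.A7

open Subgroup Cfsg Cfsg.Agent.TwoFusion.SectionalRank

variable {G : Type*} [Group G]

/-- a subgroup of order at least 4 of `P` contains `z` -/
theorem EightS.mem_of_card [Finite G] {P V : Subgroup G} {z : G} (h : EightS P z) (hV : V ≤ P)
    (hc : 4 ≤ Nat.card V) : z ∈ V := by
  by_contra hz
  -- the map `V × Bool → P`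
  let f : ↥V × Bool → ↥P := fun x => ⟨x.1 * (bif x.2 then z else 1), P.mul_mem (hV x.1.2) (by
    cases x.2
    · exact P.one_mem
    · exact h.mem)⟩
  have hf : Function.Injective f := by
    rintro ⟨⟨v, hv⟩, i⟩ ⟨⟨w, hw⟩, j⟩ he
    have he' : v * (bif i then z else 1) = w * (bif j then z else 1) := congrArg Subtype.val he
    cases i <;> cases j <;> simp only [cond_true, cond_false, mul_one] at he'
    · subst he'; rfl
    · exfalso; apply hz
      have := V.mul_mem (V.inv_mem hw) hv
      rwa [he', inv_mul_cancel_left] at this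
    · exfalso; apply hz
      have := V.mul_mem (V.inv_mem hv) hw
      rwa [← he', inv_mul_cancel_left] at this
    · have h1 := mul_right_cancel he'
      subst h1; rfl
  have h1 : Nat.card (↥V × Bool) ≤ Nat.card P := Nat.card_le_card_of_injective f hf
  rw [Nat.card_prod, h.card] at h1
  have h2 : Nat.card Bool = 2 := by simp
  rw [h2] at h1
  have hV4 : Nat.card V = 4 := by omega
  have hsurj : Function.Surjective f := by
    apply (Nat.bijective_iff_injective_and_card f).2 ⟨hf, by
      rw [Nat.card_prod, h2, hV4, h.card]⟩ |>.2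
  have hcomm : ∀ v ∈ V, ∀ w ∈ V, v * w = w * v := by
    have : IsMulCommutative V := by
      have h3 : Nat.card V = 2 ^ 2 := by rw [hV4]; norm_num
      have hp : Fact (Nat.Prime 2) := ⟨Nat.prime_two⟩
      exact IsPGroup.isMulCommutative_of_card_eq_prime_sq h3
    intro v hv w hw
    exact congrArg Subtype.val (this.is_comm.comm (⟨v, hv⟩ : V) ⟨w, hw⟩)
  obtain ⟨p, hp, q, hq, hpq⟩ := h.nab
  obtain ⟨⟨⟨v, hv⟩, i⟩, hvi⟩ := hsurj ⟨p, hp⟩
  obtain ⟨⟨⟨w, hw⟩, j⟩, hwj⟩ := hsurj ⟨q, hq⟩
  have e1 : p = v * (bif i then z else 1) := (congrArg Subtype.val hvi).symm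
  have e2 : q = w * (bif j then z else 1) := (congrArg Subtype.val hwj).symm
  apply hpq
  rw [e1, e2]
  have hvw := hcomm v hv w hw
  have hzv := h.cen v (hV hv)
  have hzw := h.cen w (hV hw)
  cases i <;> cases j <;> simp only [cond_true, cond_false, mul_one]
  · exact hvw
  · rw [← mul_assoc, hvw, mul_assoc, mul_assoc, ← hzv]
  · rw [mul_assoc, hzw, ← mul_assoc, hvw, mul_assoc]
  · calc v * z * (w * z) = v * (z * w) * z := by group
      _ = v * (w * z) * z := by rw [hzw]
      _ = (v * w) * (z * z) := by group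
      _ = (w * v) * (z * z) := by rw [hvw]
      _ = w * (v * z) * z := by group
      _ = w * (z * v) * z := by rw [hzv]
      _ = _ := by group

/-- a nontrivial normal subgroup of `P` contains `z` -/
theorem EightS.mem_of_normal {P Y : Subgroup G} {z : G} (h : EightS P z) {y : G} (hy : y ∈ Y) (hyP : y ∈ P)
    (hy1 : y ≠ 1) (hn : ∀ p ∈ P, p * y * p⁻¹ ∈ Y) : z ∈ Y := by
  by_cases hc : ∀ q ∈ P, y * q = q * y
  · rcases h.cen' y hyP hc with h1 | h1
    · exact absurd h1 hy1
    · exact h1 ▸ hy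
  · push Not at hc
    obtain ⟨q, hq, hyq⟩ := hc
    rcases h.com q hq y hyP with h1 | h1
    · exfalso
      apply hyq
      calc y * q = (q * y * q⁻¹ * y⁻¹)⁻¹ * (q * y) := by group
        _ = q * y := by rw [h1, inv_one, one_mul]
    · rw [← h1]
      exact Y.mul_mem (hn q hq) (Y.inv_mem hy)

/-- subgroups of a group of order 8 -/
theorem card_cases [Finite G] {P V : Subgroup G} (hP : Nat.card P = 8) (hV : V ≤ P) :
    Nat.card V = 1 ∨ Nat.card V = 2 ∨ Nat.card V = 4 ∨ Nat.card V = 8 := by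
  have h1 : Nat.card V ∣ 8 := hP ▸ card_dvd_of_le hV
  have h2 : Nat.card V ∈ Nat.divisors 8 := Nat.mem_divisors.2 ⟨h1, by norm_num⟩
  have h3 : Nat.divisors 8 = {1, 2, 4, 8} := by decide
  rw [h3] at h2
  simpa only [Finset.mem_insert, Finset.mem_singleton] using h2

section

variable {T P R : Subgroup G} {z c : G}

theorem central_z (hP : EightS P z) (h : TwoP T P R) {t : G} (ht : t ∈ T) : t * z = z * t := by
  obtain ⟨p, hp, r, hr, rfl⟩ := h.sup t ht
  calc p * r * z = p * (r * z) := by group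
    _ = p * (z * r) := by rw [h.comm z hP.mem r hr]
    _ = (p * z) * r := by group
    _ = (z * p) * r := by rw [hP.cen p hp]
    _ = _ := by group

theorem central_c (hR : EightS R c) (h : TwoP T P R) {t : G} (ht : t ∈ T) : t * c = c * t :=
  central_z hR h.symm ht

/-- elements commuting with the noncentral `v ∈ P`: their commutators lie in `R` -/
theorem comm_mem_R (hP : EightS P z) (h : TwoP T P R) {v : G} (hv : v ∈ P)
    (hvc : ∃ w ∈ P, v * w ≠ w * v) {s t : G} (hs : s ∈ T) (ht : t ∈ T) (hsv : s * v = v * s)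
    (htv : t * v = v * t) : s * t * s⁻¹ * t⁻¹ ∈ R := by
  obtain ⟨p, hp, r, hr, rfl⟩ := h.sup s hs
  obtain ⟨q, hq, r', hr', rfl⟩ := h.sup t ht
  obtain ⟨w, hw, hvw⟩ := hvc
  have key : ∀ p ∈ P, ∀ r ∈ R, p * r * v = v * (p * r) → p * v = v * p := by
    intro p hp r hr h1
    have h2 : p * v * r = v * p * r := by
      calc p * v * r = p * (v * r) := by group
        _ = p * (r * v) := by rw [h.comm v hv r hr]
        _ = p * r * v := by group
        _ = v * (p * r) := h1
        _ = _ := by group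
    exact mul_right_cancel h2
  have hpq := hP.ab v hv w hw hvw p hp q hq (key p hp r hr hsv) (key q hq r' hr' htv)
  have e1 := h.comm q hq r hr
  have e2 := h.comm p hp r' hr'
  have e3 : p * r * (q * r') = (p * q) * (r * r') := by
    calc p * r * (q * r') = p * (r * q) * r' := by group
      _ = p * (q * r) * r' := by rw [e1]
      _ = _ := by group
  have e4 : q * r' * (p * r) = (q * p) * (r' * r) := by
    calc q * r' * (p * r) = q * (r' * p) * r := by group
      _ = q * (p * r') * r := by rw [e2]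
      _ = _ := by group
  have e5 : p * r * (q * r') * (p * r)⁻¹ * (q * r')⁻¹ = (p * r * (q * r')) * (q * r' * (p * r))⁻¹ := by
    group
  rw [e5, e3, e4, hpq]
  have e6 : q * p * (r * r') * (q * p * (r' * r))⁻¹ = (q * p) * (r * r' * (r' * r)⁻¹) * (q * p)⁻¹ := by
    group
  rw [e6]
  have h7 : r * r' * (r' * r)⁻¹ ∈ R := R.mul_mem (R.mul_mem hr hr') (R.inv_mem (R.mul_mem hr' hr))
  have h8 := h.comm (q * p) (P.mul_mem hq hp) _ h7
  rw [h8, mul_inv_cancel_right]
  exact h7

/-- `z ∉ R` -/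
theorem z_notin (hP : EightS P z) (h : TwoP T P R) : z ∉ R := fun h1 => hP.ne (h.inf z hP.mem h1)

theorem z_ne_c (hP : EightS P z) (hR : EightS R c) (h : TwoP T P R) : z ≠ c := fun h1 =>
  z_notin hP h (h1 ▸ hR.mem)

/-- no element `u` interchanging `z` and `c` centralizes modulo `Z(T)` a noncentral element of `P` -/
theorem no_centralize (hP : EightS P z) (hR : EightS R c) (h : TwoP T P R) {u v ζ : G}
    (hu : ∀ t ∈ T, u * t * u⁻¹ ∈ T) (huc : u * c * u⁻¹ = z) (hv : v ∈ P) (hvc : ∃ w ∈ P, v * w ≠ w * v)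
    (hζ : ∀ t ∈ T, t * ζ = ζ * t) (huv : u * v * u⁻¹ = ζ * v) : False := by
  obtain ⟨r, hr, s, hs, hrs⟩ := hR.nab
  have h1 : ∀ r ∈ R, (u * r * u⁻¹) * v = v * (u * r * u⁻¹) := by
    intro r hr
    have hrT := hu r (h.RT hr)
    have e1 : (u * r * u⁻¹) * (u * v * u⁻¹) = (u * v * u⁻¹) * (u * r * u⁻¹) := by
      calc (u * r * u⁻¹) * (u * v * u⁻¹) = u * (r * v) * u⁻¹ := by group
        _ = u * (v * r) * u⁻¹ := by rw [h.comm v hv r hr]
        _ = _ := by group
    rw [huv] at e1
    have e2 : ζ * (u * r * u⁻¹ * v) = ζ * (v * (u * r * u⁻¹)) := by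
      calc ζ * (u * r * u⁻¹ * v) = (ζ * (u * r * u⁻¹)) * v := by group
        _ = (u * r * u⁻¹ * ζ) * v := by rw [hζ _ hrT]
        _ = (u * r * u⁻¹) * (ζ * v) := by group
        _ = _ := by rw [e1]; group
    exact mul_left_cancel e2
  have h2 := comm_mem_R hP h hv hvc (hu r (h.RT hr)) (hu s (h.RT hs)) (h1 r hr) (h1 s hs)
  have h3 : (u * r * u⁻¹) * (u * s * u⁻¹) * (u * r * u⁻¹)⁻¹ * (u * s * u⁻¹)⁻¹ =
      u * (r * s * r⁻¹ * s⁻¹) * u⁻¹ := by group
  rw [h3] at h2
  rcases hR.com r hr s hs with h4 | h4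
  · apply hrs
    calc r * s = (r * s * r⁻¹ * s⁻¹) * (s * r) := by group
      _ = s * r := by rw [h4, one_mul]
  · rw [h4, huc] at h2
    exact z_notin hP h h2

theorem four_set (hP : EightS P z) (hR : EightS R c) (h : TwoP T P R) :
    ({1, z, c, c * z} : Set G).ncard = 4 := by
  have h1 : z ≠ c := z_ne_c hP hR h
  have h2 : z ≠ 1 := hP.ne
  have h3 : c ≠ 1 := hR.ne
  have h4 : c * z ≠ 1 := fun h5 => h1 (by
    have := eq_inv_of_mul_eq_one_right h5
    rw [this, inv_eq_of_mul_eq_one_right hR.sq])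
  have h5 : c * z ≠ z := fun h6 => h3 (by simpa using h6)
  have h6 : c * z ≠ c := fun h6 => h2 (by simpa using h6)
  rw [Set.ncard_insert_of_notMem, Set.ncard_insert_of_notMem, Set.ncard_insert_of_notMem,
    Set.ncard_singleton]
  · simpa using h6.symm
  · simp only [Set.mem_insert_iff, Set.mem_singleton_iff, not_or]
    exact ⟨h1, h5.symm⟩
  · simp only [Set.mem_insert_iff, Set.mem_singleton_iff, not_or]
    exact ⟨h2.symm, h3.symm, h4.symm⟩

/-- **Sections of `(P × R) . 2`.** -/
theorem card_le_swap [Finite G] {M X Y : Subgroup G} (hP : EightS P z) (hR : EightS R c)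
    (h : TwoP T P R) (hidx : T.relIndex M ≤ 2) (hidx0 : T.relIndex M ≠ 0)
    (hn : ∀ u ∈ M, ∀ t ∈ T, u * t * u⁻¹ ∈ T)
    (hsw : ∀ u ∈ M, u ∉ T → u * z * u⁻¹ = c ∧ u * c * u⁻¹ = z) (hXY : ElemSection 2 X Y) (hX : X ≤ M) :
    Nat.card X ≤ 16 * Nat.card Y := by
  by_contra hcon
  push Not at hcon
  have hrT : SectionalPRankLE 2 (2 + 2) T := h.rank hP.rank hR.rank
  have hVi : (X ⊓ T).relIndex X ≤ 2 := by
    rw [inf_relIndex_left]
    exact (relIndex_le_of_le_right hX hidx0).trans hidx
  have hXV := card_eq_relIndex_mul X (X ⊓ T) inf_le_left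
  have hVY : ElemSection 2 (X ⊓ T) (Y ⊓ T) := hXY.inf T
  have hV16 := card_le_of_rank hrT hVY inf_le_right
  have hYT : Y ≤ T := by
    by_contra hYT
    obtain ⟨y, hy, hyT⟩ := Set.not_subset.1 hYT
    -- `|Y| = 2 |Y ∩ T|` and `|X| ≤ 2 |X ∩ T|`
    have h1 := card_eq_relIndex_mul Y (Y ⊓ T) inf_le_left
    have h2 : (Y ⊓ T).relIndex Y ≠ 1 := by
      intro h3
      rw [relIndex_eq_one] at h3
      exact hyT (h3 hy).2
    have h3 : (Y ⊓ T).relIndex Y ≠ 0 := by
      rw [inf_relIndex_left]
      intro h4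
      apply hidx0
      exact relIndex_eq_zero_of_le_right (hXY.le.trans hX) h4
    have h4 : 2 ≤ (Y ⊓ T).relIndex Y := by omega
    have h5 : Nat.card X ≤ 2 * Nat.card (X ⊓ T : Subgroup G) := by
      rw [hXV]; exact Nat.mul_le_mul_right _ hVi
    have h6 : 2 * Nat.card (Y ⊓ T : Subgroup G) ≤ Nat.card Y := by
      rw [h1]; exact Nat.mul_le_mul_right _ h4
    have h7 : (2 : ℕ) ^ (2 + 2) = 16 := by norm_num
    rw [h7] at hV16
    omega
  obtain ⟨u, huX, huT⟩ : ∃ u ∈ X, u ∉ T := by
    by_contra h1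
    push Not at h1
    have h2 := card_le_of_rank hrT hXY (fun x hx => h1 x hx)
    norm_num at h2
    omega
  obtain ⟨V, hVdef⟩ : ∃ V, V = X ⊓ T := ⟨_, rfl⟩
  have hVT : V ≤ T := hVdef ▸ inf_le_right
  have hVX : V ≤ X := hVdef ▸ inf_le_left
  have hYV : Y ≤ V := hVdef ▸ le_inf hXY.le hYT
  have hsV : ElemSection 2 V Y := by
    have h1 := hXY.inf T
    rw [inf_of_le_left hYT] at h1
    exact hVdef ▸ h1
  have hV8 : 8 * Nat.card Y < Nat.card V := by
    rw [← hVdef] at hXV hVi
    have : Nat.card X ≤ 2 * Nat.card V := by rw [hXV]; exact Nat.mul_le_mul_right _ hVi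
    omega
  have hYpos : 0 < Nat.card Y := Nat.card_pos
  obtain ⟨hP1, hP2⟩ := h.card_section hR.rank hsV hVT
  obtain ⟨hR1, hR2⟩ := h.symm.card_section hP.rank hsV hVT
  rw [hR.card] at hP2
  rw [hP.card] at hR2
  have aux : ∀ v w m n : ℕ, 0 < n → 8 * n < m → m * w ≤ 2 ^ 2 * v * n → 2 * w < v ∨ v = 0 := by
    intro v w m n hn hm hle
    by_contra h1
    push Not at h1
    have h2 : 2 ^ 2 * v * n ≤ 8 * w * n := by nlinarith
    have h3 : 0 < w ∨ w = 0 := by omega
    rcases h3 with h3 | h3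
    · have h4 : 8 * n * w < m * w := Nat.mul_lt_mul_of_pos_right hm h3
      nlinarith
    · omega
  have hVP : 2 * Nat.card (Y ⊓ P : Subgroup G) < Nat.card (V ⊓ P : Subgroup G) := by
    rcases aux _ _ _ _ hYpos hV8 hP1 with h1 | h1
    · exact h1
    · exact absurd h1 Nat.card_pos.ne'
  have hVR : 2 * Nat.card (Y ⊓ R : Subgroup G) < Nat.card (V ⊓ R : Subgroup G) := by
    rcases aux _ _ _ _ hYpos hV8 hR1 with h1 | h1
    · exact h1
    · exact absurd h1 Nat.card_pos.ne'
  have hYP0 : 0 < Nat.card (Y ⊓ P : Subgroup G) := Nat.card_pos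
  have hYR0 : 0 < Nat.card (Y ⊓ R : Subgroup G) := Nat.card_pos
  have hcVP := card_cases hP.card (inf_le_right : V ⊓ P ≤ P)
  have hcVR := card_cases hR.card (inf_le_right : V ⊓ R ≤ R)
  have hcYP := card_cases hP.card (inf_le_right : Y ⊓ P ≤ P)
  have hcYR := card_cases hR.card (inf_le_right : Y ⊓ R ≤ R)
  have hzV : z ∈ V := (hP.mem_of_card (inf_le_right : V ⊓ P ≤ P) (by omega)).1
  have hcV : c ∈ V := (hR.mem_of_card (inf_le_right : V ⊓ R ≤ R) (by omega)).1
  obtain ⟨huz, huc⟩ := hsw u (hX huX) huT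
  have hczY : c * z ∈ Y := by
    have h1 := hXY.comm u huX z (hVX hzV)
    rw [huz, inv_eq_of_mul_eq_one_right hP.sq] at h1
    exact h1
  have hnT := hn u (hX huX)
  by_cases hzY : z ∈ Y
  · -- `Y = Z(T)`, `V = T`
    have hcY : c ∈ Y := by
      have := Y.mul_mem hczY hzY
      rwa [mul_assoc, hP.sq, mul_one] at this
    have h1 : 1 < Nat.card (Y ⊓ P : Subgroup G) := by
      rw [Finite.one_lt_card_iff_nontrivial]
      exact ⟨⟨⟨z, hzY, hP.mem⟩, 1, fun h2 => hP.ne (congrArg Subtype.val h2)⟩⟩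
    have h2 : 1 < Nat.card (Y ⊓ R : Subgroup G) := by
      rw [Finite.one_lt_card_iff_nontrivial]
      exact ⟨⟨⟨c, hcY, hR.mem⟩, 1, fun h2 => hR.ne (congrArg Subtype.val h2)⟩⟩
    have hPV : P ≤ V := by
      have h3 : V ⊓ P = P := eq_of_le_of_card_ge inf_le_right (by rw [hP.card]; omega)
      exact inf_eq_right.1 h3
    have hRV : R ≤ V := by
      have h3 : V ⊓ R = R := eq_of_le_of_card_ge inf_le_right (by rw [hR.card]; omega)
      exact inf_eq_right.1 h3
    have hT64 : Nat.card T = 64 := by rw [h.card, hP.card, hR.card]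
    have hV64 : Nat.card V ≤ 64 := by
      rw [← hT64]; exact Nat.card_le_card_of_injective _ (inclusion_injective hVT)
    have hY7 : Nat.card Y < 8 := by omega
    have hYd : Nat.card Y ∣ 64 := hT64 ▸ card_dvd_of_le hYT
    have hY4 : Nat.card Y ≤ 4 := by
      by_contra h5
      have h6 : Nat.card Y = 5 ∨ Nat.card Y = 6 ∨ Nat.card Y = 7 := by omega
      rcases h6 with h6 | h6 | h6 <;> rw [h6] at hYd <;> norm_num at hYd
    have hYset : (Y : Set G) = {1, z, c, c * z} := by
      symm
      apply Set.eq_of_subset_of_ncard_le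
      · intro t ht
        simp only [Set.mem_insert_iff, Set.mem_singleton_iff] at ht
        rcases ht with rfl | rfl | rfl | rfl
        · exact Y.one_mem
        · exact hzY
        · exact hcY
        · exact hczY
      · rw [four_set hP hR h]
        exact hY4
      · exact Set.toFinite _
    have hYc : ∀ y ∈ Y, ∀ t ∈ T, t * y = y * t := by
      intro y hy t ht
      have h5 : y ∈ (Y : Set G) := hy
      rw [hYset] at h5
      simp only [Set.mem_insert_iff, Set.mem_singleton_iff] at h5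
      rcases h5 with rfl | rfl | rfl | rfl
      · rw [mul_one, one_mul]
      · exact central_z hP h ht
      · exact central_c hR h ht
      · rw [← mul_assoc, central_c hR h ht, mul_assoc, central_z hP h ht, mul_assoc]
    obtain ⟨v, hv, w, hw, hvw⟩ := hP.nab
    have h5 := hXY.comm u huX v (hVX (hPV hv))
    refine no_centralize hP hR h hnT huc hv ⟨w, hw, hvw⟩ (hYc _ h5) ?_
    group
  · -- `Y = {1, cz}`
    have hcY : c ∉ Y := fun h1 => hzY (by
      have := Y.mul_mem h1 hczY
      rwa [← mul_assoc, hR.sq, one_mul] at this)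
    have hYn : ∀ t ∈ V, ∀ y ∈ Y, t * y * t⁻¹ ∈ Y := fun t ht y hy => hXY.conj_mem (hVX ht) hy
    have hVP4 : Nat.card (V ⊓ P : Subgroup G) = 4 := by
      by_contra hne
      have h8 : Nat.card (V ⊓ P : Subgroup G) = 8 := by omega
      have hPV : P ≤ V := inf_eq_right.1 (eq_of_le_of_card_ge inf_le_right (by rw [hP.card, h8]))
      obtain ⟨p, hp, q, hq, hpq⟩ := hP.nab
      have h1 := hsV.comm p (hPV hp) q (hPV hq)
      rcases hP.com p hp q hq with h2 | h2
      · apply hpq
        calc p * q = (p * q * p⁻¹ * q⁻¹) * (q * p) := by group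
          _ = q * p := by rw [h2, one_mul]
      · exact hzY (h2 ▸ h1)
    have hVR4 : Nat.card (V ⊓ R : Subgroup G) = 4 := by
      by_contra hne
      have h8 : Nat.card (V ⊓ R : Subgroup G) = 8 := by omega
      have hPV : R ≤ V := inf_eq_right.1 (eq_of_le_of_card_ge inf_le_right (by rw [hR.card, h8]))
      obtain ⟨p, hp, q, hq, hpq⟩ := hR.nab
      have h1 := hsV.comm p (hPV hp) q (hPV hq)
      rcases hR.com p hp q hq with h2 | h2
      · apply hpq
        calc p * q = (p * q * p⁻¹ * q⁻¹) * (q * p) := by group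
          _ = q * p := by rw [h2, one_mul]
      · exact hcY (h2 ▸ h1)
    rw [hVP4] at hP2
    have hY3 : Nat.card Y < 4 := by omega
    have hYd : Nat.card Y ∣ 64 := by
      have hT64 : Nat.card T = 64 := by rw [h.card, hP.card, hR.card]
      exact hT64 ▸ card_dvd_of_le hYT
    have hY2 : Nat.card Y ≤ 2 := by
      by_contra h5
      have h6 : Nat.card Y = 3 := by omega
      rw [h6] at hYd
      norm_num at hYd
    have hcz1 : c * z ≠ 1 := fun h5 => z_ne_c hP hR h (by
      have := eq_inv_of_mul_eq_one_right h5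
      rw [this, inv_eq_of_mul_eq_one_right hR.sq])
    have hYset : (Y : Set G) = {1, c * z} := by
      symm
      apply Set.eq_of_subset_of_ncard_le
      · intro t ht
        simp only [Set.mem_insert_iff, Set.mem_singleton_iff] at ht
        rcases ht with rfl | rfl
        · exact Y.one_mem
        · exact hczY
      · rw [Set.ncard_pair hcz1.symm]
        exact hY2
      · exact Set.toFinite _
    have hYc : ∀ y ∈ Y, ∀ t ∈ T, t * y = y * t := by
      intro y hy t ht
      have h5 : y ∈ (Y : Set G) := hy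
      rw [hYset] at h5
      simp only [Set.mem_insert_iff, Set.mem_singleton_iff] at h5
      rcases h5 with rfl | rfl
      · rw [mul_one, one_mul]
      · rw [← mul_assoc, central_c hR h ht, mul_assoc, central_z hP h ht, mul_assoc]
    obtain ⟨v, hv, hv1, hvz⟩ : ∃ v ∈ V ⊓ P, v ≠ 1 ∧ v ≠ z := by
      by_contra h5
      push Not at h5
      have h6 : ((V ⊓ P : Subgroup G) : Set G) ⊆ {1, z} := by
        intro v hv
        simp only [Set.mem_insert_iff, Set.mem_singleton_iff]
        by_cases h7 : v = 1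
        · exact Or.inl h7
        · exact Or.inr (h5 v hv h7)
      have h7 := Set.ncard_le_ncard h6 (Set.toFinite _)
      have h8 : ((V ⊓ P : Subgroup G) : Set G).ncard = 4 := hVP4
      rw [h8, Set.ncard_pair hP.ne.symm] at h7
      omega
    have hvc : ∃ w ∈ P, v * w ≠ w * v := by
      by_contra h5
      push Not at h5
      rcases hP.cen' v hv.2 h5 with h6 | h6
      · exact hv1 h6
      · exact hvz h6
    have h5 := hXY.comm u huX v (hVX hv.1)
    refine no_centralize hP hR h hnT huc hv.2 hvc (hYc _ h5) ?_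
    group

end

end Cfsg.Agent.UGT.A7
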